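import Groth.Agent.DualCx.LocalDualityIso
import Groth.Agent.FreeCx.CompleteDomain
import Mathlib.RingTheory.AdicCompletion.Functoriality

/-!
# Matlis biduals and completions of finite modules
-/

set_option autoImplicit false
set_option linter.style.haveILetI false

open CategoryTheory

universe u

namespace Groth.Agent.DualCx

open InjHull

variable {A : Type u} [CommRing A] [IsLocalRing A] [IsNoetherianRing A] {E : Type u} [AddCommGroup E] [Module A E]
  {f : IsLocalRing.ResidueField A →ₗ[A] E}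

local notation "𝔪" => IsLocalRing.maximalIdeal A

theorem exists_pow_kills_hom (hf : IsInjectiveHull f) (M : Type u) [AddCommGroup M] [Module A M] [Module.Finite A M]
    (φ : M →ₗ[A] E) : ∃ n : ℕ, ∀ a ∈ 𝔪 ^ n, a • φ = 0 := by
  obtain ⟨n, hn⟩ := exists_uniform_pow 𝔪 (LinearMap.range φ) fun x => by
    obtain ⟨k, hk⟩ := MatlisLib.isPowerTorsion hf x.1
    exact ⟨k, fun a ha => Subtype.ext (hk a ha)⟩
  exact ⟨n, fun a ha => LinearMap.ext fun x => congrArg Subtype.val (hn a ha ⟨φ x, x, rfl⟩)⟩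

/-- The completion of a finite module is its bidual. -/
theorem nonempty_completion_bidual (hf : IsInjectiveHull f) (M : Type u) [AddCommGroup M] [Module A M]
    [Module.Finite A M] : Nonempty (AdicCompletion 𝔪 M ≃ₗ[A] ((M →ₗ[A] E) →ₗ[A] E)) := by
  let q : ∀ n : ℕ, M →ₗ[A] M ⧸ (𝔪 ^ n • ⊤ : Submodule A M) := fun n => Submodule.mkQ _
  have hfl : ∀ n : ℕ, IsFiniteLength A (M ⧸ (𝔪 ^ n • ⊤ : Submodule A M)) := fun n =>
    FreeCx.isFiniteLength_of_pow_kills _ n fun a ha => Module.mem_annihilator.2 fun x => by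
      obtain ⟨y, rfl⟩ := Submodule.Quotient.mk_surjective _ x
      rw [← Submodule.Quotient.mk_smul, Submodule.Quotient.mk_eq_zero]
      exact Submodule.smul_mem_smul ha trivial
  have hb := fun n => MatlisLib.applyₗ_bijective hf (hfl n) (MatlisLib.isPowerTorsion_of_isFiniteLength (hfl n))
  let Ψ : ∀ n : ℕ, ((M →ₗ[A] E) →ₗ[A] E) →ₗ[A] M ⧸ (𝔪 ^ n • ⊤ : Submodule A M) := fun n =>
    (LinearEquiv.ofBijective _ (hb n)).symm.toLinearMap ∘ₗ LinearMap.lcomp A E (LinearMap.lcomp A E (q n))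
  have hΨ : ∀ (n : ℕ) (L : (M →ₗ[A] E) →ₗ[A] E) (χ : M ⧸ (𝔪 ^ n • ⊤ : Submodule A M) →ₗ[A] E),
      χ (Ψ n L) = L (χ ∘ₗ q n) := fun n L χ =>
    LinearMap.congr_fun ((LinearEquiv.ofBijective _ (hb n)).apply_symm_apply
      (LinearMap.lcomp A E (LinearMap.lcomp A E (q n)) L)) χ
  have hsep : ∀ (n : ℕ) (v w : M ⧸ (𝔪 ^ n • ⊤ : Submodule A M)),
      (∀ χ : M ⧸ (𝔪 ^ n • ⊤ : Submodule A M) →ₗ[A] E, χ v = χ w) → v = w := fun n v w h =>
    (hb n).1 (LinearMap.ext h)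
  have hfac : ∀ (n : ℕ) (φ : M →ₗ[A] E), (∀ a ∈ 𝔪 ^ n, a • φ = 0) →
      ∃ χ : M ⧸ (𝔪 ^ n • ⊤ : Submodule A M) →ₗ[A] E, χ ∘ₗ q n = φ := fun n φ h =>
    ⟨Submodule.liftQ _ φ (Submodule.smul_le.2 fun a ha x _ => by
      rw [LinearMap.mem_ker, map_smul]
      exact LinearMap.congr_fun (h a ha) x), LinearMap.ext fun x => rfl⟩
  let T : ((M →ₗ[A] E) →ₗ[A] E) →ₗ[A] AdicCompletion 𝔪 M := AdicCompletion.lift 𝔪 Ψ fun {m n} hle =>
    LinearMap.ext fun L => hsep m _ _ fun χ => by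
      rw [hΨ]
      exact ((hΨ n L (χ ∘ₗ AdicCompletion.transitionMap 𝔪 M hle)).trans
        (congrArg L (LinearMap.ext fun x => rfl)))
  refine ⟨(LinearEquiv.ofBijective T ⟨(injective_iff_map_eq_zero _).2 fun L hL => LinearMap.ext fun φ => ?_,
    fun x => ?_⟩).symm⟩
  · obtain ⟨n, hn⟩ := exists_pow_kills_hom hf M φ
    obtain ⟨χ, rfl⟩ := hfac n φ hn
    rw [← hΨ, show Ψ n L = 0 from congrArg (fun y => y.1 n) hL, map_zero, LinearMap.zero_apply]
  · choose c hc using fun φ => exists_pow_kills_hom hf M φ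
    choose χ hχ using fun φ => hfac (c φ) φ (hc φ)
    have key : ∀ (φ : M →ₗ[A] E) (n : ℕ) (ψ : M ⧸ (𝔪 ^ n • ⊤ : Submodule A M) →ₗ[A] E), ψ ∘ₗ q n = φ →
        χ φ (x.1 (c φ)) = ψ (x.1 n) := fun φ n ψ hψ => by
      have h1 := x.2 (le_max_left (c φ) n)
      have h2 := x.2 (le_max_right (c φ) n)
      rw [← h1, ← h2]
      obtain ⟨y, hy⟩ := Submodule.Quotient.mk_surjective _ (x.1 (max (c φ) n))
      rw [← hy]
      exact (LinearMap.congr_fun (hχ φ) y).trans (LinearMap.congr_fun hψ y).symm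
    have kills : ∀ (φ : M →ₗ[A] E) (n : ℕ), c φ ≤ n → ∀ a ∈ 𝔪 ^ n, a • φ = 0 := fun φ n h a ha =>
      hc φ a (Ideal.pow_le_pow_right h ha)
    let L : (M →ₗ[A] E) →ₗ[A] E :=
      { toFun := fun φ => χ φ (x.1 (c φ))
        map_add' := fun φ φ' => by
          obtain ⟨ψ, hψ⟩ := hfac (max (c φ) (c φ')) φ (kills φ _ (le_max_left _ _))
          obtain ⟨ψ', hψ'⟩ := hfac (max (c φ) (c φ')) φ' (kills φ' _ (le_max_right _ _))
          rw [key φ _ ψ hψ, key φ' _ ψ' hψ', key (φ + φ') _ (ψ + ψ') (by rw [LinearMap.add_comp, hψ, hψ'])]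
          rfl
        map_smul' := fun a φ => by
          rw [key (a • φ) (c φ) (a • χ φ) (by rw [LinearMap.smul_comp, hχ])]
          rfl }
    refine ⟨L, AdicCompletion.ext fun n => hsep n _ _ fun ψ => ?_⟩
    show ψ (Ψ n L) = _
    rw [hΨ]
    exact key _ n ψ rfl

theorem nonempty_completion_bidual' (hf : IsInjectiveHull f) (H : Type*) [AddCommGroup H] [Module A H]
    [Module.Finite A H] : Nonempty (AdicCompletion 𝔪 H ≃ₗ[A] ((H →ₗ[A] E) →ₗ[A] E)) := by
  obtain ⟨n, p, hp⟩ := Module.Finite.exists_fin' A H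
  let g : ((Fin n → A) ⧸ LinearMap.ker p) ≃ₗ[A] H := LinearMap.quotKerEquivOfSurjective p hp
  obtain ⟨b⟩ := nonempty_completion_bidual hf ((Fin n → A) ⧸ LinearMap.ker p)
  exact ⟨(AdicCompletion.congr 𝔪 g.symm).restrictScalars A ≪≫ₗ b ≪≫ₗ LinearEquiv.congrLeft E A (LinearEquiv.congrLeft E A g)⟩

theorem annihilator_dual_eq (hf : IsInjectiveHull f) (H : Type*) [AddCommGroup H] [Module A H] [Module.Finite A H] :
    Module.annihilator A H = Module.annihilator A (H →ₗ[A] E) := by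
  obtain ⟨n, p, hp⟩ := Module.Finite.exists_fin' A H
  let g : ((Fin n → A) ⧸ LinearMap.ker p) ≃ₗ[A] H := LinearMap.quotKerEquivOfSurjective p hp
  rw [← g.annihilator_eq, ← (LinearEquiv.congrLeft E A g).annihilator_eq]
  refine le_antisymm (fun r hr => Module.mem_annihilator.2 fun φ => LinearMap.ext fun x => ?_)
    fun r hr => Module.mem_annihilator.2 fun x => MatlisLib.applyₗ_injective hf (LinearMap.ext fun φ => ?_)
  · rw [LinearMap.smul_apply, ← map_smul, Module.mem_annihilator.1 hr x, map_zero, LinearMap.zero_apply]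
  · rw [map_smul, map_zero, LinearMap.smul_apply, LinearMap.zero_apply, LinearMap.applyₗ_apply_apply,
      ← LinearMap.smul_apply, Module.mem_annihilator.1 hr φ, LinearMap.zero_apply]

end Groth.Agent.DualCx
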