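import Groth.Agent.DualCx.LocalDuality
import Groth.Agent.RGamma.Transfer
import Groth.Agent.LocCohLib.CechCompare
import Groth.Agent.MatlisLib.Local

/-!
# Local duality: complexes with finite cohomology, isomorphisms
-/

set_option autoImplicit false
set_option linter.style.haveILetI false

open CategoryTheory CategoryTheory.Limits CategoryTheory.Pretriangulated DerivedCategory

universe u

attribute [local instance] HasDerivedCategory.standard

namespace Groth.Agent.DualCx.LD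

open Groth.Agent.LocCohLib Groth.Agent.RGamma

variable {A : Type u} [CommRing A]

local notation "Hf" => DerivedCategory.homologyFunctor (ModuleCat A)

theorem isZero_gamma_high [IsNoetherianRing A] (J : DRing.Cx A) [∀ n, Injective (J.X n)] (N : ℤ)
    (hJ : ∀ n, N < n → IsZero (J.homology n)) : ∀ (l : List A) (n : ℤ), N + l.length < n →
      IsZero (((gammaCx (Ideal.span {x | x ∈ l})).obj J).homology n) := by
  intro l
  induction l with
  | nil =>
    intro n hn
    have hset : {x : A | x ∈ ([] : List A)} = ∅ := Set.eq_empty_iff_forall_notMem.2 fun x hx => List.not_mem_nil hx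
    rw [hset, Ideal.span_empty]
    haveI : ∀ n, IsIso ((gammaInc (⊥ : Ideal A) J).f n) := fun n =>
      (ConcreteCategory.isIso_iff_bijective _).2 ⟨fun x y h => Subtype.ext h, fun x =>
        ⟨⟨x, 1, fun c hc => by
          rw [pow_one, Ideal.mem_bot] at hc
          rw [hc, zero_smul]⟩, rfl⟩⟩
    haveI : IsIso (gammaInc (⊥ : Ideal A) J) := HomologicalComplex.Hom.isIso_of_components _
    exact (hJ n (by simpa using hn)).of_iso
      ((HomologicalComplex.homologyFunctor (ModuleCat.{u} A) (ComplexShape.up ℤ) n).mapIso (asIso (gammaInc (⊥ : Ideal A) J)))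
  | cons b l ih =>
    intro n hn
    have hset : Ideal.span {x : A | x ∈ b :: l} = Ideal.span {x | x ∈ l} ⊔ Ideal.span {b} := by
      rw [← Ideal.span_union]
      congr 1
      ext x
      simp [or_comm]
    rw [hset]
    have hS := gShort_shortExact (Ideal.span {x | x ∈ l}) b J
    simp only [List.length_cons, Nat.cast_add, Nat.cast_one] at hn
    refine (hS.homology_exact₁ (n - 1) n (by simp)).isZero_of_both_zeros (IsZero.eq_of_src ?_ _ _)
      (IsZero.eq_of_tgt (ih n (by omega)) _ _)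
    exact ((DerCA.locFunctor (Submonoid.powers b)).map_isZero (ih (n - 1) (by omega))).of_iso
      ((((gammaCx (Ideal.span {x | x ∈ l})).obj J).sc (n - 1)).mapHomologyIso (DerCA.locFunctor (Submonoid.powers b)))

variable (I : Ideal A) [IsNoetherianRing A] [DRing.HasRgammaI I]

/-- Objects in very low degrees have no torsion cohomology. -/
theorem exists_dies_of_low : ∃ d : ℕ, ∀ (X : Dual.D A) (N : ℤ), N + d < 0 →
    (∀ q, N < q → IsZero ((Hf q).obj X)) → ∀ (n : ℕ) (v : sA I n ⟶ X), Dies I v := by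
  obtain ⟨l, hl⟩ := exists_list I
  refine ⟨l.length, fun X N hN hX n v => ?_⟩
  obtain ⟨J, -, hinj, e, a, -⟩ := RGamma.exists_model I X
  have h0 : Subsingleton (Dual.HD A ((DRing.RgammaI I).obj X) 0) := by
    refine ModuleCat.subsingleton_of_isZero (IsZero.of_iso ?_ ((Hf 0).mapIso a.symm ≪≫
      (DerivedCategory.homologyFunctorFactors (ModuleCat.{u} A) 0).app _))
    exact hl ▸ isZero_gamma_high J N (fun q hq => (hX q hq).of_iso
      (((DerivedCategory.homologyFunctorFactors (ModuleCat.{u} A) q).app J).symm ≪≫ (Hf q).mapIso e)) l 0 hN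
  obtain ⟨m, hm, hv⟩ := (subsingleton_HD_iff I X 0).1 h0 n
    (v ≫ (CategoryTheory.shiftFunctorZero (Dual.D A) ℤ).inv.app X)
  exact ⟨m, hm, (cancel_mono ((CategoryTheory.shiftFunctorZero (Dual.D A) ℤ).inv.app X)).1
    (by rw [Category.assoc, hv, zero_comp])⟩

omit [IsNoetherianRing A] [DRing.HasRgammaI I] in
theorem isZero_homology_shift (X : Dual.D A) (k q : ℤ) (h : IsZero ((Hf (k + q)).obj X)) :
    IsZero ((Hf q).obj (X⟦k⟧)) :=
  h.of_iso (((DerivedCategory.homologyFunctor (ModuleCat.{u} A) 0).shiftIso k q (k + q) rfl).app X)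

section ext

variable {I} {W : DRing.Cx A} [W.IsKInjective] {ω : Dual.D A} (e : DerivedCategory.Q.obj W ≅ ω)
  [Module.Injective A (H0Γ I W)]

omit [IsNoetherianRing A] [DRing.HasRgammaI I] [Module.Injective A (H0Γ I W)] in
theorem surjQ_of_zero {X : Dual.D A} (h : Subsingleton (X ⟶ ω)) : SurjQ I e X := fun l =>
  ⟨0, 0, LinearMap.ext fun φ => by rw [Subsingleton.elim φ 0, map_zero, map_zero]⟩

omit [IsNoetherianRing A] [DRing.HasRgammaI I] [Module.Injective A (H0Γ I W)] in
theorem high_props (b : ℤ) (hzero : ∀ i, b < i → IsZero (W.X i)) (X : Dual.D A) (c k : ℤ) (hb : b + k < c) (hk : k < c)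
    (hX : ∀ q, q < c → IsZero ((Hf q).obj X)) :
    SurjQ I e (X⟦k⟧) ∧ InjQ I e (X⟦k⟧) ∧ Subsingleton (X⟦k⟧ ⟶ ω) := by
  haveI : (X⟦k⟧).IsGE (c - k) := (DerivedCategory.isGE_iff _ _).2 fun q hq =>
    isZero_homology_shift X k q (hX _ (by omega))
  haveI hsub : Subsingleton (X⟦k⟧ ⟶ ω) :=
    (((Iso.refl (X⟦k⟧)).homCongr ((CategoryTheory.shiftFunctorZero (Dual.D A) ℤ).app ω)).subsingleton_congr).1
      (hom_subsingleton_of_isGE e b hzero (X⟦k⟧) (c - k) 0 (by omega))
  exact ⟨surjQ_of_zero e hsub, fun n v _ => ⟨n, le_rfl,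
    DerivedCategory.TStructure.t.zero _ 0 (c - k) (by omega)⟩, hsub⟩

omit [Module.Injective A (H0Γ I W)] in
theorem exists_low_props (a : ℤ) (hzero : ∀ i, i < a → IsZero (W.X i)) : ∃ d : ℕ, ∀ (X : Dual.D A) (N k : ℤ),
    N - k < a → N - k + d < 0 → (∀ q, N < q → IsZero ((Hf q).obj X)) →
      SurjQ I e (X⟦k⟧) ∧ InjQ I e (X⟦k⟧) ∧ Subsingleton (X⟦k⟧ ⟶ ω) := by
  obtain ⟨d, hd⟩ := exists_dies_of_low I
  refine ⟨d, fun X N k h1 h2 hX => ?_⟩
  have hz : ∀ q, N - k < q → IsZero ((Hf q).obj (X⟦k⟧)) := fun q hq => isZero_homology_shift X k q (hX _ (by omega))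
  haveI : (X⟦k⟧).IsLE (N - k) := (DerivedCategory.isLE_iff _ _).2 hz
  haveI hsub : Subsingleton (X⟦k⟧ ⟶ ω) :=
    (((Iso.refl (X⟦k⟧)).homCongr ((CategoryTheory.shiftFunctorZero (Dual.D A) ℤ).app ω)).subsingleton_congr).1
      (hom_subsingleton_of_isLE e a hzero (X⟦k⟧) (N - k) 0 (by omega))
  exact ⟨surjQ_of_zero e hsub, fun n v _ => hd _ (N - k) h2 hz n v, hsub⟩

/-- Duality and finiteness for all complexes with finite cohomology. -/
theorem good_of_finite (a b : ℤ) (hzero : ∀ i, (i < a ∨ b < i) → IsZero (W.X i))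
    (hP : ∀ M : Dual.D A, (∀ i : ℤ, Module.Finite A (Dual.HD A M i)) →
      (∃ c d : ℤ, ∀ i : ℤ, (i < c ∨ d < i) → Subsingleton (Dual.HD A M i)) → P I e M)
    (hF : ∀ M : Dual.D A, (∀ i : ℤ, Module.Finite A (Dual.HD A M i)) →
      (∃ c d : ℤ, ∀ i : ℤ, (i < c ∨ d < i) → Subsingleton (Dual.HD A M i)) → ∀ k : ℤ, Module.Finite A (M⟦k⟧ ⟶ ω))
    (X : Dual.D A) (hX : ∀ i : ℤ, Module.Finite A (Dual.HD A X i)) (k : ℤ) :
    SurjQ I e (X⟦k⟧) ∧ InjQ I e (X⟦k⟧) ∧ Module.Finite A (X⟦k⟧ ⟶ ω) := by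
  obtain ⟨d, hd⟩ := exists_low_props (I := I) e a fun i hi => hzero i (Or.inl hi)
  have fin0 : ∀ {Y : Dual.D A}, Subsingleton (Y ⟶ ω) → Module.Finite A (Y ⟶ ω) := fun h =>
    haveI := h
    Module.Finite.of_finite
  have step1 : ∀ (Z : Dual.D A) (c : ℤ), (∀ q, q < c → IsZero ((Hf q).obj Z)) →
      (∀ i, Module.Finite A (Dual.HD A Z i)) → ∀ k : ℤ,
      SurjQ I e (Z⟦k⟧) ∧ InjQ I e (Z⟦k⟧) ∧ Module.Finite A (Z⟦k⟧ ⟶ ω) := fun Z c hZ hfin k => by
    let N := max c (max (b + k) k + 1)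
    have hT := (TStructure.t (C := ModuleCat.{u} A)).triangleLEGE_distinguished N (N + 1) rfl Z
    let U := (TStructure.t (C := ModuleCat.{u} A)).truncLE N |>.obj Z
    let V := (TStructure.t (C := ModuleCat.{u} A)).truncGE (N + 1) |>.obj Z
    have hU : ∀ q, q ≤ N → Nonempty ((Hf q).obj U ≅ (Hf q).obj Z) := fun q hq => by
      haveI := TriH.EndNilp.isIso_homology_ι Z N (N + 1) q rfl hq
      exact ⟨asIso ((Hf q).map ((TStructure.t.truncLEι N).app Z))⟩
    have hUbd : ∀ q, (q < c ∨ N < q) → Subsingleton (Dual.HD A U q) := fun q hq => ModuleCat.subsingleton_of_isZero (by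
      by_cases h : N < q
      · exact TriH.EndNilp.isZero_homology_truncLE Z N q h
      · exact (hZ q (hq.resolve_right h)).of_iso (hU q (by omega)).some)
    have hUfin : ∀ q, Module.Finite A (Dual.HD A U q) := fun q => by
      by_cases h : N < q
      · haveI := hUbd q (Or.inr h)
        exact Module.Finite.of_finite
      · haveI := hfin q
        exact Module.Finite.equiv (hU q (by omega)).some.toLinearEquiv.symm
    have hV : ∀ q, q < N + 1 → IsZero ((Hf q).obj V) := fun q hq => TriH.EndNilp.isZero_homology_truncGE Z (N + 1) q hq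
    have hPU := hP U hUfin ⟨c, N, hUbd⟩
    obtain ⟨s3, i3, z3⟩ := high_props (I := I) e b (fun i hi => hzero i (Or.inr hi)) V (N + 1) k (by omega) (by omega) hV
    obtain ⟨s3', -, -⟩ := high_props (I := I) e b (fun i hi => hzero i (Or.inr hi)) V (N + 1) (k + -1) (by omega) (by omega) hV
    have hT' := Triangle.shift_distinguished _ hT k
    exact ⟨surjQ₂ I e _ hT' (hPU k).1 (hPU.shift I e k 1).2 s3,
      injQ₂ I e _ hT' (hPU k).2 i3 (s3'.of_iso I e ((CategoryTheory.shiftFunctorAdd (Dual.D A) k (-1)).app V)),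
      finite_hom_mid hT' (hF U hUfin ⟨c, N, hUbd⟩ k) (fin0 z3)⟩
  let N := min (a + k) (k - d) - 1
  have hT := (TStructure.t (C := ModuleCat.{u} A)).triangleLEGE_distinguished N (N + 1) rfl X
  let U := (TStructure.t (C := ModuleCat.{u} A)).truncLE N |>.obj X
  let V := (TStructure.t (C := ModuleCat.{u} A)).truncGE (N + 1) |>.obj X
  have hU : ∀ q, N < q → IsZero ((Hf q).obj U) := fun q hq => TriH.EndNilp.isZero_homology_truncLE X N q hq
  have hV : ∀ q, q < N + 1 → IsZero ((Hf q).obj V) := fun q hq => TriH.EndNilp.isZero_homology_truncGE X (N + 1) q hq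
  have hVfin : ∀ q, Module.Finite A (Dual.HD A V q) := fun q => by
    by_cases h : q < N + 1
    · haveI := ModuleCat.subsingleton_of_isZero (hV q h)
      exact Module.Finite.of_finite
    · haveI := TriH.EndNilp.isIso_homology_π X N (N + 1) q rfl (by omega)
      haveI := hX q
      let g : (Hf q).obj X ≅ (Hf q).obj V := asIso ((Hf q).map ((TStructure.t.truncGEπ (N + 1)).app X))
      exact Module.Finite.equiv g.toLinearEquiv
  obtain ⟨s3, i3, f3⟩ := step1 V (N + 1) hV hVfin k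
  obtain ⟨s3', -, -⟩ := step1 V (N + 1) hV hVfin (k + -1)
  obtain ⟨s1, i1, z1⟩ := hd U N k (by omega) (by omega) hU
  obtain ⟨-, i1', -⟩ := hd U N (k + 1) (by omega) (by omega) hU
  have hT' := Triangle.shift_distinguished _ hT k
  exact ⟨surjQ₂ I e _ hT' s1 (i1'.of_iso I e ((CategoryTheory.shiftFunctorAdd (Dual.D A) k 1).app U)) s3,
    injQ₂ I e _ hT' i1 i3 (s3'.of_iso I e ((CategoryTheory.shiftFunctorAdd (Dual.D A) k (-1)).app V)),
    finite_hom_mid hT' (fin0 z1) f3⟩

/-- The pairing as a map out of the colimit. -/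
noncomputable def valCocone (K : Dual.D A) (i : ℤ) : Cocone (diag i I K) where
  pt := ModuleCat.of A ((K⟦i⟧ ⟶ ω) →ₗ[A] H0Γ I W)
  ι :=
    { app := fun t => ModuleCat.ofHom
        { toFun := fun v => val I e t.unop.unop v
          map_add' := val_add I e _
          map_smul' := val_smul I e _ }
      naturality := fun t t' f => ModuleCat.hom_ext (LinearMap.ext fun v => val_sπ I e (leOfHom f.unop.unop) v) }

theorem nonempty_HDI_dual (K : Dual.D A) (i : ℤ) (hs : SurjQ I e (K⟦i⟧)) (hi : InjQ I e (K⟦i⟧)) :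
    Nonempty (Dual2.HDI A I K i ≃ₗ[A] ((K⟦i⟧ ⟶ ω) →ₗ[A] H0Γ I W)) := by
  have hd : ∀ (n : ℕ) (v : sA I n ⟶ K⟦i⟧), (colimit.desc _ (valCocone e K i)).hom
      ((colimit.ι (diag i I K) (Opposite.op (Opposite.op n))).hom v) = val I e n v := fun n v =>
    ConcreteCategory.congr_hom (colimit.ι_desc (valCocone e K i) (Opposite.op (Opposite.op n))) v
  refine ⟨LinearEquiv.ofBijective (colimit.desc _ (valCocone e K i)).hom
    ⟨(injective_iff_map_eq_zero _).2 fun x hx => ?_, fun l => ?_⟩⟩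
  · obtain ⟨n, v, rfl⟩ := exists_rep_colimit (diag i I K) x
    obtain ⟨m, hm, hv⟩ := hi n v ((hd n v).symm.trans hx)
    refine (ConcreteCategory.congr_hom (colimit.w (diag i I K) (homOfLE hm).op.op) v).symm.trans ?_
    show (colimit.ι (diag i I K) _).hom (sπ I hm ≫ v) = 0
    exact (congrArg _ hv).trans (map_zero _)
  · obtain ⟨n, v, hv⟩ := hs l
    exact ⟨_, (hd n v).trans hv⟩

end ext

/-- Local cohomology of modules as the limit of morphisms. -/
theorem nonempty_H_HDI (M : Type u) [AddCommGroup M] [Module A M] (i : ℕ) :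
    Nonempty (LocCoh.H I i M ≃ₗ[A] Dual2.HDI A I (Dual.inD A M) (i : ℤ)) := by
  let P := injectiveResolution (ModuleCat.of A M)
  haveI : ∀ n : ℤ, Injective (P.cochainComplex.X n) := inferInstance
  haveI : P.cochainComplex.IsKInjective := CochainComplex.isKInjective_of_injective _ 0
  let e : DerivedCategory.Q.obj P.cochainComplex ≅ Dual.inD A M :=
    (@asIso _ _ _ _ (DerivedCategory.Q.map P.ι')
      ((DerivedCategory.isIso_Q_map_iff_quasiIso (C := ModuleCat.{u} A) P.ι').2 inferInstance)).symm ≪≫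
      ((DerivedCategory.singleFunctorIsoCompQ (ModuleCat.{u} A) 0).app _).symm
  refine ⟨(gammaEquiv I P i).symm ≪≫ₗ
    ((HomologicalComplex.homologyFunctor (ModuleCat.{u} A) (ComplexShape.up ℤ) (i : ℤ)).mapIso
      (mapExtendIso (DRing.gammaI I) P.cocomplex) ≪≫
    (gCx I P).extendHomologyIso ComplexShape.embeddingUpNat rfl).symm.toLinearEquiv ≪≫ₗ
    (ULift.moduleEquiv (R := A) (M := ((gammaCx I).obj P.cochainComplex).homology (i : ℤ))).symm ≪≫ₗ
    (LinearEquiv.ofBijective (colimit.desc _ (hdCocone P.cochainComplex (i : ℤ) e I)).hom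
      (hd_bijective P.cochainComplex (i : ℤ) e I)).symm⟩

end Groth.Agent.DualCx.LD

namespace Groth.Agent.DualCx

open LD Groth.Agent.LocCohLib Groth.Agent.RGamma

variable {A : Type u} [CommRing A] [IsLocalRing A] [IsNoetherianRing A]

local notation "𝔪" => IsLocalRing.maximalIdeal A

/-- Local duality for complexes with finite cohomology. -/
theorem local_duality {ω : Dual.D A} (hω : Dual.IsDualizing A ω) (hn : Dual.IsNormalized A ω)
    (E : Type u) [AddCommGroup E] [Module A E] (f : IsLocalRing.ResidueField A →ₗ[A] E) (hf : InjHull.IsInjectiveHull f)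
    (K : Dual.D A) (hK : ∀ i : ℤ, Module.Finite A (Dual.HD A K i)) (i : ℤ) :
    Module.Finite A (K ⟶ ω⟦-i⟧) ∧ Nonempty (Dual2.HDI A 𝔪 K i ≃ₗ[A] ((K ⟶ ω⟦-i⟧) →ₗ[A] E)) := by
  haveI : DRing.HasRgammaI 𝔪 := RGamma.hasRgammaI 𝔪
  obtain ⟨W, hWK, e, hW, -, ⟨a, b, hzero⟩, hE, hP⟩ := exists_pairing hω hn
  haveI := hWK
  haveI := hW.injective
  haveI := hW.injective_H0
  obtain ⟨εE⟩ := hE E f hf
  obtain ⟨hs, hi, hF⟩ := good_of_finite (I := 𝔪) e a b hzero hP (fun M hfin ⟨c, d, hbd⟩ => by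
    refine der_devissage (fun Y : Dual.D A => ∀ k : ℤ, Module.Finite A (Y⟦k⟧ ⟶ ω))
      (fun {Y Z} g h k => haveI := h k
        Module.Finite.equiv (Linear.homCongr A ((CategoryTheory.shiftFunctor (Dual.D A) k).mapIso g) (Iso.refl ω)))
      (fun {Y} h k => by
        haveI : Subsingleton (Y⟦k⟧ ⟶ ω) := ⟨fun p q => (Functor.map_isZero _ h).eq_of_src p q⟩
        exact Module.Finite.of_finite)
      (fun T hT h₁ h₃ k => finite_hom_mid (Triangle.shift_distinguished T hT k) (h₁ k) (h₃ k))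
      (d + 1 - c).toNat c M (fun j hj => ?_) fun j _ _ k => ?_
    · haveI := hbd j (by omega)
      exact ModuleCat.isZero_of_subsingleton _
    · haveI := hfin j
      haveI := finite_hom e hW a (fun q hq => hzero q (Or.inl hq)) hω.finite_cohomology
        (ModuleCat.of A (Dual.HD A M j)) (-j + k)
      exact Module.Finite.equiv (Linear.homCongr A
        ((CategoryTheory.shiftFunctorAdd (Dual.D A) (-j) k).app _ ≪≫ (CategoryTheory.shiftFunctor (Dual.D A) k).mapIso
          (PCohLib.singleShiftIso (-j) j 0 (by omega) (ModuleCat.of A (Dual.HD A M j)))) (Iso.refl ω))) K hK i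
  haveI := hF
  obtain ⟨g⟩ := nonempty_HDI_dual e K i hs hi
  exact ⟨Module.Finite.equiv (shiftHomEquiv K ω i).symm,
    ⟨g ≪≫ₗ LinearEquiv.congrLeft (↥(H0Γ 𝔪 W)) A (shiftHomEquiv K ω i).symm ≪≫ₗ LinearEquiv.congrRight εE⟩⟩

/-- Local duality over complete rings: double dual. -/
theorem nonempty_bidual [IsAdicComplete 𝔪 A] {E : Type u} [AddCommGroup E] [Module A E]
    {f : IsLocalRing.ResidueField A →ₗ[A] E} (hf : InjHull.IsInjectiveHull f)
    (H : Type*) [AddCommGroup H] [Module A H] [Module.Finite A H] :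
    Nonempty (H ≃ₗ[A] ((H →ₗ[A] E) →ₗ[A] E)) := by
  obtain ⟨n, p, hp⟩ := Module.Finite.exists_fin' A H
  let g : ((Fin n → A) ⧸ LinearMap.ker p) ≃ₗ[A] H := LinearMap.quotKerEquivOfSurjective p hp
  let b := LinearEquiv.ofBijective _ (MatlisLib.applyₗ_bijective_of_finite hf ((Fin n → A) ⧸ LinearMap.ker p))
  exact ⟨g.symm ≪≫ₗ b ≪≫ₗ LinearEquiv.congrLeft E A (LinearEquiv.congrLeft E A g)⟩

end Groth.Agent.DualCx
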