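import Groth.Agent.DualCx.LocEH
import Mathlib.RingTheory.Localization.Ideal

/-!
# The dimension function of a dualizing complex
-/

set_option autoImplicit false
set_option linter.style.haveILetI false

open CategoryTheory CategoryTheory.Limits

universe u

attribute [local instance] HasDerivedCategory.standard

namespace Groth.Agent.DualCx

open Groth.Agent.LocCohLib Groth.Agent.RGamma

variable {A : Type u} [CommRing A]

/-- Extension of scalars of a cyclic module. -/
theorem nonempty_extM_quot {B : Type u} [CommRing B] (φ : A →+* B) (J : Ideal A) :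
    Nonempty ((extM φ).obj (ModuleCat.of A (A ⧸ J)) ≅ ModuleCat.of B (B ⧸ J.map φ)) := by
  let T := ModuleCat.of B (B ⧸ J.map φ)
  let g : ModuleCat.of A (A ⧸ J) ⟶ (ModuleCat.restrictScalars φ).obj T :=
    ModuleCat.ofHom (Y := (ModuleCat.restrictScalars φ).obj T)
      (Submodule.liftQ J
        { toFun := fun a => (Submodule.Quotient.mk (φ a) : B ⧸ J.map φ)
          map_add' := fun a b => (congrArg Submodule.Quotient.mk (map_add φ a b)).trans (Submodule.Quotient.mk_add _)
          map_smul' := fun a b => (congrArg Submodule.Quotient.mk (map_mul φ a b)).trans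
            (Submodule.Quotient.mk_smul (J.map φ) (φ a) (φ b)) }
        fun a ha => LinearMap.mem_ker.2 ((Submodule.Quotient.mk_eq_zero _).2 (Ideal.mem_map_of_mem φ ha)))
  let G := ((ModuleCat.extendRestrictScalarsAdj.{u, u, u} φ).homEquiv _ T).symm g
  have hG : ∀ x, G.hom (one' φ x) = g.hom x := fun x => by
    have h := ((ModuleCat.extendRestrictScalarsAdj.{u, u, u} φ).homEquiv _ T).apply_symm_apply g
    rw [Adjunction.homEquiv_unit] at h
    exact ConcreteCategory.congr_hom h x
  let e1 : (extM φ).obj (ModuleCat.of A (A ⧸ J)) := one' φ (M := ModuleCat.of A (A ⧸ J)) (Submodule.Quotient.mk 1)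
  have he1 : ∀ a : A, φ a • e1 = one' φ (M := ModuleCat.of A (A ⧸ J)) (Submodule.Quotient.mk a) := fun a => by
    refine (one'_smul φ (M := ModuleCat.of A (A ⧸ J)) a (Submodule.Quotient.mk 1)).symm.trans (congrArg (one' φ) ?_)
    show a • (Submodule.Quotient.mk 1 : A ⧸ J) = Submodule.Quotient.mk a
    rw [← Submodule.Quotient.mk_smul, smul_eq_mul, mul_one]
  let H : T ⟶ (extM φ).obj (ModuleCat.of A (A ⧸ J)) := ModuleCat.ofHom (Y := (extM φ).obj (ModuleCat.of A (A ⧸ J)))
    (Submodule.liftQ (J.map φ) (LinearMap.toSpanSingleton B ((extM φ).obj (ModuleCat.of A (A ⧸ J))) e1) (Ideal.map_le_iff_le_comap.2 fun a ha => by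
      show φ a • e1 = 0
      rw [he1, (Submodule.Quotient.mk_eq_zero J).2 ha]
      exact one'_zero φ))
  refine ⟨⟨G, H, hom_ext_one' φ fun m => ?_, ModuleCat.hom_ext (Submodule.linearMap_qext _ (LinearMap.ext_ring ?_))⟩⟩
  · obtain ⟨a, rfl⟩ := Submodule.Quotient.mk_surjective J m
    rw [ModuleCat.hom_comp, LinearMap.comp_apply, hG]
    exact he1 a
  · show G.hom ((1 : B) • e1) = (Submodule.Quotient.mk 1 : B ⧸ J.map φ)
    rw [one_smul, hG]
    show (Submodule.Quotient.mk (φ 1) : B ⧸ J.map φ) = _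
    rw [map_one]

theorem exists_loc_support [IsNoetherianRing A] {B : Type u} [CommRing B] {φ : A →+* B} {S : Submonoid A}
    (h : IsLocHom φ S) (W : DRing.Cx A) (N : ModuleCat.{u} A) [Module.Finite A N] (i : ℤ) (P : Ideal B) [P.IsPrime]
    (hP : (⟨P, inferInstance⟩ : PrimeSpectrum B) ∈ Module.support B ((dCx ((extC φ).obj W) ((extM φ).obj N)).homology i)) :
    (⟨P.comap φ, inferInstance⟩ : PrimeSpectrum A) ∈ Module.support A ((dCx W N).homology i) := by
  rw [Module.mem_support_iff'] at hP ⊢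
  obtain ⟨x, hx⟩ := hP
  obtain ⟨y, rfl⟩ := dcls_surjective _ _ i x
  obtain ⟨t, ht, z, hz⟩ := exists_locCyc h y
  refine ⟨dcls W N i z, fun s hs h0 => ?_⟩
  have h1 : dcls _ _ i (φ s • locCyc φ z) = 0 := by
    obtain ⟨w, hw⟩ := (dcls_eq_zero_iff W N i (s • z)).1 (by rw [map_smul, h0])
    refine (dcls_eq_zero_iff _ _ i _).2 ⟨((extM φ).map (ModuleCat.ofHom w)).hom, fun v => ?_⟩
    have h2 : φ s • (extM φ).map (ModuleCat.ofHom z.1) = (extM φ).map (ModuleCat.ofHom w ≫ W.d (i - 1) i) := by
      rw [← map_smul_loc]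
      exact congrArg _ (ModuleCat.hom_ext (LinearMap.ext fun v => hw v))
    rw [Functor.map_comp] at h2
    exact ConcreteCategory.congr_hom h2 v
  rw [← hz, smul_smul, map_smul] at h1
  refine hx (φ s * φ t) (fun hm => ?_) h1
  rcases (‹P.IsPrime›).mem_or_mem hm with hm | hm
  · exact hs hm
  · exact (‹P.IsPrime›).ne_top (P.eq_top_of_isUnit_mem hm (h.isUnit_map ht))

theorem ringKrullDim_quotient_eq_one {B : Type u} [CommRing B] [IsLocalRing B] (P : Ideal B) [P.IsPrime]
    (hne : P ≠ IsLocalRing.maximalIdeal B)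
    (hbtw : ∀ Q : Ideal B, Q.IsPrime → P < Q → Q = IsLocalRing.maximalIdeal B) : ringKrullDim (B ⧸ P) = 1 := by
  haveI : Ring.KrullDimLE 1 (B ⧸ P) := Ring.krullDimLE_one_iff_of_isPrime_bot.mpr fun I hI hI' => by
    have hlt : P < I.comap (Ideal.Quotient.mk P) := by
      refine lt_of_le_of_ne (fun x hx => ?_) fun heq => hI ?_
      · show Ideal.Quotient.mk P x ∈ I
        rw [Ideal.Quotient.eq_zero_iff_mem.2 hx]
        exact I.zero_mem
      · rw [← Ideal.map_comap_of_surjective _ Ideal.Quotient.mk_surjective I, ← heq, Ideal.map_quotient_self]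
    have h := hbtw _ (Ideal.IsPrime.comap _) hlt
    haveI : (I.comap (Ideal.Quotient.mk P)).IsMaximal := h ▸ IsLocalRing.maximalIdeal.isMaximal B
    rw [← Ideal.map_comap_of_surjective _ Ideal.Quotient.mk_surjective I]
    exact Ideal.IsMaximal.map_of_surjective_of_ker_le Ideal.Quotient.mk_surjective (by rw [Ideal.mk_ker]; exact hlt.le)
  refine le_antisymm (Ring.krullDimLE_iff.1 inferInstance) ?_
  by_contra hlt
  haveI : Ring.KrullDimLE 0 (B ⧸ P) := by
    rw [Ring.krullDimLE_iff]
    haveI : Nontrivial (B ⧸ P) := Ideal.Quotient.nontrivial_iff.2 (Ideal.IsPrime.ne_top ‹_›)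
    obtain ⟨n, hn⟩ : ∃ n : ℕ, ringKrullDim (B ⧸ P) = n := by
      have hle : ringKrullDim (B ⧸ P) ≤ 1 := Ring.krullDimLE_iff.1 (inferInstance : Ring.KrullDimLE 1 (B ⧸ P))
      have hge : (0 : WithBot ℕ∞) ≤ ringKrullDim (B ⧸ P) := ringKrullDim_nonneg_of_nontrivial
      obtain ⟨v, hv⟩ := WithBot.ne_bot_iff_exists.1 (fun h : ringKrullDim (B ⧸ P) = ⊥ => by simp [h] at hge)
      rw [← hv] at hle ⊢
      have hv1 : v ≤ 1 := by exact_mod_cast hle
      obtain ⟨n, rfl⟩ := ENat.ne_top_iff_exists.1 (ne_top_of_le_ne_top (ENat.natCast_ne_top 1) hv1)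
      exact ⟨n, rfl⟩
    rw [hn] at hlt ⊢
    have : ¬ 1 ≤ n := fun h => hlt (by exact_mod_cast h)
    exact_mod_cast (show n ≤ 0 by omega)
  exact hne (IsLocalRing.eq_maximalIdeal ((Ideal.Quotient.maximal_ideal_iff_isField_quotient P).2
    Ring.KrullDimLE.isField_of_isDomain))

variable [IsNoetherianRing A] {ω : Dual.D A} {W : DRing.Cx A} [W.IsKInjective] [∀ i, Injective (W.X i)]

omit [W.IsKInjective] [∀ i, Injective (W.X i)] in
theorem degree_support_iff {p : Ideal A} [p.IsPrime] {n : ℤ} (hn : IsResidual (WAt W p) n) (i : ℤ) :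
    (⟨p, inferInstance⟩ : PrimeSpectrum A) ∈ Module.support A (EH W (A ⧸ p) i) ↔ i = n := by
  haveI : IsNoetherianRing (Localization.AtPrime p) := IsLocalization.isNoetherianRing p.primeCompl _ inferInstance
  have key : ∀ j, (⟨p, inferInstance⟩ : PrimeSpectrum A) ∈ Module.support A (EH W (A ⧸ p) j) → j = n := fun j h => by
    by_contra hne
    haveI := hn.residue j hne
    exact not_nontrivial _ (nontrivial_residue_at p j h)
  refine ⟨key i, fun hi => ?_⟩
  rw [hi]
  haveI : Nontrivial (LocalizedModule p.primeCompl (A ⧸ p)) :=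
    Module.mem_support_iff.1 (show (⟨p, inferInstance⟩ : PrimeSpectrum A) ∈ Module.support A (A ⧸ p) by
      rw [Module.mem_support_iff_of_finite, Ideal.annihilator_quotient])
  haveI : Module.Finite (Localization.AtPrime p) (LocalizedModule p.primeCompl (A ⧸ p)) :=
    Module.Finite.of_isLocalizedModule p.primeCompl (LocalizedModule.mkLinearMap p.primeCompl (A ⧸ p))
  obtain ⟨d, hd⟩ := DepthLib.exists_nat_supportDim (R := Localization.AtPrime p) (LocalizedModule p.primeCompl (A ⧸ p))
  have h := (mem_support_EH_iff W (A ⧸ p) ⟨p, inferInstance⟩ (n - d)).2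
    (hn.nontrivial_top (LocalizedModule p.primeCompl (A ⧸ p)) d hd)
  rwa [key _ h] at h

omit [W.IsKInjective] [∀ i, Injective (W.X i)] in
theorem degree_covBy {p q : Ideal A} [p.IsPrime] [q.IsPrime] (hpq : p < q)
    (hbtw : ∀ r : Ideal A, r.IsPrime → p < r → r ≤ q → r = q) {n m : ℤ} (hn : IsResidual (WAt W p) n)
    (hm : IsResidual (WAt W q) m) : n = m - 1 := by
  let φ := algebraMap A (Localization.AtPrime q)
  haveI : IsNoetherianRing (Localization.AtPrime q) := IsLocalization.isNoetherianRing q.primeCompl _ inferInstance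
  have hdisj : Disjoint (q.primeCompl : Set A) p := Set.disjoint_left.2 fun x hx hxp => hx (hpq.le hxp)
  haveI hP : (p.map φ).IsPrime := IsLocalization.isPrime_of_isPrime_disjoint q.primeCompl _ p ‹_› hdisj
  have hcomap : (p.map φ).comap φ = p := IsLocalization.comap_map_of_isPrime_disjoint q.primeCompl _ ‹p.IsPrime› hdisj
  have hdim : ringKrullDim (Localization.AtPrime q ⧸ p.map φ) = ((1 : ℕ) : WithBot ℕ∞) := by
    refine ringKrullDim_quotient_eq_one _ (fun h => hpq.ne ?_) fun Q hQ hlt => ?_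
    · rw [← hcomap, h]
      exact IsLocalization.AtPrime.comap_maximalIdeal _ q
    · have hle : Q.comap φ ≤ q := fun x hx => by
        by_contra hxq
        exact hQ.ne_top (Q.eq_top_of_isUnit_mem hx (IsLocalization.map_units (Localization.AtPrime q)
          (⟨x, hxq⟩ : q.primeCompl)))
      have h1 : Q.comap φ = q := hbtw _ (Ideal.IsPrime.comap φ) (lt_of_le_of_ne
        (Ideal.map_le_iff_le_comap.1 hlt.le) fun h => hlt.ne (by
          rw [h]; exact IsLocalization.map_comap q.primeCompl _ Q)) hle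
      exact (IsLocalization.map_under q.primeCompl (Localization.AtPrime q) Q).symm.trans
        ((congrArg (Ideal.map φ) h1).trans (IsLocalization.AtPrime.map_eq_maximalIdeal q (Localization.AtPrime q)))
  have hsupp : (⟨p.map φ, hP⟩ : PrimeSpectrum (Localization.AtPrime q)) ∈
      Module.support (Localization.AtPrime q) (Localization.AtPrime q ⧸ p.map φ) := by
    rw [Module.mem_support_iff_of_finite, Ideal.annihilator_quotient]
  have h := hm.top_mem_support _ 1 ((Module.supportDim_quotient_eq_ringKrullDim _).trans hdim).le _ hsupp hdim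
  obtain ⟨e⟩ := nonempty_extM_quot φ p
  obtain ⟨g⟩ := EH_congr (WAt W q) e (m - (1 : ℕ))
  rw [← g.toLinearEquiv.support_eq] at h
  have h2 := exists_loc_support (isLocHom_prime q) W _ _ (p.map φ) h
  have h3 : (⟨p, inferInstance⟩ : PrimeSpectrum A) ∈ Module.support A (EH W (A ⧸ p) (m - (1 : ℕ))) := by
    have he : (⟨(p.map φ).comap φ, inferInstance⟩ : PrimeSpectrum A) = ⟨p, inferInstance⟩ := PrimeSpectrum.ext hcomap
    exact he ▸ h2
  exact ((degree_support_iff hn _).1 h3).symm.trans (by norm_num)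

end Groth.Agent.DualCx
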