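import Groth.Agent.DualCx.LocalGlobal
import Groth.Agent.DualCx.DimFun
import Groth.Agent.RGamma.Transfer
import Mathlib.RingTheory.Localization.Finiteness

/-!
# Pointwise dualizing complexes
-/

set_option autoImplicit false
set_option linter.style.haveILetI false

open CategoryTheory CategoryTheory.Limits

universe u

attribute [local instance] HasDerivedCategory.standard

namespace Groth.Agent.DualCx

open Groth.Agent.LocCohLib Groth.Agent.RGamma

variable {A : Type u} [CommRing A]

/-- Derived base change along a flat map is termwise. -/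
theorem nonempty_extC_iso_LBC_flat {B : Type u} [CommRing B] {φ : A →+* B} (hflat : φ.Flat) [DRing.HasLBaseChange φ]
    (W : DRing.Cx A) {R : Dual.D A} (e : DerivedCategory.Q.obj W ≅ R) :
    Nonempty (DerivedCategory.Q.obj ((extC φ).obj W) ≅ (DRing.LBaseChange φ).obj R) := by
  haveI := ModuleCat.preservesFiniteLimits_extendScalars_of_flat.{u} hflat
  haveI := (ModuleCat.extendRestrictScalarsAdj.{u, u, u} φ).leftAdjoint_preservesColimits.{0, 0}
  let E := ModuleCat.extendScalars.{u, u, u} φ
  obtain ⟨Rr, q, hR, hq⟩ := KFlat.exists_kFlat_resolution A W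
  haveI : IsIso (DerivedCategory.Q.map q) := (DerivedCategory.isIso_Q_map_iff_quasiIso _ _).2 hq
  let eR : DerivedCategory.Q.obj Rr ≅ R := asIso (DerivedCategory.Q.map q) ≪≫ e
  haveI := LBC.isIso_counit_of_kFlat φ Rr hR
  exact ⟨((DRing.LBaseChange φ).mapIso (eR.symm ≪≫ ((DerivedCategory.quotientCompQhIso (ModuleCat.{u} A)).app Rr).symm) ≪≫
      asIso ((LBC.counit φ).app Rr) ≪≫ (LBC.ΦIso φ).app Rr ≪≫ (E.mapDerivedCategoryFactors.app Rr).symm ≪≫
      E.mapDerivedCategory.mapIso (asIso (DerivedCategory.Q.map q)) ≪≫ E.mapDerivedCategoryFactors.app W).symm⟩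

theorem IsResidual.of_iso [IsLocalRing A] {V W : DRing.Cx A} [V.IsKInjective] [W.IsKInjective]
    [∀ i, Injective (W.X i)] {K : Dual.D A} (e : DerivedCategory.Q.obj V ≅ K) (e' : DerivedCategory.Q.obj W ≅ K)
    {c : ℤ} (hV : IsResidual V c) : IsResidual W c where
  injective := inferInstance
  finite N _ i := haveI := hV.finite N i
    Module.Finite.equiv ((homIso V e N i).symm ≪≫ₗ homIso W e' N i)
  residue i hi := (((homIso V e _ i).symm ≪≫ₗ homIso W e' _ i).toEquiv.subsingleton_congr).1 (hV.residue i hi)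
  nontrivial := (((homIso V e _ c).symm ≪≫ₗ homIso W e' _ c).toEquiv.nontrivial_congr).1 hV.nontrivial

/-- A bounded below model with the residual degrees at all primes. -/
theorem exists_residual_pointwise [IsNoetherianRing A] {W : DRing.Cx A} [∀ i, Injective (W.X i)] (a : ℤ)
    (hzero : ∀ i, i < a → IsZero (W.X i)) (p : Ideal A) [p.IsPrime] {ω' : Dual.D (Localization.AtPrime p)}
    (e' : DerivedCategory.Q.obj (WAt W p) ≅ ω') (hω' : Dual.IsDualizing (Localization.AtPrime p) ω') :
    ∃ n : ℤ, IsResidual (WAt W p) n := by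
  have hB := isLocHom_prime p
  haveI : IsNoetherianRing (Localization.AtPrime p) := hω'.isNoetherianRing
  haveI : ∀ i, Injective ((WAt W p).X i) := fun i => hB.injective_ext (W.X i)
  haveI : (WAt W p).IsStrictlyGE a := (CochainComplex.isStrictlyGE_iff _ _).2 fun i hi =>
    Functor.map_isZero (extM (algebraMap A (Localization.AtPrime p))) (hzero i hi)
  haveI : (WAt W p).IsKInjective := CochainComplex.isKInjective_of_injective _ a
  obtain ⟨V, a', b', hV, hVinj, hzero', ⟨eV⟩⟩ := exists_model hω'.finite_injective_dimension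
  haveI := hV
  haveI := hVinj
  obtain ⟨n, h1, ⟨g⟩⟩ := exists_degree V (IsLocalRing.maximalIdeal (Localization.AtPrime p)) a' b' hzero' eV hω'
  exact ⟨n, IsResidual.of_iso eV e' ⟨inferInstance, fun N _ i => finite_dual a' (fun j hj => hzero' j (Or.inl hj))
    (finite_homology_model eV hω'.finite_cohomology) N i, h1, g.toEquiv.nontrivial⟩⟩

/-- A pointwise dualizing complex over a ring of finite dimension has finite injective dimension. -/
theorem exists_bound [IsNoetherianRing A] {W : DRing.Cx A} {D : ℕ} (hdim : ringKrullDim A ≤ D)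
    (hn : ∀ p : PrimeSpectrum A, ∃ n : ℤ, IsResidual (WAt W p.asIdeal) n) :
    ∃ b : ℤ, ∀ (N : Type u) [AddCommGroup N] [Module A N] [Module.Finite A N] (i : ℤ), b < i →
      Subsingleton (EH W N i) := by
  choose n hres using hn
  let T := (minimalPrimes.finite_of_isNoetherianRing A).toFinset
  obtain ⟨M0, hM0⟩ : ∃ M0 : ℤ, ∀ (q : PrimeSpectrum A), q.asIdeal ∈ minimalPrimes A → n q ≤ M0 := by
    classical
    let F : Ideal A → ℤ := fun q => if h : q.IsPrime then n ⟨q, h⟩ else 0
    obtain ⟨M0, hM0⟩ := (T.image F).bddAbove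
    refine ⟨M0, fun q hq => ?_⟩
    have h : F q.asIdeal ∈ T.image F := Finset.mem_image_of_mem F ((Set.Finite.mem_toFinset _).2 hq)
    have h2 := hM0 (Finset.mem_coe.2 h)
    simpa [F, dif_pos q.2] using h2
  refine ⟨M0 + D, fun N _ _ _ i hi => ?_⟩
  rw [← Module.support_eq_empty_iff (R := A)]
  refine Set.eq_empty_iff_forall_notMem.2 fun p hp => ?_
  rw [mem_support_EH_iff] at hp
  let B := Localization.AtPrime p.asIdeal
  haveI : IsNoetherianRing B := IsLocalization.isNoetherianRing p.asIdeal.primeCompl _ inferInstance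
  haveI : Module.Finite B (LocalizedModule p.asIdeal.primeCompl N) :=
    Module.Finite.of_isLocalizedModule p.asIdeal.primeCompl (LocalizedModule.mkLinearMap p.asIdeal.primeCompl N)
  suffices hle : n p ≤ M0 + D by
    haveI := (hres p).upper (LocalizedModule p.asIdeal.primeCompl N) i (by omega)
    exact not_nontrivial _ hp
  obtain ⟨q, hq, hle⟩ := Ideal.exists_minimalPrimes_le (I := (⊥ : Ideal A)) (J := p.asIdeal) bot_le
  haveI : q.IsPrime := hq.1.1
  let φ := algebraMap A B
  have hdisj : Disjoint (p.asIdeal.primeCompl : Set A) q := Set.disjoint_left.2 fun x hx hxp => hx (hle hxp)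
  haveI hP : (q.map φ).IsPrime := IsLocalization.isPrime_of_isPrime_disjoint p.asIdeal.primeCompl _ q ‹_› hdisj
  have hcomap : (q.map φ).comap φ = q :=
    IsLocalization.comap_map_of_isPrime_disjoint p.asIdeal.primeCompl _ ‹q.IsPrime› hdisj
  haveI : Nontrivial (B ⧸ q.map φ) := Ideal.Quotient.nontrivial_iff.2 hP.ne_top
  obtain ⟨e, he⟩ := DepthLib.exists_nat_supportDim (R := B) (B ⧸ q.map φ)
  have he' := he
  rw [Module.supportDim_quotient_eq_ringKrullDim] at he'
  have heD : e ≤ D := by
    have h1 : ringKrullDim (B ⧸ q.map φ) ≤ ringKrullDim B := ringKrullDim_quotient_le _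
    have h2 : ringKrullDim B ≤ ringKrullDim A := by
      rw [IsLocalization.AtPrime.ringKrullDim_eq_height p.asIdeal B]
      exact Ideal.height_le_ringKrullDim_of_ne_top p.2.ne_top
    have h3 := (h1.trans h2).trans hdim
    rw [he'] at h3
    exact_mod_cast h3
  have hsupp : (⟨q.map φ, hP⟩ : PrimeSpectrum B) ∈ Module.support B (B ⧸ q.map φ) := by
    rw [Module.mem_support_iff_of_finite, Ideal.annihilator_quotient]
  have h := (hres p).top_mem_support _ e he.le _ hsupp he'
  obtain ⟨g0⟩ := nonempty_extM_quot φ q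
  obtain ⟨g⟩ := EH_congr (WAt W p.asIdeal) g0 (n p - (e : ℕ))
  rw [← g.toLinearEquiv.support_eq] at h
  have h2 := exists_loc_support (isLocHom_prime p.asIdeal) W _ _ (q.map φ) h
  have h3 : (⟨q, inferInstance⟩ : PrimeSpectrum A) ∈ Module.support A (EH W (A ⧸ q) (n p - (e : ℕ))) := by
    have he2 : (⟨(q.map φ).comap φ, inferInstance⟩ : PrimeSpectrum A) = ⟨q, inferInstance⟩ := PrimeSpectrum.ext hcomap
    exact he2 ▸ h2
  have h4 := (degree_support_iff (hres ⟨q, inferInstance⟩) _).1 h3
  have h5 := hM0 ⟨q, inferInstance⟩ hq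
  omega

/-- A bounded below model. -/
theorem exists_model_below {R : Dual.D A} (a : ℤ) (h : ∀ i, i < a → Subsingleton (Dual.HD A R i)) :
    ∃ W : DRing.Cx A, W.IsKInjective ∧ (∀ i, Injective (W.X i)) ∧ (∀ i, i < a → IsZero (W.X i)) ∧
      Nonempty (DerivedCategory.Q.obj W ≅ R) := by
  haveI : R.IsGE a := (DerivedCategory.isGE_iff R a).2 fun i hi =>
    haveI := h i hi
    ModuleCat.isZero_of_subsingleton _
  obtain ⟨L₀, _, ⟨e₀⟩⟩ := DerivedCategory.exists_iso_Q_obj_of_isGE R a
  obtain ⟨E, i, hq, hEinj, hEge⟩ := CochainComplex.Plus.modelCategoryQuillen.exists_quasiIso_injective L₀ a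
  haveI := hEge
  haveI := hEinj
  exact ⟨E, CochainComplex.isKInjective_of_injective E a, hEinj, fun j hj => E.isZero_of_isStrictlyGE a j hj,
    ⟨(asIso (DerivedCategory.Q.map i)).symm ≪≫ e₀.symm⟩⟩

/-- A complex with bounded below model and bounded duals has a bounded model. -/
theorem isDualizing_of_bound [IsNoetherianRing A] {R : Dual.D A} {W : DRing.Cx A} [W.IsKInjective] (a b : ℤ)
    (hzero : ∀ i, i < a → IsZero (W.X i)) (e : DerivedCategory.Q.obj W ≅ R)
    (hfin : ∀ i : ℤ, Module.Finite A (Dual.HD A R i))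
    (hb : ∀ (N : Type u) [AddCommGroup N] [Module A N] [Module.Finite A N] (i : ℤ), b < i → Subsingleton (EH W N i))
    (hcov : ∀ (m : Ideal A) [m.IsMaximal], ∃ (B : Type u) (_ : CommRing B) (φ : A →+* B) (S : Submonoid A)
      (_ : IsLocHom φ S) (_ : DRing.HasLBaseChange φ), S ≤ m.primeCompl ∧ Dual.IsDualizing B ((DRing.LBaseChange φ).obj R)) :
    Dual.IsDualizing A R := by
  obtain ⟨V, hvan, hinj, ⟨eV⟩⟩ := DRingPC.injAmp_of_extD (A := A) (K := R) a b fun I i hi => by
    refine (homIso W e (ModuleCat.of A (A ⧸ I)) i).toEquiv.subsingleton_congr.2 ?_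
    rcases hi with hi | hi
    · exact subsingleton_dual_of_isZero (hzero i hi) _
    · exact hb (A ⧸ I) i hi
  haveI : ∀ i, Injective (V.X i) := fun i => by
    haveI := hinj i
    exact (Module.injective_iff_injective_object A (V.X i)).1 (hinj i)
  haveI : V.IsStrictlyGE a := (CochainComplex.isStrictlyGE_iff _ _).2 fun i hi => hvan i (Or.inl hi)
  haveI : V.IsKInjective := CochainComplex.isKInjective_of_injective V a
  refine isDualizing_of_cover (W := V) a b hvan eV hfin fun m _ => ?_
  obtain ⟨B, _, φ, S, hB, hL, hS, hd⟩ := hcov m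
  exact ⟨B, inferInstance, φ, S, hB, _, hS, nonempty_extC_iso_LBC_flat hB.flat V eV, hd⟩

/-- Finiteness passes to the localized module. -/
theorem finite_localized (S : Submonoid A) (N : ModuleCat.{u} A)
    [Module.Finite (Localization S) ((extM (algebraMap A (Localization S))).obj N)] :
    Module.Finite (Localization S) (LocalizedModule S N) := by
  let φ := algebraMap A (Localization S)
  let T := ModuleCat.of (Localization S) (LocalizedModule S N)
  let g : N ⟶ (ModuleCat.restrictScalars φ).obj T := ModuleCat.ofHom (Y := (ModuleCat.restrictScalars φ).obj T)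
    { toFun := fun x => LocalizedModule.mkLinearMap S N x
      map_add' := fun x y => map_add (LocalizedModule.mkLinearMap S N) x y
      map_smul' := fun a x => (map_smul (LocalizedModule.mkLinearMap S N) a x).trans
        (algebraMap_smul (Localization S) a (LocalizedModule.mkLinearMap S N x)).symm }
  let G := ((ModuleCat.extendRestrictScalarsAdj.{u, u, u} φ).homEquiv _ T).symm g
  have hG : ∀ x, G.hom (one' φ x) = LocalizedModule.mkLinearMap S N x := fun x => by
    have h := ((ModuleCat.extendRestrictScalarsAdj.{u, u, u} φ).homEquiv _ T).apply_symm_apply g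
    rw [Adjunction.homEquiv_unit] at h
    exact ConcreteCategory.congr_hom h x
  refine Module.Finite.of_surjective G.hom fun y => ?_
  obtain ⟨⟨m, s⟩, hm⟩ := IsLocalizedModule.surj S (LocalizedModule.mkLinearMap S N) y
  obtain ⟨u, hu⟩ := (isLocHom_algebraMap S (Localization S)).isUnit s.1 s.2
  refine ⟨(↑u⁻¹ : Localization S) • one' φ m, ?_⟩
  show G.hom _ = y
  rw [map_smul, hG, ← hm, show s • y = φ s.1 • y from (algebraMap_smul (Localization S) s.1 y).symm,
    smul_smul, ← hu, Units.inv_mul, one_smul]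

end Groth.Agent.DualCx
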