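import Groth.Agent.DualCx.LocalDualityIso
import Groth.Agent.DualCx.Bidual
import Groth.Agent.DualCx.Pointwise
import Mathlib.Algebra.Homology.DerivedCategory.HomologySequence

/-!
# Uniqueness of dualizing complexes over local rings
-/

set_option autoImplicit false
set_option linter.style.haveILetI false

open CategoryTheory CategoryTheory.Limits CategoryTheory.Pretriangulated

universe u

attribute [local instance] HasDerivedCategory.standard

namespace Groth.Agent.DualCx

open Groth.Agent.LocCohLib Groth.Agent.RGamma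

variable {A : Type u} [CommRing A]

theorem isDualizing_of_iso {ω ω' : Dual.D A} (g : ω ≅ ω') (h : Dual.IsDualizing A ω) : Dual.IsDualizing A ω' where
  isNoetherianRing := h.isNoetherianRing
  finite_injective_dimension := by
    obtain ⟨a, b, hab⟩ := h.finite_injective_dimension
    exact ⟨a, b, fun M _ _ i hi => ((Iso.refl _).homCongr
      ((CategoryTheory.shiftFunctor (Dual.D A) i).mapIso g)).subsingleton_congr.1 (hab M i hi)⟩
  finite_cohomology i := haveI := h.finite_cohomology i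
    Module.Finite.equiv ((DerivedCategory.homologyFunctor (ModuleCat.{u} A) i).mapIso g).toLinearEquiv
  toEnd_bijective := by
    let E : (ω ⟶ ω) ≃ₗ[A] (ω' ⟶ ω') := Linear.homCongr A g g
    have h2 : Function.Bijective fun a : A => E (a • 𝟙 ω) := E.bijective.comp h.toEnd_bijective
    convert h2 using 1
    funext a
    simp [E, Linear.homCongr]
  ext_self_subsingleton i hi :=
    (g.homCongr ((CategoryTheory.shiftFunctor (Dual.D A) i).mapIso g)).subsingleton_congr.1 (h.ext_self_subsingleton i hi)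

theorem isDualizing_shift {ω : Dual.D A} (h : Dual.IsDualizing A ω) (n : ℤ) : Dual.IsDualizing A (ω⟦n⟧) where
  isNoetherianRing := h.isNoetherianRing
  finite_injective_dimension := by
    obtain ⟨a, b, hab⟩ := h.finite_injective_dimension
    exact ⟨a - n, b - n, fun M _ _ i hi => ((Iso.refl _).homCongr
      ((CategoryTheory.shiftFunctorAdd (Dual.D A) n i).app ω)).subsingleton_congr.1 (hab M (n + i) (by omega))⟩
  finite_cohomology i := by
    haveI := h.finite_cohomology (n + i)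
    let g : (DerivedCategory.homologyFunctor (ModuleCat.{u} A) i).obj (ω⟦n⟧) ≅
        (DerivedCategory.homologyFunctor (ModuleCat.{u} A) (n + i)).obj ω :=
      ((DerivedCategory.homologyFunctor (ModuleCat.{u} A) 0).shiftIso n i (n + i) rfl).app ω
    exact Module.Finite.equiv g.toLinearEquiv.symm
  toEnd_bijective := by
    have h2 : Function.Bijective fun a : A => homShiftEquiv ω ω n (a • 𝟙 ω) :=
      (homShiftEquiv ω ω n).bijective.comp h.toEnd_bijective
    convert h2 using 1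
    funext a
    show a • 𝟙 _ = (CategoryTheory.shiftFunctor (Dual.D A) n).map (a • 𝟙 ω)
    rw [Functor.map_smul, CategoryTheory.Functor.map_id]
  ext_self_subsingleton i hi :=
    ((Iso.refl _).homCongr (shiftComm ω i n)).subsingleton_congr.1
      ((homShiftEquiv ω (ω⟦i⟧) n).toEquiv.subsingleton_congr.1 (h.ext_self_subsingleton i hi))

variable [IsLocalRing A] [IsNoetherianRing A]

local notation "𝔪" => IsLocalRing.maximalIdeal A

/-- A finite module whose dual is the hull is free of rank one. -/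
theorem exists_generator {E : Type u} [AddCommGroup E] [Module A E] {f : IsLocalRing.ResidueField A →ₗ[A] E}
    (hf : InjHull.IsInjectiveHull f) (M : Type u) [AddCommGroup M] [Module A M] [Module.Finite A M]
    (g : (M →ₗ[A] E) ≃ₗ[A] E) : ∃ h : M, (∀ x, ∃ a : A, a • h = x) ∧ ∀ a : A, a • h = 0 → a = 0 := by
  have hann : ∀ a : A, (∀ x : M, a • x = 0) → a = 0 := fun a ha => by
    have h1 : a ∈ Module.annihilator A (M →ₗ[A] E) := (annihilator_dual_eq hf M) ▸ Module.mem_annihilator.2 ha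
    rw [g.annihilator_eq, ← (LinearMap.ringLmapEquivSelf A A E).annihilator_eq, ← annihilator_dual_eq hf A,
      Module.mem_annihilator] at h1
    simpa using h1 1
  have hsoc : ∀ x : E, (∀ a ∈ 𝔪, a • x = 0) → ∃ c, f c = x := fun x hx => by
    by_cases hx0 : x = 0
    · exact ⟨0, by rw [map_zero, hx0]⟩
    obtain ⟨y, hy, hy0⟩ := Submodule.exists_mem_ne_zero_of_ne_bot (hf.essential (A ∙ x)
      (fun h => hx0 (Submodule.span_singleton_eq_bot.1 h)))
    obtain ⟨r, rfl⟩ := Submodule.mem_span_singleton.1 hy.1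
    obtain ⟨c, hc⟩ := hy.2
    obtain ⟨u, rfl⟩ : IsUnit r := not_not.1 fun h => hy0 (hx r ((IsLocalRing.mem_maximalIdeal r).2 h))
    exact ⟨(↑u⁻¹ : A) • c, by rw [map_smul, hc, smul_smul, Units.inv_mul, one_smul]⟩
  have hcyc : ∀ c : IsLocalRing.ResidueField A, ∃ a : A, a • (1 : IsLocalRing.ResidueField A) = c := fun c => by
    obtain ⟨a, ha⟩ := IsLocalRing.residue_surjective c
    exact ⟨a, by rw [Algebra.smul_def, mul_one]; exact ha⟩
  let φs : M →ₗ[A] E := g.symm (f 1)
  have hkill : ∀ a ∈ 𝔪, ∀ v : M, φs (a • v) = 0 := fun a ha v => by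
    rw [map_smul]
    refine LinearMap.congr_fun (show a • φs = 0 from g.injective ?_) v
    rw [map_smul, map_zero, LinearEquiv.apply_symm_apply, ← map_smul,
      show a • (1 : IsLocalRing.ResidueField A) = 0 by
        rw [Algebra.smul_def, mul_one]; exact (IsLocalRing.residue_eq_zero_iff a).2 ha, map_zero]
  have hall : ∀ ψ : M →ₗ[A] E, (∀ a ∈ 𝔪, ∀ v, ψ (a • v) = 0) → ∃ r : A, r • φs = ψ := fun ψ hψ => by
    obtain ⟨c, hc⟩ := hsoc (g ψ) fun a ha => by
      rw [← map_smul, show a • ψ = 0 from LinearMap.ext fun v => (map_smul ψ a v).symm.trans (hψ a ha v), map_zero]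
    obtain ⟨r, rfl⟩ := hcyc c
    exact ⟨r, g.injective (by rw [map_smul, LinearEquiv.apply_symm_apply, ← map_smul, hc])⟩
  have hker : ∀ v : M, φs v = 0 → v ∈ (𝔪 • ⊤ : Submodule A M) := fun v hv => by
    by_contra hne
    let Q := M ⧸ (𝔪 • ⊤ : Submodule A M)
    obtain ⟨ψ, hψ⟩ := MatlisLib.exists_dual_ne_zero_of_ne hf (M := Q)
      (x := (Submodule.Quotient.mk v : Q)) (fun h => hne ((Submodule.Quotient.mk_eq_zero _).1 h))
    obtain ⟨r, hr⟩ := hall (ψ ∘ₗ Submodule.mkQ _) fun a ha w => by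
      rw [LinearMap.comp_apply, Submodule.mkQ_apply, (Submodule.Quotient.mk_eq_zero _).2
        (Submodule.smul_mem_smul ha Submodule.mem_top), map_zero]
    exact hψ (((LinearMap.congr_fun hr v).symm.trans (by rw [LinearMap.smul_apply, hv, smul_zero])))
  have hne : φs ≠ 0 := fun h => by
    have h1 : f 1 = 0 := g.symm.map_eq_zero_iff.1 h
    exact one_ne_zero (hf.injective (h1.trans (map_zero f).symm))
  obtain ⟨h, hh⟩ : ∃ h : M, φs h ≠ 0 := by
    by_contra hcon
    push Not at hcon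
    exact hne (LinearMap.ext hcon)
  have hgen : ∀ x : M, ∃ a : A, a • h = x := fun x => by
    suffices htop : (⊤ : Submodule A M) ≤ Submodule.span A {h} from Submodule.mem_span_singleton.1 (htop Submodule.mem_top)
    refine Submodule.le_of_le_smul_of_le_jacobson_bot Module.Finite.fg_top
      (le_of_eq (IsLocalRing.jacobson_eq_maximalIdeal ⊥ bot_ne_top).symm) fun y _ => ?_
    have hk : ∀ w : M, ∀ a ∈ 𝔪, a • φs w = 0 := fun w a ha => by rw [← map_smul, hkill a ha]
    obtain ⟨c, hc⟩ := hsoc _ (hk y)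
    obtain ⟨d, hd⟩ := hsoc _ (hk h)
    have hd0 : d ≠ 0 := fun h0 => hh (by rw [← hd, h0, map_zero])
    obtain ⟨r, hr⟩ := IsLocalRing.residue_surjective (c * d⁻¹)
    have hrc : r • φs h = φs y := by
      rw [← hd, ← hc, ← map_smul]
      refine congrArg f ?_
      rw [Algebra.smul_def]
      exact (congrArg (· * d) hr).trans (by rw [mul_assoc, inv_mul_cancel₀ hd0, mul_one])
    refine Submodule.mem_sup.2 ⟨r • h, Submodule.mem_span_singleton.2 ⟨r, rfl⟩, y - r • h,
      hker _ (by rw [map_sub, map_smul, hrc, sub_self]), by abel⟩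
  refine ⟨h, hgen, fun a ha => hann a fun x => ?_⟩
  obtain ⟨c, rfl⟩ := hgen x
  rw [smul_comm, ha, smul_zero]

/-- Finite duals vanish when the residual dual does. -/
theorem subsingleton_EH_of_residue {W : DRing.Cx A} [∀ i, Injective (W.X i)] (a : ℤ)
    (hzero : ∀ i, i < a → IsZero (W.X i)) (hW : ∀ i, Module.Finite A (W.homology i))
    (hk : ∀ i, Subsingleton (EH W (A ⧸ 𝔪) i)) (N : Type u) [AddCommGroup N] [Module A N] [Module.Finite A N] :
    ∀ i, Subsingleton (EH W N i) := by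
  refine devissage (fun (N : Type u) (_ : AddCommGroup N) (_ : Module A N) (_ : Module.Finite A N) => ∀ i, Subsingleton (EH W N i)) (fun N _ _ _ _ i => ?_) ?_ ?_ N
  · exact subsingleton_of_forall_eq 0 fun x => by
      have := smul_eq_zero_of_killed W (ModuleCat.of A N) (a := 1) (fun x => Subsingleton.elim _ _) i x
      rwa [one_smul] at this
  · intro N₁ _ _ _ N₂ _ _ _ N₃ _ _ _ f g hf hg hex h₁ h₃ i
    refine subsingleton_of_forall_eq 0 fun x => ?_
    haveI := h₁ i
    haveI := h₃ i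
    obtain ⟨y, rfl⟩ := (pull_exact hf hg hex i x).1 (Subsingleton.elim _ _)
    rw [Subsingleton.elim y 0, map_zero]
  · intro p hp hind i
    by_cases hpm : p = 𝔪
    · subst hpm
      exact hk i
    obtain ⟨x, hxm, hxp⟩ := SetLike.exists_of_lt ((IsLocalRing.le_maximalIdeal hp.ne_top).lt_of_ne hpm)
    let f : (A ⧸ p) →ₗ[A] A ⧸ p := x • LinearMap.id
    have hf : Function.Injective f := (injective_iff_map_eq_zero _).2 fun v hv => by
      obtain ⟨r, rfl⟩ := Submodule.Quotient.mk_surjective p v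
      have h : x * r ∈ p := (Submodule.Quotient.mk_eq_zero p).1 hv
      exact (Submodule.Quotient.mk_eq_zero p).2 ((hp.mem_or_mem h).resolve_left hxp)
    haveI := finite_dual a hzero hW (ModuleCat.of A (A ⧸ p)) i
    haveI hQ : Subsingleton (EH W ((A ⧸ p) ⧸ LinearMap.range f) (i + 1)) := by
      refine hind (p ⊔ Ideal.span {x}) (lt_of_le_of_ne le_sup_left fun h => hxp (h.symm ▸
        Ideal.mem_sup_right (Ideal.mem_span_singleton_self x))) _ (sup_le ?_ ?_) _
      · intro a ha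
        refine Module.mem_annihilator.2 fun v => ?_
        obtain ⟨v, rfl⟩ := Submodule.Quotient.mk_surjective _ v
        obtain ⟨r, rfl⟩ := Submodule.Quotient.mk_surjective p v
        rw [← Submodule.Quotient.mk_smul, ← Submodule.Quotient.mk_smul, smul_eq_mul,
          (Submodule.Quotient.mk_eq_zero p).2 (p.mul_mem_right r ha), Submodule.Quotient.mk_zero]
      · rw [Ideal.span_singleton_le_iff_mem]
        refine Module.mem_annihilator.2 fun v => ?_
        obtain ⟨v, rfl⟩ := Submodule.Quotient.mk_surjective _ v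
        exact (Submodule.Quotient.mk_eq_zero _).2 ⟨v, rfl⟩
    refine eq_zero_of_surjective_smul hxm fun y => ?_
    obtain ⟨w, hw⟩ := (pull_conn_exact (W := W) hf (Submodule.mkQ_surjective _) (LinearMap.exact_map_mkQ_range f)
      i (i + 1) rfl y).1 (Subsingleton.elim _ _)
    refine ⟨w, Eq.trans ?_ hw⟩
    exact (smul_homologyMap_dmap W (ModuleCat.of A (A ⧸ p)) x i w).symm

/-- Two normalized dualizing complexes are isomorphic. -/
theorem nonempty_iso_of_normalized {ω ω' : Dual.D A} (hω : Dual.IsDualizing A ω) (hn : Dual.IsNormalized A ω)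
    (hω' : Dual.IsDualizing A ω') (hn' : Dual.IsNormalized A ω') : Nonempty (ω ≅ ω') := by
  haveI : DRing.HasRgammaI 𝔪 := RGamma.hasRgammaI 𝔪
  obtain ⟨W, a, b, hWK, hW, hzero, ⟨e⟩, ⟨k0⟩⟩ := exists_residual' hω hn
  obtain ⟨W', a', b', hWK', hW', hzero', ⟨e'⟩, ⟨k0'⟩⟩ := exists_residual' hω' hn'
  haveI := hWK
  haveI := hWK'
  haveI := hW.injective
  haveI := hW'.injective
  haveI := hW'.injective_H0
  obtain ⟨Wp, hWp, ep, hWpres, -, -, hE, hP⟩ := exists_pairing hω' hn'
  haveI := hWp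
  haveI := hWpres.injective_H0
  let S := (DerivedCategory.singleFunctor (ModuleCat.{u} A) 0).obj (ModuleCat.of A (A ⧸ 𝔪))
  let z := CategoryTheory.shiftFunctorZero (Dual.D A) ℤ
  obtain ⟨E, _, _, fE, hfE⟩ := MatlisLib.exists_hull (R := A) (IsLocalRing.ResidueField A)
  have hbd : ∀ i : ℤ, (i < a ∨ b < i) → Subsingleton (Dual.HD A ω i) := fun i hi =>
    ModuleCat.subsingleton_of_isZero ((ShortComplex.isZero_homology_of_isZero_X₂ _ (hzero i hi)).of_iso
      ((DerivedCategory.homologyFunctor (ModuleCat.{u} A) i).mapIso e.symm ≪≫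
        (DerivedCategory.homologyFunctorFactors (ModuleCat.{u} A) i).app W))
  obtain ⟨hs, hi⟩ := hP ω hω.finite_cohomology ⟨a, b, hbd⟩ 0
  obtain ⟨g1⟩ := LD.nonempty_HDI_dual (I := 𝔪) ep ω 0 hs hi
  obtain ⟨g2⟩ := nonempty_HDI_equiv e 𝔪 0
  obtain ⟨g3⟩ := hW.exists_hull ⟨k0⟩ fE hfE
  obtain ⟨g4⟩ := hE E fE hfE
  obtain ⟨hfinH, -⟩ := local_duality hω' hn' E fE hfE ω hω.finite_cohomology 0
  have hH : Module.Finite A (ω ⟶ ω') := by
    haveI : Module.Finite A (ω ⟶ ω'⟦(0 : ℤ)⟧) := by simpa using hfinH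
    exact Module.Finite.equiv (Linear.homCongr A (Iso.refl ω)
      ((CategoryTheory.shiftFunctorZero (Dual.D A) ℤ).app ω'))
  haveI := hH
  obtain ⟨n, p, hp⟩ := Module.Finite.exists_fin' A (ω ⟶ ω')
  let gq : ((Fin n → A) ⧸ LinearMap.ker p) ≃ₗ[A] (ω ⟶ ω') := LinearMap.quotKerEquivOfSurjective p hp
  let hz : (ω⟦(0 : ℤ)⟧ ⟶ ω') ≃ₗ[A] (ω ⟶ ω') := Linear.homCongr A (z.app ω) (Iso.refl ω')
  let G : (((Fin n → A) ⧸ LinearMap.ker p) →ₗ[A] E) ≃ₗ[A] E :=
    LinearEquiv.congrLeft E A (gq ≪≫ₗ hz.symm) ≪≫ₗ LinearEquiv.congrRight g4.symm ≪≫ₗ g1.symm ≪≫ₗ g2 ≪≫ₗ g3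
  obtain ⟨h0, hgen0, hfree⟩ := exists_generator hfE _ G
  let f : ω ⟶ ω' := gq h0
  have hgen : ∀ α : ω ⟶ ω', ∃ c : A, c • f = α := fun α => by
    obtain ⟨c, hc⟩ := hgen0 (gq.symm α)
    exact ⟨c, gq.symm.injective (by rw [map_smul, LinearEquiv.symm_apply_apply, hc])⟩
  have gen : ∀ {V : DRing.Cx A} [V.IsKInjective] {K : Dual.D A} (eV : DerivedCategory.Q.obj V ≅ K),
      ((dCx V (ModuleCat.of A (A ⧸ 𝔪))).homology 0 ≃ₗ[A] (A ⧸ 𝔪)) →
      ∃ φ : S ⟶ K, φ ≠ 0 ∧ ∀ ψ : S ⟶ K, ∃ c : A, c • φ = ψ := fun {V} _ {K} eV k => by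
    let g : (S ⟶ K) ≃ₗ[A] A ⧸ 𝔪 := Linear.homCongr A (Iso.refl _) (z.app K).symm ≪≫ₗ homIso V eV _ 0 ≪≫ₗ k
    refine ⟨g.symm (Submodule.Quotient.mk 1), fun h => (IsLocalRing.maximalIdeal.isMaximal A).ne_top
      ((Ideal.eq_top_iff_one _).2 ((Submodule.Quotient.mk_eq_zero _).1 (g.symm.map_eq_zero_iff.1 h))), fun ψ => ?_⟩
    obtain ⟨c, hc⟩ := Submodule.Quotient.mk_surjective _ (g ψ)
    exact ⟨c, g.injective (by rw [map_smul, LinearEquiv.apply_symm_apply, ← hc, ← Submodule.Quotient.mk_smul, smul_eq_mul, mul_one])⟩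
  obtain ⟨φ, hφ0, hφ⟩ := gen e k0
  obtain ⟨φ', hφ'0, hφ'⟩ := gen e' k0'
  have hkillS : ∀ (K : Dual.D A) (c : A), c ∈ 𝔪 → ∀ ψ : S ⟶ K, c • ψ = 0 := fun K c hc ψ => by
    refine (cancel_epi LD.iota.hom).1 ?_
    rw [Linear.comp_smul, comp_zero]
    exact LD.smul_sA 𝔪 (by rwa [pow_one]) _
  have hφf : φ ≫ f ≠ 0 := fun h0' => by
    let v : LD.sA 𝔪 1 ⟶ ω := LD.iota.hom ≫ φ
    have hval : LD.val 𝔪 ep 1 (v ≫ z.inv.app ω) = 0 := LinearMap.ext fun ψ => by
      obtain ⟨c, hc⟩ := hgen (z.inv.app ω ≫ ψ)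
      rw [LD.val_apply, LinearMap.zero_apply, Category.assoc]
      refine (congrArg (fun t => LD.L 𝔪 ep 1 (v ≫ t)) hc.symm).trans ?_
      rw [Linear.comp_smul, Category.assoc, h0', comp_zero, smul_zero, map_zero]
    obtain ⟨m, hm, hv⟩ := hi 1 _ hval
    have hv2 : LD.sπ 𝔪 hm ≫ v = 0 := (cancel_mono (z.inv.app ω)).1 (by rw [Category.assoc, hv, zero_comp])
    have hv3 : LD.L 𝔪 e 1 v = 0 := by rw [← LD.L_sπ 𝔪 e hm, hv2, map_zero]
    exact hφ0 ((cancel_epi LD.iota.hom).1
      (((LD.L_injective e hW 1) (hv3.trans (map_zero _).symm)).trans comp_zero.symm))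
  obtain ⟨c0, hc0⟩ := hφ' (φ ≫ f)
  have hc0u : IsUnit c0 := not_not.1 fun h => hφf (by rw [← hc0, hkillS _ c0 ((IsLocalRing.mem_maximalIdeal c0).2 h)])
  have hinjf : ∀ ψ : S ⟶ ω, ψ ≫ f = 0 → ψ = 0 := fun ψ hψ => by
    obtain ⟨c, rfl⟩ := hφ ψ
    by_contra hne
    have hcu : IsUnit c := not_not.1 fun h => hne (hkillS _ c ((IsLocalRing.mem_maximalIdeal c).2 h) φ)
    rw [Linear.smul_comp, hcu.smul_eq_zero] at hψ
    exact hφf hψ
  have hsurjf : ∀ ψ : S ⟶ ω', ∃ ψ0 : S ⟶ ω, ψ0 ≫ f = ψ := fun ψ => by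
    obtain ⟨c, rfl⟩ := hφ' ψ
    obtain ⟨u, rfl⟩ := hc0u
    exact ⟨(c * ↑u⁻¹) • φ, by rw [Linear.smul_comp, ← hc0, smul_smul, mul_assoc, Units.inv_mul, mul_one]⟩
  obtain ⟨C, g, δ, hT⟩ := Pretriangulated.distinguished_cocone_triangle f
  suffices hC : IsZero C by
    haveI : IsIso f := (Triangle.isZero₃_iff_isIso₁ _ hT).1 hC
    exact ⟨asIso f⟩
  have hCfin : ∀ i : ℤ, Module.Finite A (Dual.HD A C i) := fun i => by
    haveI := hω'.finite_cohomology i
    haveI := hω.finite_cohomology (i + 1)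
    have hex := (ShortComplex.ShortExact.moduleCat_exact_iff_function_exact _).1
      (DerivedCategory.HomologySequence.exact₃ _ hT i (i + 1) rfl)
    haveI : IsNoetherian A
        ((DerivedCategory.homologyFunctor (ModuleCat.{u} A) (i + 1)).obj (Triangle.mk f g δ).obj₁) :=
      isNoetherian_of_isNoetherianRing_of_finite A (Dual.HD A ω (i + 1))
    haveI : IsNoetherian A ((DerivedCategory.homologyFunctor (ModuleCat.{u} A) i).obj (Triangle.mk f g δ).obj₂) :=
      isNoetherian_of_isNoetherianRing_of_finite A (Dual.HD A ω' i)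
    haveI : IsNoetherian A (Dual.HD A C i) := isNoetherian_of_range_eq_ker
      ((DerivedCategory.homologyFunctor (ModuleCat.{u} A) i).map g).hom
      (DerivedCategory.HomologySequence.δ (Triangle.mk f g δ) i (i + 1) rfl).hom (LinearMap.exact_iff.1 hex).symm
    exact Module.IsNoetherian.finite A _
  have hCbd : ∀ i : ℤ, i < min (a - 1) a' → Subsingleton (Dual.HD A C i) := fun i hi => by
    have hex := (ShortComplex.ShortExact.moduleCat_exact_iff_function_exact _).1
      (DerivedCategory.HomologySequence.exact₃ _ hT i (i + 1) rfl)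
    haveI := hbd (i + 1) (Or.inl (by omega))
    haveI : Subsingleton (Dual.HD A ω' i) := ModuleCat.subsingleton_of_isZero
      ((ShortComplex.isZero_homology_of_isZero_X₂ _ (hzero' i (Or.inl (by omega)))).of_iso
        ((DerivedCategory.homologyFunctor (ModuleCat.{u} A) i).mapIso e'.symm ≪≫
          (DerivedCategory.homologyFunctorFactors (ModuleCat.{u} A) i).app W'))
    refine subsingleton_of_forall_eq 0 fun x => ?_
    obtain ⟨y, rfl⟩ := (hex x).1 (@Subsingleton.elim (Dual.HD A ω (i + 1)) _ _ _)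
    rw [@Subsingleton.elim (Dual.HD A ω' i) _ y 0]
    exact map_zero _
  obtain ⟨V, hV, hVinj, hVz, ⟨eV⟩⟩ := exists_model_below (min (a - 1) a') hCbd
  haveI := hV
  haveI := hVinj
  have hres : ∀ i, Subsingleton (EH V (A ⧸ 𝔪) i) := fun i => by
    refine (homIso V eV (ModuleCat.of A (A ⧸ 𝔪)) i).toEquiv.subsingleton_congr.1 (subsingleton_of_forall_eq 0 fun β => ?_)
    have hTi := Triangle.shift_distinguished _ hT i
    let T := (Triangle.shiftFunctor (Dual.D A) i).obj (Triangle.mk f g δ)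
    have h31 : (β ≫ T.mor₃) ≫ T.mor₁⟦(1 : ℤ)⟧' = 0 := by
      exact (Category.assoc _ _ _).trans ((congrArg (β ≫ ·) (comp_distTriang_mor_zero₃₁ T hTi)).trans comp_zero)
    have hβ3 : β ≫ T.mor₃ = 0 := by
      by_cases hi : i = -1
      · subst hi
        let c1 := CategoryTheory.shiftFunctorCompIsoId (Dual.D A) (-1 : ℤ) 1 (by omega)
        refine (cancel_mono (c1.hom.app ω)).1 ((hinjf _ ?_).trans zero_comp.symm)
        have hT1 : T.mor₁⟦(1 : ℤ)⟧' = -f⟦(-1 : ℤ)⟧'⟦(1 : ℤ)⟧' := by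
          show ((-1 : ℤ).negOnePow • f⟦(-1 : ℤ)⟧')⟦(1 : ℤ)⟧' = _
          simp
        have h0 : (β ≫ T.mor₃) ≫ f⟦(-1 : ℤ)⟧'⟦(1 : ℤ)⟧' = 0 :=
          neg_eq_zero.1 ((Preadditive.comp_neg _ _).symm.trans
            ((congrArg (fun t => (β ≫ T.mor₃) ≫ t) hT1.symm).trans h31))
        have hnat := c1.hom.naturality f
        simp only [Functor.comp_map, Functor.id_map] at hnat
        exact (Category.assoc _ _ _).trans ((congrArg (_ ≫ ·) hnat.symm).trans ((Category.assoc _ _ _).symm.trans ((congrArg (· ≫ c1.hom.app ω') h0).trans zero_comp)))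
      · haveI : Subsingleton (S ⟶ (ω⟦i⟧)⟦(1 : ℤ)⟧) :=
          ((Iso.refl S).homCongr ((CategoryTheory.shiftFunctorAdd (Dual.D A) i 1).app ω)).subsingleton_congr.1
            (hn (i + 1) (by omega))
        exact Subsingleton.elim (α := (S ⟶ (ω⟦i⟧)⟦(1 : ℤ)⟧)) _ _
    obtain ⟨γ, hγ⟩ := Triangle.coyoneda_exact₃ T hTi β hβ3
    by_cases hi : i = 0
    · subst hi
      obtain ⟨ψ0, hψ0⟩ := hsurjf (γ ≫ z.hom.app ω')
      have hg : γ = (ψ0 ≫ z.inv.app ω) ≫ T.mor₁ := by
        refine (cancel_mono (z.hom.app ω')).1 ?_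
        refine hψ0.symm.trans ?_
        refine Eq.trans ?_ ((Category.assoc _ _ _).trans (Category.assoc _ _ _)).symm
        have hnat := z.hom.naturality f
        simp only [Functor.id_map] at hnat
        show ψ0 ≫ f = ψ0 ≫ z.inv.app ω ≫ ((0 : ℤ).negOnePow • f⟦(0 : ℤ)⟧') ≫ z.hom.app ω'
        rw [Int.negOnePow_zero, one_smul, hnat, Iso.inv_hom_id_app_assoc]
      rw [hγ, hg]
      exact (Category.assoc _ _ _).trans ((congrArg ((ψ0 ≫ z.inv.app ω) ≫ ·)
        (comp_distTriang_mor_zero₁₂ T hTi)).trans comp_zero)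
    · haveI : Subsingleton (S ⟶ ω'⟦i⟧) := hn' i hi
      rw [hγ, @Subsingleton.elim (S ⟶ ω'⟦i⟧) _ γ 0]
      exact zero_comp
  refine isZero_of_homology_isZero C fun i => ?_
  haveI := subsingleton_EH_of_residue (min (a - 1) a') hVz (finite_homology_model eV hCfin) hres A i
  refine IsZero.of_iso ?_ ((DerivedCategory.homologyFunctor (ModuleCat.{u} A) i).mapIso eV.symm ≪≫
    (DerivedCategory.homologyFunctorFactors (ModuleCat.{u} A) i).app V ≪≫
    ((HomologicalComplex.homologyFunctor (ModuleCat.{u} A) (ComplexShape.up ℤ) i).mapIso (dSelfIso V)).symm)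
  exact @ModuleCat.isZero_of_subsingleton _ _ _ ‹_›

/-- Dualizing complexes over a local ring are unique up to shift. -/
theorem exists_normalized_shift {ω : Dual.D A} (hω : Dual.IsDualizing A ω) :
    ∃ n : ℤ, Dual.IsDualizing A (ω⟦n⟧) ∧ Dual.IsNormalized A (ω⟦n⟧) := by
  obtain ⟨W, a, b, hW, hinj, hzero, ⟨e⟩⟩ := exists_model hω.finite_injective_dimension
  haveI := hW
  haveI := hinj
  obtain ⟨n, h1, -⟩ := exists_degree W 𝔪 a b hzero e hω
  refine ⟨n, isDualizing_shift hω n, fun i hi => ?_⟩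
  haveI : Subsingleton (Dual.inD A (IsLocalRing.ResidueField A) ⟶ ω⟦n + i⟧) :=
    (homIso W e (ModuleCat.of A (A ⧸ 𝔪)) (n + i)).toEquiv.subsingleton_congr.2 (h1 (n + i) (by omega))
  exact ((Iso.refl _).homCongr ((CategoryTheory.shiftFunctorAdd (Dual.D A) n i).app ω)).subsingleton_congr.1 inferInstance

end Groth.Agent.DualCx
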