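import Groth.Prelude.Def_Wider
import Groth.Agent.RGamma.HDI
import Groth.Agent.DRingPC.InjAmp
import Groth.Agent.LocCohLib.HomCx
import Mathlib.Algebra.Homology.HomologySequenceLemmas

/-!
# The dual complex of a module with respect to a complex of injectives
-/

set_option autoImplicit false
set_option linter.style.haveILetI false

open CategoryTheory CategoryTheory.Limits

universe u

attribute [local instance] HasDerivedCategory.standard

namespace Groth.Agent.DualCx

open Groth.Agent.LocCohLib Groth.Agent.RGamma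

variable {A : Type u} [CommRing A]

/-- `Hom(N, W)`. -/
noncomputable def dCx (W : DRing.Cx A) (N : ModuleCat.{u} A) : DRing.Cx A where
  X i := ModuleCat.of A (N →ₗ[A] W.X i)
  d i j := ModuleCat.ofHom (LinearMap.llcomp A N (W.X i) (W.X j) (W.d i j).hom)
  shape i j h := ModuleCat.hom_ext (LinearMap.ext fun z => LinearMap.ext fun x =>
    ConcreteCategory.congr_hom (W.shape i j h) (z x))
  d_comp_d' i j l _ _ := ModuleCat.hom_ext (LinearMap.ext fun z => LinearMap.ext fun x =>
    ConcreteCategory.congr_hom (W.d_comp_d i j l) (z x))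

variable (W : DRing.Cx A)

/-- Contravariant functoriality. -/
noncomputable def dmap {N N' : ModuleCat.{u} A} (f : N ⟶ N') : dCx W N' ⟶ dCx W N where
  f i := ModuleCat.ofHom (LinearMap.lcomp A (W.X i) f.hom)
  comm' _ _ _ := rfl

theorem dmap_f {N N' : ModuleCat.{u} A} (f : N ⟶ N') (i : ℤ) (z : N' →ₗ[A] W.X i) :
    (dmap W f).f i z = z ∘ₗ f.hom := rfl

theorem dmap_comp {N N' N'' : ModuleCat.{u} A} (f : N ⟶ N') (g : N' ⟶ N'') :
    dmap W (f ≫ g) = dmap W g ≫ dmap W f := rfl

theorem dmap_id (N : ModuleCat.{u} A) : dmap W (𝟙 N) = 𝟙 _ := rfl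

theorem dmap_smul {N N' : ModuleCat.{u} A} (a : A) (f : N ⟶ N') : dmap W (a • f) = a • dmap W f :=
  HomologicalComplex.hom_ext _ _ fun i => ModuleCat.hom_ext (LinearMap.ext fun z => LinearMap.ext fun x =>
    map_smul (show N' →ₗ[A] W.X i from z) a (f.hom x))

/-- The sequence of duals. -/
noncomputable abbrev dShort (C : ShortComplex (ModuleCat.{u} A)) : ShortComplex (DRing.Cx A) :=
  ShortComplex.mk (dmap W C.g) (dmap W C.f) (HomologicalComplex.hom_ext _ _ fun i =>
    ModuleCat.hom_ext (LinearMap.ext fun z => LinearMap.ext fun x =>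
      (congrArg (show C.X₃ →ₗ[A] W.X i from z) (ConcreteCategory.congr_hom C.zero x)).trans (map_zero _)))

theorem dShort_shortExact [∀ i, Injective (W.X i)] {C : ShortComplex (ModuleCat.{u} A)} (hC : C.ShortExact) :
    (dShort W C).ShortExact := by
  refine HomologicalComplex.shortExact_of_degreewise_shortExact _ fun i => ?_
  haveI := hC.mono_f
  haveI := hC.epi_g
  exact
    { exact := (ShortComplex.ShortExact.moduleCat_exact_iff_function_exact _).2
        fun (z : C.X₂ →ₗ[A] W.X i) => ⟨fun hz =>
          ⟨(hC.exact.desc (ModuleCat.ofHom z) (ModuleCat.hom_ext hz)).hom,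
            LinearMap.ext fun x => ConcreteCategory.congr_hom
              (hC.exact.g_desc (ModuleCat.ofHom z) (ModuleCat.hom_ext hz)) x⟩, by
          rintro ⟨w, rfl⟩
          exact ConcreteCategory.congr_hom (HomologicalComplex.congr_hom (dShort W C).zero i) w⟩
      mono_f := (ModuleCat.mono_iff_injective _).2 fun (z w : C.X₃ →ₗ[A] W.X i) h => LinearMap.ext fun x => by
        obtain ⟨y, rfl⟩ := hC.moduleCat_surjective_g x
        exact LinearMap.congr_fun (show z ∘ₗ C.g.hom = w ∘ₗ C.g.hom from h) y
      epi_g := (ModuleCat.epi_iff_surjective _).2 fun (z : C.X₁ →ₗ[A] W.X i) =>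
        ⟨(Injective.factorThru (ModuleCat.ofHom z) C.f).hom, LinearMap.ext fun x =>
          ConcreteCategory.congr_hom (Injective.comp_factorThru (ModuleCat.ofHom z) C.f) x⟩ }

theorem smul_homologyMap_dmap (N : ModuleCat.{u} A) (a : A) (i : ℤ) (x : (dCx W N).homology i) :
    HomologicalComplex.homologyMap (dmap W (a • 𝟙 N)) i x = a • x := by
  rw [dmap_smul, dmap_id]
  exact RHomCx.homologyMap_smul_id' (dCx W N) a i x

theorem smul_eq_zero_of_killed (N : ModuleCat.{u} A) {a : A} (h : ∀ x : N, a • x = 0) (i : ℤ)
    (x : (dCx W N).homology i) : a • x = 0 := by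
  obtain ⟨z, rfl⟩ := scCls_surjective ((dCx W N).sc i) x
  have hz : a • z = 0 := Subtype.ext (LinearMap.ext fun y => by
    show a • (show N →ₗ[A] W.X i from z.1) y = 0
    rw [← map_smul, h, map_zero])
  exact (map_smul (scCls ((dCx W N).sc i)) a z).symm.trans ((congrArg _ hz).trans (map_zero _))

/-- The class of a cycle. -/
noncomputable def dcls (N : ModuleCat.{u} A) (i : ℤ) : cyc W i N →ₗ[A] (dCx W N).homology i :=
  scCls ((dCx W N).sc i) ∘ₗ LinearMap.codRestrict _ (cyc W i N).subtype (fun z => by
    show (dCx W N).d i ((ComplexShape.up ℤ).next i) z.1 = 0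
    rw [CochainComplex.next]
    exact z.2)

theorem dcls_surjective (N : ModuleCat.{u} A) (i : ℤ) : Function.Surjective (dcls W N i) := by
  intro x
  obtain ⟨z, rfl⟩ := scCls_surjective ((dCx W N).sc i) x
  have h : (dCx W N).d i ((ComplexShape.up ℤ).next i) z.1 = 0 := z.2
  rw [CochainComplex.next] at h
  exact ⟨⟨z.1, h⟩, rfl⟩

theorem dcls_eq_zero_iff (N : ModuleCat.{u} A) (i : ℤ) (z : cyc W i N) :
    dcls W N i z = 0 ↔ ∃ w : N →ₗ[A] W.X (i - 1), ∀ m, z.1 m = (W.d (i - 1) i).hom (w m) := by
  refine (scCls_eq_zero _).trans ?_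
  show (∃ y, (dCx W N).d ((ComplexShape.up ℤ).prev i) i y = z.1) ↔ _
  rw [CochainComplex.prev]
  exact ⟨fun ⟨y, hy⟩ => ⟨y, fun m => (LinearMap.congr_fun hy m).symm⟩,
    fun ⟨w, hw⟩ => ⟨w, LinearMap.ext fun m => (hw m).symm⟩⟩

theorem psi_ker [W.IsKInjective] {K : Dual.D A} (e : DerivedCategory.Q.obj W ≅ K) (N : ModuleCat.{u} A) (i : ℤ) :
    LinearMap.ker (psi W i e N) = LinearMap.ker (dcls W N i) := by
  ext z
  rw [LinearMap.mem_ker, LinearMap.mem_ker, dcls_eq_zero_iff]
  exact ⟨exists_of_psi_eq_zero W i e z, fun ⟨w, hw⟩ => psi_eq_zero W i e z w hw⟩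

/-- `Hom_D(N, ω[i]) = H^i Hom(N, W)`. -/
noncomputable def homIso [W.IsKInjective] {K : Dual.D A} (e : DerivedCategory.Q.obj W ≅ K) (N : ModuleCat.{u} A)
    (i : ℤ) : ((DerivedCategory.singleFunctor (ModuleCat.{u} A) 0).obj N ⟶ K⟦i⟧) ≃ₗ[A] (dCx W N).homology i :=
  (LinearMap.quotKerEquivOfSurjective _ (psi_surjective W i e N)).symm ≪≫ₗ
    Submodule.quotEquivOfEq _ _ (psi_ker W e N i) ≪≫ₗ
    LinearMap.quotKerEquivOfSurjective _ (dcls_surjective W N i)

/-- Evaluation at one. -/
noncomputable def dSelfIso : dCx W (ModuleCat.of A A) ≅ W :=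
  HomologicalComplex.Hom.isoOfComponents (fun i => (LinearMap.ringLmapEquivSelf A A (W.X i)).toModuleIso)
    (fun _ _ _ => rfl)

/-- A bounded complex of injectives representing a dualizing complex. -/
theorem exists_model {K : Dual.D A} (h : ∃ a b : ℤ, ∀ (M : Type u) [AddCommGroup M] [Module A M] (i : ℤ),
    (i < a ∨ b < i) → Subsingleton (Dual.inD A M ⟶ K⟦i⟧)) :
    ∃ (W : DRing.Cx A) (a b : ℤ), W.IsKInjective ∧ (∀ i, Injective (W.X i)) ∧
      (∀ i, (i < a ∨ b < i) → IsZero (W.X i)) ∧ Nonempty (DerivedCategory.Q.obj W ≅ K) := by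
  obtain ⟨a, b, h⟩ := h
  obtain ⟨E, hvan, hinj, ⟨e⟩⟩ := DRingPC.injAmp_of_extD (A := A) a b fun I i hi => h (A ⧸ I) i hi
  haveI : ∀ i, Injective (E.X i) := fun i => by
    haveI := hinj i
    exact (Module.injective_iff_injective_object A (E.X i)).1 (hinj i)
  haveI : E.IsStrictlyGE a := (CochainComplex.isStrictlyGE_iff _ _).2 fun i hi => hvan i (Or.inl hi)
  exact ⟨E, a, b, CochainComplex.isKInjective_of_injective E a, inferInstance, fun i hi => hvan i hi, ⟨e⟩⟩

theorem finite_homology_dCx [IsNoetherianRing A] [∀ i, Injective (W.X i)] (a : ℤ)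
    (hzero : ∀ i, i < a → IsZero (W.X i)) (hW : ∀ i, Module.Finite A (W.homology i)) :
    ∀ (n : ℕ) (i : ℤ), i < a + n → ∀ (N : ModuleCat.{u} A) [Module.Finite A N],
      Module.Finite A ((dCx W N).homology i) := by
  intro n
  induction n with
  | zero =>
    intro i hi N _
    haveI := ModuleCat.subsingleton_of_isZero (hzero i (by simpa using hi))
    haveI : Subsingleton ((dCx W N).homology i) := ModuleCat.subsingleton_of_isZero
      (ShortComplex.isZero_homology_of_isZero_X₂ _ (@ModuleCat.isZero_of_subsingleton _ _ _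
        (inferInstanceAs (Subsingleton (N →ₗ[A] W.X i)))))
    exact Module.Finite.of_finite
  | succ n ih =>
    intro i hi N _
    have hfree : ∀ k, ∀ j, Module.Finite A ((dCx W (ModuleCat.of A (Fin k → A))).homology j) := by
      intro k
      induction k with
      | zero =>
        intro j
        haveI : Subsingleton ((dCx W (ModuleCat.of A (Fin 0 → A))).homology j) :=
          subsingleton_of_forall_eq 0 fun x => by
            have := smul_eq_zero_of_killed W (ModuleCat.of A (Fin 0 → A)) (a := 1)
              (fun x => funext fun t => t.elim0) j x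
            rwa [one_smul] at this
        exact Module.Finite.of_finite
      | succ k ihk =>
        intro j
        let C := ShortComplex.mk (ModuleCat.ofHom (X := A) (Y := Fin (k + 1) → A) (LinearMap.single A (fun _ => A) 0))
          (ModuleCat.ofHom (X := Fin (k + 1) → A) (Y := Fin k → A) (LinearMap.funLeft A A Fin.succ))
          (ModuleCat.hom_ext (LinearMap.ext fun x => funext fun t => by
            simp [LinearMap.funLeft, Fin.succ_ne_zero]
            rfl))
        have hC : C.ShortExact :=
          { exact := (ShortComplex.ShortExact.moduleCat_exact_iff_function_exact _).2 fun (v : Fin (k + 1) → A) =>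
              ⟨fun hv => ⟨v 0, funext fun t => by
                rcases Fin.eq_zero_or_eq_succ t with rfl | ⟨s, rfl⟩
                · simp [C]
                · exact (Pi.single_eq_of_ne (M := fun _ => A) (Fin.succ_ne_zero s) (v 0)).trans (congrFun hv s).symm⟩, by
                rintro ⟨x, rfl⟩
                exact ConcreteCategory.congr_hom C.zero x⟩
            mono_f := (ModuleCat.mono_iff_injective _).2 fun x y h => by
              simpa [C] using congrFun h 0
            epi_g := (ModuleCat.epi_iff_surjective _).2 fun v => ⟨Fin.cons 0 v, funext fun t => by simp [C, LinearMap.funLeft]⟩ }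
        have hS := dShort_shortExact W hC
        have hex := hS.homology_exact₂ j
        haveI := hW j
        haveI : Module.Finite A ((dShort W C).X₁.homology j) := ihk j
        haveI : Module.Finite A ((dShort W C).X₃.homology j) :=
          (fun {X : ModuleCat.{u} A} (h : Module.Finite A X) (e : (dCx W (ModuleCat.of A A)).homology j ≅ X) =>
            haveI := h
            Module.Finite.equiv e.symm.toLinearEquiv)
            (X := (HomologicalComplex.homologyFunctor (ModuleCat.{u} A) (ComplexShape.up ℤ) j).obj W) (hW j)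
            ((HomologicalComplex.homologyFunctor _ _ j).mapIso (dSelfIso W))
        haveI : IsNoetherian A ((dShort W C).X₂.homology j) := isNoetherian_of_range_eq_ker
          (HomologicalComplex.homologyMap (dShort W C).f j).hom (HomologicalComplex.homologyMap (dShort W C).g j).hom
          ((ShortComplex.ShortExact.moduleCat_exact_iff_function_exact _).1 hex).linearMap_ker_eq.symm
        exact Module.IsNoetherian.finite A ((dShort W C).X₂.homology j)
    obtain ⟨k, p, hp⟩ := Module.Finite.exists_fin' A N
    let C := ShortComplex.mk (ModuleCat.ofHom (X := LinearMap.ker p) (Y := Fin k → A) (LinearMap.ker p).subtype)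
      (ModuleCat.ofHom p) (ModuleCat.hom_ext (LinearMap.ext fun x => x.2))
    have hC : C.ShortExact :=
      { exact := (ShortComplex.ShortExact.moduleCat_exact_iff_function_exact _).2 (LinearMap.exact_subtype_ker_map p)
        mono_f := (ModuleCat.mono_iff_injective _).2 Subtype.val_injective
        epi_g := (ModuleCat.epi_iff_surjective _).2 hp }
    have hS := dShort_shortExact W hC
    haveI : Module.Finite A C.X₁ := inferInstanceAs (Module.Finite A (LinearMap.ker p))
    haveI : Module.Finite A ((dShort W C).X₃.homology (i - 1)) := ih (i - 1) (by push_cast at hi; omega) C.X₁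
    haveI : Module.Finite A ((dShort W C).X₂.homology i) := hfree k i
    haveI : IsNoetherian A ((dShort W C).X₁.homology i) := isNoetherian_of_range_eq_ker
      (hS.δ (i - 1) i (by simp)).hom (HomologicalComplex.homologyMap (dShort W C).f i).hom
      ((ShortComplex.ShortExact.moduleCat_exact_iff_function_exact _).1 (hS.homology_exact₁ (i - 1) i (by simp))).linearMap_ker_eq.symm
    exact Module.IsNoetherian.finite A ((dShort W C).X₁.homology i)

end Groth.Agent.DualCx
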