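import Groth.Agent.DualCx.Local

/-!
# Depth and top degree of the dual
-/

set_option autoImplicit false
set_option linter.style.haveILetI false

open CategoryTheory CategoryTheory.Limits
open scoped Pointwise

universe u

attribute [local instance] HasDerivedCategory.standard

namespace Groth.Agent.DualCx

variable {A : Type u} [CommRing A] [IsLocalRing A] [IsNoetherianRing A] {W : DRing.Cx A} {c : ℤ}

theorem IsResidual.depth_spec (hW : IsResidual W c) : ∀ (n : ℕ) (N : Type u) [AddCommGroup N] [Module A N]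
    [Module.Finite A N] [Nontrivial N], LocCoh.depth A N = n →
    (∀ i : ℤ, c - n < i → Subsingleton (EH W N i)) ∧ Nontrivial (EH W N (c - n)) := by
  haveI := hW.injective
  intro n
  induction n with
  | zero =>
    intro N _ _ _ _ hn
    refine ⟨fun i hi => hW.upper N i (by simpa using hi), ?_⟩
    obtain ⟨hprime, v, hv⟩ :=
      isAssociatedPrime_iff.1 ((DepthLib.depth_eq_zero_iff (R := A) (M := N)).1 (by simpa using hn))
    have hk : ∀ a : A, a • v = 0 ↔ a ∈ IsLocalRing.maximalIdeal A := fun a => by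
      rw [hv, Submodule.mem_colon_singleton, Submodule.mem_bot]
    let f : (A ⧸ IsLocalRing.maximalIdeal A) →ₗ[A] N :=
      Submodule.liftQ _ (LinearMap.toSpanSingleton A N v) fun a ha => (hk a).2 ha
    have hf : Function.Injective f := (injective_iff_map_eq_zero f).2 fun w hw => by
      obtain ⟨a, rfl⟩ := Submodule.Quotient.mk_surjective _ w
      exact (Submodule.Quotient.mk_eq_zero _).2 ((hk a).1 hw)
    have h := shortExact_mk hf (Submodule.mkQ_surjective (LinearMap.range f)) (LinearMap.exact_map_mkQ_range f)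
    rw [Nat.cast_zero, sub_zero]
    haveI := hW.nontrivial
    haveI := hW.upper (N ⧸ LinearMap.range f) (c + 1) (by omega)
    refine Function.Surjective.nontrivial (f := pull W f c) fun y => ?_
    exact (pull_conn_exact hf (Submodule.mkQ_surjective _) (LinearMap.exact_map_mkQ_range f) c (c + 1) rfl y).1
      (Subsingleton.elim _ _)
  | succ n ih =>
    intro N _ _ _ _ hn
    obtain ⟨x, hx, hreg⟩ := (DepthLib.one_le_idealDepth_iff (R := A) (I := IsLocalRing.maximalIdeal A) (M := N)).1
      (by rw [show LocCoh.idealDepth (IsLocalRing.maximalIdeal A) N = LocCoh.depth A N from rfl, hn]; simp)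
    have hq : LocCoh.depth A (QuotSMulTop x N) = n := by
      have h1 := DepthLib.idealDepth_quotSMulTop_add_one (M := N) (I := IsLocalRing.maximalIdeal A) hx hreg
      rw [show LocCoh.idealDepth (IsLocalRing.maximalIdeal A) N = LocCoh.depth A N from rfl, hn] at h1
      push_cast at h1
      exact (WithTop.add_right_inj ENat.one_ne_top).1 h1
    haveI : Nontrivial (QuotSMulTop x N) := by
      by_contra hcon
      rw [not_nontrivial_iff_subsingleton] at hcon
      haveI := hcon
      rw [DepthLib.depth_eq_top_of_subsingleton] at hq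
      exact ENat.top_ne_coe n hq
    obtain ⟨h1, h2⟩ := ih (QuotSMulTop x N) hq
    have hf : Function.Injective (x • LinearMap.id : N →ₗ[A] N) := hreg
    have hg := Submodule.mkQ_surjective (x • (⊤ : Submodule A N))
    have hex : Function.Exact (x • LinearMap.id : N →ₗ[A] N) (x • (⊤ : Submodule A N)).mkQ :=
      LinearMap.exact_lsmul_mkQ_smul_top N x
    have hvan : ∀ i : ℤ, c - (n + 1) < i → Subsingleton (EH W N i) := fun i hi => by
      haveI := hW.finite (ModuleCat.of A N) i
      haveI := h1 (i + 1) (by omega)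
      refine eq_zero_of_surjective_smul (M := EH W N i) hx fun v => ?_
      obtain ⟨w, rfl⟩ := (pull_conn_exact hf hg hex i (i + 1) rfl v).1 (Subsingleton.elim _ _)
      exact ⟨w, (pull_smul W x i w).symm⟩
    push_cast
    refine ⟨hvan, ?_⟩
    haveI := hvan (c - n) (by omega)
    haveI := h2
    have hs : Function.Surjective (conn (W := W) hf hg hex (c - (n + 1)) (c - n) (by omega)) := fun y =>
      (conn_pull_exact hf hg hex (c - (n + 1)) (c - n) (by omega) y).1 (Subsingleton.elim _ _)
    exact hs.nontrivial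

theorem IsResidual.depth_eq_iff (hW : IsResidual W c) (N : Type u) [AddCommGroup N] [Module A N]
    [Module.Finite A N] [Nontrivial N] (n : ℕ) : LocCoh.depth A N = n ↔
      ((∀ δ : ℕ, δ < n → Subsingleton (EH W N (c - δ))) ∧ Nontrivial (EH W N (c - n))) := by
  obtain ⟨m, hm⟩ := DepthLib.exists_nat_depth (R := A) N
  obtain ⟨h1, h2⟩ := hW.depth_spec m N hm
  constructor
  · intro hn
    obtain rfl : m = n := by rw [hm] at hn; exact_mod_cast hn
    exact ⟨fun δ hδ => h1 _ (by omega), h2⟩
  · rintro ⟨g1, g2⟩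
    rcases lt_trichotomy m n with h | rfl | h
    · haveI := g1 m h
      exact (not_nontrivial _ h2).elim
    · exact hm
    · haveI := h1 (c - n) (by omega)
      exact (not_nontrivial _ g2).elim

omit [IsLocalRing A] [IsNoetherianRing A] in
theorem exists_annihilator_notMem {M : Type u} [AddCommGroup M] [Module A M] [Module.Finite A M]
    {q : PrimeSpectrum A} (h : q ∉ Module.support A M) : ∃ y, y ∉ q.asIdeal ∧ ∀ v : M, y • v = 0 := by
  rw [Module.mem_support_iff_of_finite, SetLike.not_le_iff_exists] at h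
  obtain ⟨y, hy, hyq⟩ := h
  exact ⟨y, hyq, fun v => Module.mem_annihilator.1 hy v⟩

theorem lt_of_dim_add_one_le {a : WithBot ℕ∞} {d : ℕ} (h : (d : WithBot ℕ∞) + 1 ≤ a) (h' : a ≤ d) : False := by
  have h1 : ((d + 1 : ℕ) : WithBot ℕ∞) ≤ (d : WithBot ℕ∞) := by push_cast; exact h.trans h'
  exact (Nat.not_succ_le_self d) (by exact_mod_cast h1)

section sq

variable (p : Ideal A) (x : A)

/-- Multiplication by `x` from `A/(p+x)` to `A/(p+x²)`. -/
noncomputable def mulsq : (A ⧸ (p ⊔ Ideal.span {x})) →ₗ[A] A ⧸ (p ⊔ Ideal.span {x * x}) :=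
  Submodule.liftQ _ ((p ⊔ Ideal.span {x * x}).mkQ ∘ₗ LinearMap.mulLeft A x) fun a ha => by
    obtain ⟨b, hb, e, he, rfl⟩ := Submodule.mem_sup.1 ha
    obtain ⟨e, rfl⟩ := Ideal.mem_span_singleton'.1 he
    rw [LinearMap.mem_ker, LinearMap.comp_apply, LinearMap.mulLeft_apply, Submodule.mkQ_apply,
      Submodule.Quotient.mk_eq_zero]
    exact Submodule.mem_sup.2 ⟨x * b, Ideal.mul_mem_left _ _ hb, e * (x * x),
      Ideal.mul_mem_left _ _ (Ideal.mem_span_singleton_self _), by ring⟩

omit [IsLocalRing A] [IsNoetherianRing A] in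
theorem mulsq_mk (a : A) : mulsq p x (Submodule.Quotient.mk a) = Submodule.Quotient.mk (x * a) := rfl

omit [IsLocalRing A] [IsNoetherianRing A] in
theorem sq_le : p ⊔ Ideal.span {x * x} ≤ p ⊔ Ideal.span {x} :=
  sup_le_sup_left (Ideal.span_singleton_le_span_singleton.2 (dvd_mul_right x x)) p

/-- The projection. -/
abbrev projsq : (A ⧸ (p ⊔ Ideal.span {x * x})) →ₗ[A] A ⧸ (p ⊔ Ideal.span {x}) := Submodule.factor (sq_le p x)

omit [IsLocalRing A] [IsNoetherianRing A] in
theorem mulsq_injective [hp : p.IsPrime] (hx : x ∉ p) : Function.Injective (mulsq p x) :=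
  (injective_iff_map_eq_zero _).2 fun v hv => by
    obtain ⟨a, rfl⟩ := Submodule.Quotient.mk_surjective _ v
    rw [mulsq_mk, Submodule.Quotient.mk_eq_zero] at hv
    rw [Submodule.Quotient.mk_eq_zero]
    obtain ⟨b, hb, e, he, he'⟩ := Submodule.mem_sup.1 hv
    obtain ⟨e, rfl⟩ := Ideal.mem_span_singleton'.1 he
    have hmem : x * (a - e * x) ∈ p := by
      rw [show x * (a - e * x) = b by linear_combination -he']
      exact hb
    exact Submodule.mem_sup.2 ⟨a - e * x, (hp.mem_or_mem hmem).resolve_left hx, e * x,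
      Ideal.mul_mem_left _ _ (Ideal.mem_span_singleton_self x), by ring⟩

omit [IsLocalRing A] [IsNoetherianRing A] in
theorem mulsq_projsq_exact : Function.Exact (mulsq p x) (projsq p x) := fun v => by
  obtain ⟨a, rfl⟩ := Submodule.Quotient.mk_surjective _ v
  show Submodule.Quotient.mk (p := p ⊔ Ideal.span {x}) a = 0 ↔ _
  rw [Submodule.Quotient.mk_eq_zero]
  constructor
  · intro ha
    obtain ⟨b, hb, e, he, rfl⟩ := Submodule.mem_sup.1 ha
    obtain ⟨e, rfl⟩ := Ideal.mem_span_singleton'.1 he
    refine ⟨Submodule.Quotient.mk e, ?_⟩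
    rw [mulsq_mk, Submodule.Quotient.eq, show x * e - (b + e * x) = -b by ring]
    exact neg_mem (Submodule.mem_sup_left hb)
  · rintro ⟨w, hw⟩
    obtain ⟨e, rfl⟩ := Submodule.Quotient.mk_surjective _ w
    rw [mulsq_mk, Submodule.Quotient.eq] at hw
    have h1 : x * e ∈ p ⊔ Ideal.span {x} :=
      Ideal.mul_mem_right e _ (Submodule.mem_sup_right (Ideal.mem_span_singleton_self x))
    have h2 := sub_mem h1 (sq_le p x hw)
    rwa [sub_sub_cancel] at h2

omit [IsNoetherianRing A] in
theorem pull_quotx_bijective [∀ i, Injective (W.X i)] [p.IsPrime] (hx : x ∉ p) (i j : ℤ) (hij : i + 1 = j)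
    [Subsingleton (EH W (A ⧸ p) i)] (hkill : ∀ v : EH W (A ⧸ p) j, x • v = 0) :
    Function.Bijective (pull W (quotx p x) j) :=
  ⟨injective_of_left_zero (mulx_injective p x hx) (quotx_surjective p x) (mulx_quotx_exact p x) i j hij
    fun v => by rw [Subsingleton.elim v 0, map_zero],
  fun v => (pull_exact (mulx_injective p x hx) (quotx_surjective p x) (mulx_quotx_exact p x) j v).1
    ((pull_smul W x j v).trans (hkill v))⟩

omit [IsLocalRing A] [IsNoetherianRing A] in
theorem conn_injective_of_pull_surjective [∀ i, Injective (W.X i)] {N₁ N₂ N₃ : Type u} [AddCommGroup N₁]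
    [AddCommGroup N₂] [AddCommGroup N₃] [Module A N₁] [Module A N₂] [Module A N₃] {f : N₁ →ₗ[A] N₂} {g : N₂ →ₗ[A] N₃}
    (hf : Function.Injective f) (hg : Function.Surjective g) (h : Function.Exact f g) (i j : ℤ) (hij : i + 1 = j)
    (hs : Function.Surjective (pull W g i)) : Function.Injective (conn (W := W) hf hg h i j hij) :=
  (injective_iff_map_eq_zero _).2 fun v hv => by
    obtain ⟨w, rfl⟩ := (pull_conn_exact hf hg h i j hij v).1 hv
    exact (pull_exact hf hg h i w).2 (hs w)

end sq

theorem top_step (hW : IsResidual W c) (p : Ideal A) (hp : p.IsPrime)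
    (ih : ∀ (J : Ideal A), p < J → ∀ (N : Type u) [AddCommGroup N] [Module A N] [Module.Finite A N],
        J ≤ Module.annihilator A N → ∀ d : ℕ, Module.supportDim A N ≤ d → ∀ q ∈ Module.support A N,
          ringKrullDim (A ⧸ q.asIdeal) = d → q ∈ Module.support A (EH W N (c - d)))
    (d : ℕ) (hd : Module.supportDim A (A ⧸ p) ≤ d) (q : PrimeSpectrum A) (hq : q ∈ Module.support A (A ⧸ p))
    (hqd : ringKrullDim (A ⧸ q.asIdeal) = d) : q ∈ Module.support A (EH W (A ⧸ p) (c - d)) := by
  haveI := hW.injective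
  haveI := hp
  have hpq : p ≤ q.asIdeal := by
    rw [Module.mem_support_iff_of_finite, Ideal.annihilator_quotient] at hq
    exact hq
  by_cases hm : p = IsLocalRing.maximalIdeal A
  · subst hm
    have hqm : q = IsLocalRing.closedPoint A :=
      PrimeSpectrum.ext ((IsLocalRing.maximalIdeal.isMaximal A).eq_of_le q.isPrime.ne_top hpq).symm
    subst hqm
    haveI : Nontrivial (EH W (A ⧸ IsLocalRing.maximalIdeal A) c) := hW.nontrivial
    haveI := hW.finite (ModuleCat.of A (A ⧸ IsLocalRing.maximalIdeal A)) c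
    obtain rfl : d = 0 := by
      change ringKrullDim (A ⧸ IsLocalRing.maximalIdeal A) = d at hqd
      rw [ringKrullDim_eq_zero_of_isField ((Ideal.Quotient.maximal_ideal_iff_isField_quotient _).1 inferInstance)] at hqd
      exact_mod_cast hqd.symm
    rw [Nat.cast_zero, sub_zero]
    exact IsLocalRing.closedPoint_mem_support A (EH W (A ⧸ IsLocalRing.maximalIdeal A) c)
  obtain ⟨m0, hm0, hm0p⟩ := exists_mem_notMem p hm hp.ne_top
  obtain rfl : q = ⟨p, hp⟩ := by
    refine PrimeSpectrum.ext (le_antisymm ?_ hpq)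
    by_contra hne
    obtain ⟨x, hxq, hxp⟩ := SetLike.not_le_iff_exists.1 hne
    have hxm : x ∈ IsLocalRing.maximalIdeal A := IsLocalRing.le_maximalIdeal q.isPrime.ne_top hxq
    have hqJ : q ∈ Module.support A (A ⧸ (p ⊔ Ideal.span {x})) := by
      rw [Module.mem_support_iff_of_finite, Ideal.annihilator_quotient]
      exact sup_le hpq ((Ideal.span_singleton_le_iff_mem _).2 hxq)
    refine lt_of_dim_add_one_le ?_ hd
    rw [← supportDim_quot_add_one p x hxm hxp, ← hqd]
    exact add_le_add (DepthLib.ringKrullDim_quotient_le_supportDim q hqJ) le_rfl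
  have hdim : Module.supportDim A (A ⧸ p) = d := by
    rw [Module.supportDim_quotient_eq_ringKrullDim]
    exact hqd
  obtain ⟨d', rfl⟩ : ∃ d', d = d' + 1 := by
    haveI := nontrivial_quot p m0 hp.ne_top hm0
    obtain ⟨h1, -⟩ := le_pred_of_add_one_le ((supportDim_quot_add_one p m0 hm0 hm0p).trans hdim).le
      (Module.supportDim_ne_bot_of_nontrivial A (A ⧸ (p ⊔ Ideal.span {m0})))
    exact ⟨d - 1, by omega⟩
  haveI := hW.finite (ModuleCat.of A (A ⧸ p)) (c - (d' + 1 : ℕ))
  haveI := hW.finite (ModuleCat.of A (A ⧸ p)) (c - d')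
  by_contra hV
  obtain ⟨y, hy, hyV⟩ := exists_annihilator_notMem hV
  have hV' : (⟨p, hp⟩ : PrimeSpectrum A) ∉ Module.support A (EH W (A ⧸ p) (c - d')) := fun hh => by
    have hb := supportDim_le_iff.1 (hW.supportDim_le (A ⧸ p) (c - d')) _ hh
    rw [hqd, show (c - (c - (d' : ℤ))).toNat = d' by omega] at hb
    exact Nat.not_succ_le_self d' (by exact_mod_cast hb)
  obtain ⟨y', hy', hyV'⟩ := exists_annihilator_notMem hV'
  let x := y * y' * m0
  have hx : x ∈ IsLocalRing.maximalIdeal A := Ideal.mul_mem_left _ _ hm0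
  have hxp : x ∉ p := fun hh => (hp.mem_or_mem hh).elim (fun h1 => (hp.mem_or_mem h1).elim hy hy') hm0p
  have hxp2 : x * x ∉ p := fun hh => hxp ((hp.mem_or_mem hh).elim id id)
  have hx2 : x * x ∈ IsLocalRing.maximalIdeal A := Ideal.mul_mem_left _ _ hx
  let J := p ⊔ Ideal.span {x}
  haveI := nontrivial_quot p x hp.ne_top hx
  have hJdim : Module.supportDim A (A ⧸ J) ≤ d' := by
    obtain ⟨-, h1⟩ := le_pred_of_add_one_le ((supportDim_quot_add_one p x hx hxp).trans hdim).le
      (Module.supportDim_ne_bot_of_nontrivial A (A ⧸ (p ⊔ Ideal.span {x})))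
    simpa using h1
  have hpos : ∀ (z : A) (hz : z ∉ p), Module.supportDim A (A ⧸ (p ⊔ Ideal.span {z})) ≤ d' →
      (∀ v : EH W (A ⧸ p) (c - (d' + 1 : ℕ)), z • v = 0) → Subsingleton (EH W (A ⧸ p) (c - (d' + 1 : ℕ))) := by
    intro z hz hdz hkill
    haveI := hW.lower (A ⧸ (p ⊔ Ideal.span {z})) d' hdz (c - (d' + 1 : ℕ)) (by omega)
    refine subsingleton_of_forall_eq 0 fun v => ?_
    obtain ⟨w, rfl⟩ := (pull_exact (mulx_injective p z hz) (quotx_surjective p z) (mulx_quotx_exact p z) _ v).1
      ((pull_smul W z _ v).trans (hkill v))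
    rw [Subsingleton.elim w 0, map_zero]
  have hxV : ∀ v : EH W (A ⧸ p) (c - (d' + 1 : ℕ)), x • v = 0 := fun v => by
    rw [show x = (y' * m0) * y by ring, mul_smul, hyV, smul_zero]
  have hxV' : ∀ v : EH W (A ⧸ p) (c - d'), x • v = 0 := fun v => by
    rw [show x = (y * m0) * y' by ring, mul_smul, hyV', smul_zero]
  haveI := hpos x hxp hJdim hxV
  have h1 := pull_quotx_bijective p x hxp (c - (d' + 1 : ℕ)) (c - d') (by omega) hxV'
  have h2 := pull_quotx_bijective (W := W) p (x * x) hxp2 (c - (d' + 1 : ℕ)) (c - d') (by omega)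
    (fun v => by rw [mul_smul, hxV' v]; exact smul_zero x)
  have hπ : quotx p x = projsq p x ∘ₗ quotx p (x * x) := LinearMap.ext fun v => by
    obtain ⟨a, rfl⟩ := Submodule.Quotient.mk_surjective p v
    rfl
  have hcomp : pull W (quotx p x) (c - d') = pull W (quotx p (x * x)) (c - d') ∘ₗ pull W (projsq p x) (c - d') := by
    rw [hπ]
    exact hmap_comp W (ModuleCat.ofHom (quotx p (x * x))) (ModuleCat.ofHom (projsq p x)) _
  rw [hcomp, LinearMap.coe_comp] at h1
  have hπbij := (Function.Bijective.of_comp_iff' h2 _).1 h1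
  have hinj := conn_injective_of_pull_surjective (W := W) (mulsq_injective p x hxp) (Submodule.factor_surjective _)
    (mulsq_projsq_exact p x) (c - d') (c - d' + 1) rfl hπbij.2
  obtain ⟨q', hq', hq'd⟩ := DepthLib.exists_mem_support_ringKrullDim_eq (R := A) (M := A ⧸ J)
  have hq'' : ringKrullDim (A ⧸ q'.asIdeal) = d' := by
    rw [hq'd]
    refine le_antisymm hJdim ?_
    have h1 := (supportDim_quot_add_one p x hx hxp).trans hdim
    push_cast at h1
    exact (WithBot.add_le_add_iff_right' WithBot.one_ne_bot (by rw [← WithBot.coe_one]; exact fun h => ENat.one_ne_top (WithBot.coe_injective h))).1 h1.ge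
  have hmem := Module.support_subset_of_injective _ hinj
    (ih J (lt_sup_span p x hxp) (A ⧸ J) Ideal.annihilator_quotient.ge d' hJdim q' hq' hq'')
  cases d' with
  | zero =>
    haveI := hW.upper (A ⧸ J) (c - ((0 : ℕ) : ℤ) + 1) (by omega)
    rw [Module.support_eq_empty] at hmem
    exact hmem
  | succ d' =>
    have hb := supportDim_le_iff.1 (hW.supportDim_le (A ⧸ J) (c - ((d' + 1 : ℕ) : ℤ) + 1)) q' hmem
    rw [hq'', show (c - (c - ((d' + 1 : ℕ) : ℤ) + 1)).toNat = d' by omega] at hb
    exact Nat.not_succ_le_self d' (by exact_mod_cast hb)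

theorem top_ext (hW : IsResidual W c) {N₁ N₂ N₃ : Type u} [AddCommGroup N₁] [Module A N₁] [Module.Finite A N₁]
    [AddCommGroup N₂] [Module A N₂] [Module.Finite A N₂] [AddCommGroup N₃] [Module A N₃] [Module.Finite A N₃]
    (f : N₁ →ₗ[A] N₂) (g : N₂ →ₗ[A] N₃) (hf : Function.Injective f) (hg : Function.Surjective g) (h : Function.Exact f g)
    (h₁ : ∀ d : ℕ, Module.supportDim A N₁ ≤ d → ∀ q ∈ Module.support A N₁,
      ringKrullDim (A ⧸ q.asIdeal) = d → q ∈ Module.support A (EH W N₁ (c - d)))
    (h₃ : ∀ d : ℕ, Module.supportDim A N₃ ≤ d → ∀ q ∈ Module.support A N₃,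
      ringKrullDim (A ⧸ q.asIdeal) = d → q ∈ Module.support A (EH W N₃ (c - d))) :
    ∀ d : ℕ, Module.supportDim A N₂ ≤ d → ∀ q ∈ Module.support A N₂,
      ringKrullDim (A ⧸ q.asIdeal) = d → q ∈ Module.support A (EH W N₂ (c - d)) := by
  intro d hd q hq hqd
  haveI := hW.injective
  have hd₁ := (Module.supportDim_le_of_injective f hf).trans hd
  have hd₃ := (Module.supportDim_le_of_surjective g hg).trans hd
  haveI := hW.finite (ModuleCat.of A N₂) (c - d)
  have hinj : Function.Injective (pull W g (c - d)) := injective_of_left_zero hf hg h (c - d - 1) (c - d) (by omega)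
    fun x => by
      haveI := hW.lower N₁ d hd₁ (c - d - 1) (by omega)
      rw [Subsingleton.elim x 0, map_zero]
  by_cases h₃q : q ∈ Module.support A N₃
  · exact Module.support_subset_of_injective _ hinj (h₃ d hd₃ q h₃q hqd)
  · rw [Module.support_of_exact h hf hg] at hq
    have h1 := h₁ d hd₁ q (hq.resolve_right h₃q) hqd
    rcases support_subset_of_exact (pull_conn_exact (W := W) hf hg h (c - d) (c - d + 1) rfl) h1 with hh | hh
    · exact hh
    · exfalso
      have hb := (supportDim_le_iff.1 (hW.supportDim_le N₃ (c - d + 1))) q hh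
      rw [hqd] at hb
      cases d with
      | zero =>
        haveI := hW.upper N₃ (c - ((0 : ℕ) : ℤ) + 1) (by omega)
        rw [Module.support_eq_empty] at hh
        exact hh
      | succ d =>
        rw [show (c - (c - ((d + 1 : ℕ) : ℤ) + 1)).toNat = d by omega] at hb
        exact Nat.not_succ_le_self d (by exact_mod_cast hb)

theorem IsResidual.top_mem_support (hW : IsResidual W c) (N : Type u) [AddCommGroup N] [Module A N]
    [Module.Finite A N] : ∀ d : ℕ, Module.supportDim A N ≤ d → ∀ q ∈ Module.support A N,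
      ringKrullDim (A ⧸ q.asIdeal) = d → q ∈ Module.support A (EH W N (c - d)) := by
  haveI := hW.injective
  refine devissage (fun N _ _ _ => ∀ d : ℕ, Module.supportDim A N ≤ d → ∀ q ∈ Module.support A N,
      ringKrullDim (A ⧸ q.asIdeal) = d → q ∈ Module.support A (EH W N (c - d)))
    (fun N _ _ _ hs d _ q hq _ => by
      rw [Module.support_eq_empty] at hq
      exact hq.elim)
    (fun N₁ _ _ _ N₂ _ _ _ N₃ _ _ _ f g hf hg h h₁ h₃ => top_ext hW f g hf hg h h₁ h₃)
    (fun p hp ih => top_step hW p hp ih) N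

theorem IsResidual.nontrivial_top (hW : IsResidual W c) (N : Type u) [AddCommGroup N] [Module A N]
    [Module.Finite A N] [Nontrivial N] (d : ℕ) (hd : Module.supportDim A N = d) :
    Nontrivial (EH W N (c - d)) := by
  obtain ⟨q, hq, hqd⟩ := DepthLib.exists_mem_support_ringKrullDim_eq (R := A) (M := N)
  have h := hW.top_mem_support N d hd.le q hq (hqd.trans hd)
  by_contra hcon
  rw [not_nontrivial_iff_subsingleton] at hcon
  rw [Module.support_eq_empty] at h
  exact h

end Groth.Agent.DualCx
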