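import Groth.Agent.DualCx.Criterion0
import Groth.Agent.DualCx.LocalDepth
import Mathlib.CategoryTheory.Abelian.DiagramLemmas.Four

/-!
# Biduality from the residual dual
-/

set_option autoImplicit false
set_option linter.style.haveILetI false

open CategoryTheory CategoryTheory.Limits CochainComplex CochainComplex.HomComplex

universe u

attribute [local instance] HasDerivedCategory.standard

namespace Groth.Agent.DualCx

open Groth.Agent.LocCohLib Groth.Agent.RGamma

variable {A : Type u} [CommRing A] {W : DRing.Cx A}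

local notation "sgl" => HomologicalComplex.single (ModuleCat A) (ComplexShape.up ℤ) 0

section five

open HomologicalComplex.HomologySequence

theorem isIso_homologyMap_mid {S₁ S₂ : ShortComplex (DRing.Cx A)} (φ : S₁ ⟶ S₂) (hS₁ : S₁.ShortExact)
    (hS₂ : S₂.ShortExact) (h₁ : ∀ i, IsIso (HomologicalComplex.homologyMap φ.τ₁ i))
    (h₃ : ∀ i, IsIso (HomologicalComplex.homologyMap φ.τ₃ i)) (i : ℤ) :
    IsIso (HomologicalComplex.homologyMap φ.τ₂ i) := by
  haveI : Mono (HomologicalComplex.homologyMap φ.τ₂ i) := by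
    apply Abelian.mono_of_epi_of_mono_of_mono
      ((ComposableArrows.δ₀Functor ⋙ ComposableArrows.δ₀Functor).map (mapComposableArrows₅ φ hS₁ hS₂ (i - 1) i (by simp)))
    · exact (composableArrows₅_exact hS₁ (i - 1) i (by simp)).δ₀.δ₀
    · exact (composableArrows₅_exact hS₂ (i - 1) i (by simp)).δ₀.δ₀
    · haveI := h₃ (i - 1)
      exact inferInstanceAs (Epi (HomologicalComplex.homologyMap φ.τ₃ (i - 1)))
    · haveI := h₁ i
      exact inferInstanceAs (Mono (HomologicalComplex.homologyMap φ.τ₁ i))
    · haveI := h₃ i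
      exact inferInstanceAs (Mono (HomologicalComplex.homologyMap φ.τ₃ i))
  haveI : Epi (HomologicalComplex.homologyMap φ.τ₂ i) := by
    apply Abelian.epi_of_epi_of_epi_of_mono
      ((ComposableArrows.δlastFunctor ⋙ ComposableArrows.δlastFunctor).map (mapComposableArrows₅ φ hS₁ hS₂ i (i + 1) rfl))
    · exact (composableArrows₅_exact hS₁ i (i + 1) rfl).δlast.δlast
    · exact (composableArrows₅_exact hS₂ i (i + 1) rfl).δlast.δlast
    · haveI := h₁ i
      exact inferInstanceAs (Epi (HomologicalComplex.homologyMap φ.τ₁ i))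
    · haveI := h₃ i
      exact inferInstanceAs (Epi (HomologicalComplex.homologyMap φ.τ₃ i))
    · haveI := h₁ (i + 1)
      exact inferInstanceAs (Mono (HomologicalComplex.homologyMap φ.τ₁ (i + 1)))
  exact isIso_of_mono_of_epi _

end five

variable [∀ i, Injective (W.X i)]

/-- The comparison of sequences. -/
noncomputable def evShort {C : ShortComplex (ModuleCat.{u} A)} : C.map (sgl) ⟶ homShortPre (dShort W C) W where
  τ₁ := ev W C.X₁
  τ₂ := ev W C.X₂
  τ₃ := ev W C.X₃
  comm₁₂ := (ev_natural W C.f).symm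
  comm₂₃ := (ev_natural W C.g).symm

theorem isIso_ev_mid {C : ShortComplex (ModuleCat.{u} A)} (hC : C.ShortExact)
    (h₁ : ∀ i, IsIso (HomologicalComplex.homologyMap (ev W C.X₁) i))
    (h₃ : ∀ i, IsIso (HomologicalComplex.homologyMap (ev W C.X₃) i)) (i : ℤ) :
    IsIso (HomologicalComplex.homologyMap (ev W C.X₂) i) :=
  isIso_homologyMap_mid evShort (hC.map_of_exact _) (homShortPre_shortExact (dShort_shortExact W hC) W) h₁ h₃ i

omit [∀ i, Injective (W.X i)] in
theorem ddmap_smul_id (N : ModuleCat.{u} A) (a : A) : ddmap W (a • 𝟙 N) = a • 𝟙 (dd W N) := by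
  refine HomologicalComplex.hom_ext _ _ fun n => ModuleCat.hom_ext (LinearMap.ext fun z => ?_)
  refine Cochain.ext _ _ fun p q h => ?_
  refine (homCxPre_apply (dmap W (a • 𝟙 N)) W n z p q h).trans ?_
  rw [dmap_smul, dmap_id, HomologicalComplex.smul_f_apply, HomologicalComplex.id_f, Linear.smul_comp,
    Category.id_comp]
  rfl

variable [IsLocalRing A] [IsNoetherianRing A]

/-- Biduality step. -/
theorem isIso_ev_of_regular {N Q : Type u} [AddCommGroup N] [Module A N] [Module.Finite A N] [AddCommGroup Q] [Module A Q]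
    {x : A} (hx : x ∈ IsLocalRing.maximalIdeal A) {g : N →ₗ[A] Q}
    (hf : Function.Injective (x • LinearMap.id : N →ₗ[A] N)) (hg : Function.Surjective g)
    (hex : Function.Exact (x • LinearMap.id : N →ₗ[A] N) g)
    (hQ : ∀ i, IsIso (HomologicalComplex.homologyMap (ev W (ModuleCat.of A Q)) i))
    (hfin : ∀ i, Module.Finite A ((dd W (ModuleCat.of A N)).homology i)) (n : ℤ) :
    IsIso (HomologicalComplex.homologyMap (ev W (ModuleCat.of A N)) n) := by
  let C := ShortComplex.mk (ModuleCat.ofHom (x • LinearMap.id : N →ₗ[A] N)) (ModuleCat.ofHom g)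
    (ModuleCat.hom_ext hex.linearMap_comp_eq_zero)
  have hC : C.ShortExact := shortExact_mk hf hg hex
  have hS₁ : (C.map (sgl)).ShortExact := hC.map_of_exact _
  have hS₂ := homShortPre_shortExact (dShort_shortExact W hC) W
  let M := ModuleCat.of A N
  have hmul : ∀ (i : ℤ) (y : (dd W M).homology i), HomologicalComplex.homologyMap (ddmap W C.f) i y = x • y := by
    intro i y
    rw [show C.f = x • 𝟙 M from rfl, ddmap_smul_id]
    exact RHomCx.homologyMap_smul_id' _ x i y
  have hmul' : ∀ (i : ℤ) (y : ((sgl).obj M).homology i),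
      HomologicalComplex.homologyMap ((sgl).map C.f) i y = x • y := by
    intro i y
    rw [show C.f = x • 𝟙 M from rfl, show (sgl).map (x • 𝟙 M) = x • 𝟙 ((sgl).obj M) from
      HomologicalComplex.from_single_hom_ext (by
        rw [HomologicalComplex.single_map_f_self, HomologicalComplex.smul_f_apply, HomologicalComplex.id_f]
        simp)]
    exact RHomCx.homologyMap_smul_id' _ x i y
  have hQzero : ∀ i, i ≠ 0 → Subsingleton ((dd W C.X₃).homology i) := fun i hi => by
    haveI := hQ i
    exact ModuleCat.subsingleton_of_isZero ((homology_sgl_isZero C.X₃ i hi).of_iso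
      (asIso (HomologicalComplex.homologyMap (ev W C.X₃) i)).symm)
  haveI := hfin n
  by_cases hn : n = 0
  · subst hn
    let e1 := HomologicalComplex.homologyMap (ev W M) 0
    let e3 := HomologicalComplex.homologyMap (ev W C.X₃) 0
    let g1 := HomologicalComplex.homologyMap ((sgl).map C.g) 0
    let g2 := HomologicalComplex.homologyMap (ddmap W C.g) 0
    have hnat : ∀ v, g2 (e1 v) = e3 (g1 v) := fun v => by
      have h := congrArg (fun t => HomologicalComplex.homologyMap t 0) (ev_natural W C.g)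
      simp only [HomologicalComplex.homologyMap_comp] at h
      exact (ConcreteCategory.congr_hom h v).symm
    have hq : Function.Bijective e3 := (ConcreteCategory.isIso_iff_bijective _).1 (hQ 0)
    have hex₁ : Function.Exact (HomologicalComplex.homologyMap ((sgl).map C.f) 0) g1 :=
      (ShortComplex.ShortExact.moduleCat_exact_iff_function_exact _).1 (hS₁.homology_exact₂ 0)
    have hex₂ : Function.Exact (HomologicalComplex.homologyMap (ddmap W C.f) 0) g2 :=
      (ShortComplex.ShortExact.moduleCat_exact_iff_function_exact _).1 (hS₂.homology_exact₂ 0)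
    have hg1 : Function.Surjective g1 := by
      haveI : Epi g1 := (hS₁.homology_exact₃ 0 1 rfl).epi_f
        ((ShortComplex.isZero_homology_of_isZero_X₂ _
          (HomologicalComplex.isZero_single_obj_X (ComplexShape.up ℤ) 0 (ModuleCat.of A N) 1 one_ne_zero)).eq_of_tgt _ _)
      exact (ModuleCat.epi_iff_surjective g1).1 inferInstance
    have hxinj : ∀ y : (dd W M).homology 0, x • y = 0 → y = 0 := fun y hy => by
      have hm : Mono (HomologicalComplex.homologyMap (ddmap W C.f) 0) :=
        (hS₂.homology_exact₁ (-1) 0 (by simp)).mono_g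
          ((@ModuleCat.isZero_of_subsingleton _ _ _ (hQzero (-1) (by omega))).eq_of_src _ _)
      exact (ModuleCat.mono_iff_injective _).1 hm ((hmul 0 y).trans (hy.trans (map_zero (HomologicalComplex.homologyMap (ddmap W C.f) 0).hom).symm))
    haveI : Module.Finite A (((sgl).obj M).homology 0) := by
      haveI : Module.Finite A M := inferInstanceAs (Module.Finite A N)
      exact Module.Finite.equiv (HomologicalComplex.singleObjHomologySelfIso (ComplexShape.up ℤ) 0 M).toLinearEquiv.symm
    haveI : Subsingleton (LinearMap.ker e1.hom) := eq_zero_of_surjective_smul hx fun v => by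
      obtain ⟨v', hv'⟩ := (hex₁ v.1).1 (hq.1 (by rw [← hnat, show e1 v.1 = 0 from v.2, map_zero, map_zero]))
      rw [hmul'] at hv'
      refine ⟨⟨v', hxinj _ ?_⟩, Subtype.ext hv'⟩
      rw [← map_smul, hv']
      exact v.2
    haveI : Subsingleton ((dd W M).homology 0 ⧸ LinearMap.range e1.hom) := eq_zero_of_surjective_smul hx fun v => by
      obtain ⟨y, rfl⟩ := Submodule.Quotient.mk_surjective _ v
      obtain ⟨q, hq'⟩ := hq.2 (g2 y)
      obtain ⟨t, rfl⟩ := hg1 q
      obtain ⟨w, hw⟩ := (hex₂ (y - e1 t)).1 (by rw [map_sub, hnat, hq', sub_self])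
      rw [hmul] at hw
      refine ⟨Submodule.Quotient.mk w, ?_⟩
      rw [← Submodule.Quotient.mk_smul, hw, Submodule.Quotient.eq, sub_sub_cancel_left]
      exact neg_mem ⟨t, rfl⟩
    refine (ConcreteCategory.isIso_iff_bijective _).2 ⟨LinearMap.ker_eq_bot.1 (Submodule.eq_bot_of_subsingleton), ?_⟩
    exact LinearMap.range_eq_top.1 (Submodule.Quotient.subsingleton_iff.1 inferInstance)
  · haveI : Subsingleton ((dd W M).homology n) := eq_zero_of_surjective_smul hx fun v => by
      haveI : Subsingleton ((dd W C.X₃).homology n) := hQzero n hn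
      obtain ⟨w, hw⟩ := ((ShortComplex.ShortExact.moduleCat_exact_iff_function_exact _).1 (hS₂.homology_exact₂ n) v).1
        (Subsingleton.elim (α := (dd W C.X₃).homology n) _ _)
      exact ⟨w, (hmul n w).symm.trans hw⟩
    exact ⟨0, (homology_sgl_isZero M n hn).eq_of_src _ _,
      (ModuleCat.isZero_of_subsingleton ((dd W M).homology n)).eq_of_src _ _⟩

/-- Biduality from the residual dual. -/
theorem isIso_ev_of_residual [W.IsKInjective] {d : ℤ} (hW : IsResidual W d) (a b : ℤ)
    (hzero : ∀ i, (i < a ∨ b < i) → IsZero (W.X i)) (hfin : ∀ i, Module.Finite A (W.homology i))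
    (hk : Nonempty ((dCx W (ModuleCat.of A (A ⧸ IsLocalRing.maximalIdeal A))).homology d ≃ₗ[A]
      (A ⧸ IsLocalRing.maximalIdeal A))) (N : Type u) [AddCommGroup N] [Module A N] [Module.Finite A N] :
    ∀ n : ℤ, IsIso (HomologicalComplex.homologyMap (ev W (ModuleCat.of A N)) n) := by
  have hinjDim : DRing.HasFiniteInjDim A (DerivedCategory.Q.obj W) := ⟨a, b, W, hzero,
    fun i => Module.injective_module_of_injective_object A (W.X i), ⟨Iso.refl _⟩⟩
  have hddfin : ∀ (M : ModuleCat.{u} A) [Module.Finite A M] (i : ℤ), Module.Finite A ((dd W M).homology i) := by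
    intro M _ i
    haveI : Module.Finite A (DerivedCategory.Q.obj (dCx W M) ⟶ (DerivedCategory.Q.obj W)⟦i⟧) :=
      Groth.Agent.S1746.result A _ _
        (fun j => haveI : Module.Finite A ((HomologicalComplex.homologyFunctor (ModuleCat.{u} A) (ComplexShape.up ℤ) j).obj (dCx W M)) := hW.finite M j
          Module.Finite.equiv ((DerivedCategory.homologyFunctorFactors (ModuleCat.{u} A) j).app (dCx W M)).toLinearEquiv.symm)
        (fun j => haveI : Module.Finite A ((HomologicalComplex.homologyFunctor (ModuleCat.{u} A) (ComplexShape.up ℤ) j).obj W) := hfin j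
          Module.Finite.equiv ((DerivedCategory.homologyFunctorFactors (ModuleCat.{u} A) j).app W).toLinearEquiv.symm)
        hinjDim i
    exact finite_homology_homCx (dCx W M) i
  refine devissage (fun N _ _ _ => ∀ n, IsIso (HomologicalComplex.homologyMap (ev W (ModuleCat.of A N)) n))
    (fun N _ _ _ _ n => ?_)
    (fun N₁ _ _ _ N₂ _ _ _ N₃ _ _ _ f g hf hg h h₁ h₃ n => isIso_ev_mid (shortExact_mk hf hg h) h₁ h₃ n)
    (fun p hp ih n => ?_) N
  · have h1 : IsZero (((sgl).obj (ModuleCat.of A N)).homology n) := by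
      by_cases hn : n = 0
      · subst hn
        exact (ModuleCat.isZero_of_subsingleton (ModuleCat.of A N)).of_iso
          (HomologicalComplex.singleObjHomologySelfIso (ComplexShape.up ℤ) 0 _)
      · exact homology_sgl_isZero _ n hn
    have h0 : IsZero (dCx W (ModuleCat.of A N)) :=
      (IsZero.iff_id_eq_zero _).2 (HomologicalComplex.hom_ext _ _ fun i =>
        (@ModuleCat.isZero_of_subsingleton _ _ _ (inferInstanceAs (Subsingleton (N →ₗ[A] W.X i)))).eq_of_src _ _)
    haveI : Subsingleton ((dd W (ModuleCat.of A N)).homology n) := subsingleton_homology_homCx W _ n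
      ⟨fun f g => (Functor.map_isZero DerivedCategory.Q h0).eq_of_src f g⟩
    exact ⟨0, h1.eq_of_src _ _, (ModuleCat.isZero_of_subsingleton ((dd W (ModuleCat.of A N)).homology n)).eq_of_src _ _⟩
  haveI := hp
  by_cases hm : p = IsLocalRing.maximalIdeal A
  · subst hm
    exact isIso_ev_residue _ d hW.residue hk n
  obtain ⟨x, hx, hxp⟩ := exists_mem_notMem p hm hp.ne_top
  exact isIso_ev_of_regular hx (mulx_injective p x hxp) (quotx_surjective p x) (mulx_quotx_exact p x)
    (ih _ (lt_sup_span p x hxp) (A ⧸ (p ⊔ Ideal.span {x})) Ideal.annihilator_quotient.ge)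
    (hddfin (ModuleCat.of A (A ⧸ p))) n

omit [IsLocalRing A] [IsNoetherianRing A] in
/-- Biduality of the ring gives the conditions on endomorphisms. -/
theorem end_of_isIso_ev_self [W.IsKInjective] {ω : Dual.D A} (e : DerivedCategory.Q.obj W ≅ ω)
    (h : ∀ n, IsIso (HomologicalComplex.homologyMap (ev W (ModuleCat.of A A)) n)) :
    Function.Bijective (fun a : A => a • 𝟙 ω) ∧ ∀ n : ℤ, n ≠ 0 → Subsingleton (ω ⟶ ω⟦n⟧) := by
  let F := ModuleCat.of A A
  let d := DerivedCategory.Q.mapIso (dSelfIso W)
  have hφ : ∀ a : A, evHom W F (show F from a) = a • (dSelfIso W).hom := fun a =>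
    HomologicalComplex.hom_ext _ _ fun i => ModuleCat.hom_ext (LinearMap.ext fun g => by
      show (show A →ₗ[A] W.X i from g) a = a • (show A →ₗ[A] W.X i from g) 1
      rw [← map_smul, smul_eq_mul, mul_one])
  refine ⟨⟨fun a b hab => ?_, fun α => ?_⟩, fun n hn => ?_⟩
  · rw [← sub_eq_zero]
    have h0 : (a - b) • 𝟙 ω = 0 := by rw [sub_smul, sub_eq_zero]; exact hab
    have hQ : DerivedCategory.Q.map (evHom W F (show F from (a - b))) = 0 := by
      rw [hφ, Functor.map_smul]
      refine (cancel_mono e.hom).1 ?_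
      rw [zero_comp, Linear.smul_comp, ← Category.comp_id (DerivedCategory.Q.map (dSelfIso W).hom ≫ e.hom),
        ← Linear.comp_smul, h0, comp_zero]
    obtain ⟨H⟩ := (TriH.Q_map_eq_zero_iff_of_isKInjective _).1 hQ
    obtain ⟨β, hβ⟩ := Cochain.equivHomotopy _ 0 H
    rw [Cochain.ofHom_zero, add_zero] at hβ
    have hc : hcls (dCx W F) W 0 (Cochain.ofHom (evHom W F (show F from (a - b)))) (δ_ofHom _) = 0 := by
      rw [← one_smul A (hcls _ W 0 _ _), hcls_smul_eq_zero_iff, one_smul]
      exact ⟨β, hβ.symm⟩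
    let s := (HomologicalComplex.singleObjXSelf (ComplexShape.up ℤ) 0 F).inv (show F from (a - b))
    have hs : (((sgl).obj F).sc 0).g s = 0 := by
      rw [HomologicalComplex.shortComplexFunctor_obj_g, HomologicalComplex.single_obj_d]
      rfl
    have hev : (ev W F).f 0 s = (Cochain.ofHom (evHom W F (show F from (a - b))) : Cochain (dCx W F) W 0) := by
      rw [ev, HomologicalComplex.mkHomFromSingle_f]
      exact congrArg (fun t : F => (Cochain.ofHom (evHom W F t) : Cochain (dCx W F) W 0))
        (Iso.inv_hom_id_apply (HomologicalComplex.singleObjXSelf (ComplexShape.up ℤ) 0 F) (show F from (a - b)))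
    have h1 : scCls (((sgl).obj F).sc 0) ⟨s, hs⟩ = 0 := ((ConcreteCategory.isIso_iff_bijective _).1 (h 0)).1
      (((scCls_map ((HomologicalComplex.shortComplexFunctor _ _ 0).map (ev W F)) ⟨s, hs⟩
        ⟨(Cochain.ofHom (evHom W F (show F from (a - b))) : Cochain (dCx W F) W 0), by
          show (LocCohLib.homCx (dCx W F) W).d 0 ((ComplexShape.up ℤ).next 0) _ = 0
          rw [CochainComplex.next]; exact δ_ofHom _⟩ hev).trans hc).trans
        (map_zero _).symm)
    obtain ⟨w, hw⟩ := (scCls_eq_zero _).1 h1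
    have hw' : (((sgl).obj F).sc 0).f w = s := hw
    have hw0 : s = 0 := by
      rw [← hw', HomologicalComplex.shortComplexFunctor_obj_f, HomologicalComplex.single_obj_d]
      rfl
    have := congrArg (HomologicalComplex.singleObjXSelf (ComplexShape.up ℤ) 0 F).hom hw0
    rw [Iso.inv_hom_id_apply, map_zero] at this
    exact this
  · obtain ⟨m, hm⟩ := (TriH.Qh_bijective_of_isKInjective W _).2
      ((DerivedCategory.quotientCompQhIso (ModuleCat.{u} A)).hom.app (dCx W F) ≫ d.hom ≫ e.hom ≫ α ≫ e.inv ≫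
        (DerivedCategory.quotientCompQhIso (ModuleCat.{u} A)).inv.app W)
    obtain ⟨f, rfl⟩ := (HomotopyCategory.quotient (ModuleCat.{u} A) (ComplexShape.up ℤ)).map_surjective m
    have hf : DerivedCategory.Q.map f = d.hom ≫ e.hom ≫ α ≫ e.inv := by
      refine (cancel_epi ((DerivedCategory.quotientCompQhIso (ModuleCat.{u} A)).hom.app (dCx W F))).1 ?_
      rw [← DerivedCategory.quotientCompQhIso_hom_naturality, hm]
      simp
    obtain ⟨t, ht⟩ := exists_hcls_evHom W F (h 0) (Cochain.ofHom f) (δ_ofHom f)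
    refine ⟨(show A from t), ?_⟩
    rw [← sub_eq_zero, ← sub_hcls _ _ (δ_ofHom f) (δ_ofHom _)] at ht
    obtain ⟨β, hβ⟩ := exists_δ_of_hcls_eq_zero ht
    have H : Homotopy (f - evHom W F t) 0 := (Cochain.equivHomotopy _ 0).symm ⟨β, by
      rw [Cochain.ofHom_zero, add_zero, Cochain.ofHom_sub]
      exact hβ.symm⟩
    have hQ := (TriH.Q_map_eq_zero_iff_of_isKInjective _).2 ⟨H⟩
    rw [Functor.map_sub, sub_eq_zero, hf, hφ (show A from t), Functor.map_smul] at hQ
    show (show A from t) • 𝟙 ω = α
    refine (cancel_epi (d.hom ≫ e.hom)).1 ((cancel_mono e.inv).1 ?_)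
    simp only [Category.assoc, Linear.smul_comp, Linear.comp_smul, Category.id_comp, Iso.hom_inv_id, Category.comp_id] at hQ ⊢
    exact hQ.symm
  · refine subsingleton_of_forall_eq 0 fun α => ?_
    let Φ := (DerivedCategory.Q.commShiftIso n).app W
    obtain ⟨m, hm⟩ := (RHomCx.good W ((CategoryTheory.shiftFunctor (DRing.Cx A) n).obj W)).lift (dCx W F)
      (d.hom ≫ e.hom ≫ α ≫ (CategoryTheory.shiftFunctor (Dual.D A) n).map e.inv ≫ Φ.inv)
    let c := Cocycle.equivHomShift m
    have hz : δ n (n + 1) (c : Cochain (dCx W F) W n) = 0 := c.δ_eq_zero (n + 1)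
    have hzero := hcls_eq_zero W F n hn (h n) _ hz
    rw [← one_smul A (hcls _ W n _ hz), hcls_smul_eq_zero_iff, one_smul] at hzero
    have hmem : c ∈ coboundaries (dCx W F) W n := (mem_coboundaries_iff _ (n - 1) (by omega)).2 hzero
    have h2 := (CohomologyClass.toHom_mk_eq_zero_iff c).2 hmem
    rw [CohomologyClass.toHom_mk, AddEquiv.symm_apply_apply, HomotopyCategory.quotient_map_eq_zero_iff] at h2
    have hQ : DerivedCategory.Q.map m = 0 := (TriH.Q_map_eq_zero_iff_of_isKInjective m).2 h2
    rw [hm] at hQ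
    rw [Preadditive.IsIso.comp_left_eq_zero, Preadditive.IsIso.comp_left_eq_zero] at hQ
    refine (cancel_mono ((CategoryTheory.shiftFunctor (Dual.D A) n).map e.inv ≫ Φ.inv)).1 ?_
    rw [zero_comp]
    exact hQ

omit [∀ i, Injective (W.X i)] in
/-- A complex with one dimensional residual dual is dualizing. -/
theorem isDualizing_of_residue (R : Dual.D A) (hfin : ∀ i : ℤ, Module.Finite A (Dual.HD A R i))
    (hbdd : ∃ a : ℤ, ∀ i : ℤ, i < a → Subsingleton (Dual.HD A R i)) (d : ℤ)
    (hvan : ∀ i : ℤ, i ≠ d → Subsingleton (Dual.inD A (A ⧸ IsLocalRing.maximalIdeal A) ⟶ R⟦i⟧))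
    (hd : Nonempty ((Dual.inD A (A ⧸ IsLocalRing.maximalIdeal A) ⟶ R⟦d⟧) ≃ₗ[A] (A ⧸ IsLocalRing.maximalIdeal A))) :
    Dual.IsDualizing A R := by
  obtain ⟨a, ha⟩ := hbdd
  obtain ⟨ψ⟩ := hd
  have hres : ∀ (W : DRing.Cx A) (_ : W.IsKInjective) (_ : ∀ i, Injective (W.X i)) (_ : ∀ i, i < a → IsZero (W.X i))
      (e : DerivedCategory.Q.obj W ≅ R), IsResidual W d ∧
      Nonempty ((dCx W (ModuleCat.of A (A ⧸ IsLocalRing.maximalIdeal A))).homology d ≃ₗ[A]
        (A ⧸ IsLocalRing.maximalIdeal A)) := by
    intro W hW hinj hzero e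
    haveI := hW
    haveI := hinj
    let g := homIso W e (ModuleCat.of A (A ⧸ IsLocalRing.maximalIdeal A))
    refine ⟨⟨hinj, fun N _ i => finite_dual a hzero (finite_homology_model e hfin) N i,
      fun i hi => (g i).toEquiv.subsingleton_congr.1 (hvan i hi), ?_⟩, ⟨(g d).symm ≪≫ₗ ψ⟩⟩
    exact ((g d).symm ≪≫ₗ ψ).toEquiv.nontrivial
  haveI : R.IsGE a := (DerivedCategory.isGE_iff R a).2 fun i hi => @ModuleCat.isZero_of_subsingleton _ _ _ (ha i hi)
  obtain ⟨L₀, _, ⟨e₀⟩⟩ := DerivedCategory.exists_iso_Q_obj_of_isGE R a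
  obtain ⟨E₀, i₀, hq, hE₀inj, hE₀ge⟩ := CochainComplex.Plus.modelCategoryQuillen.exists_quasiIso_injective L₀ a
  haveI := hE₀inj
  haveI := hE₀ge
  haveI : E₀.IsKInjective := CochainComplex.isKInjective_of_injective E₀ a
  let eE : DerivedCategory.Q.obj E₀ ≅ R := (asIso (DerivedCategory.Q.map i₀)).symm ≪≫ e₀.symm
  have hzero₀ : ∀ i, i < a → IsZero (E₀.X i) := fun i hi => E₀.isZero_of_isStrictlyGE a i hi
  obtain ⟨hres₀, -⟩ := hres E₀ inferInstance inferInstance hzero₀ eE
  obtain ⟨E, hvanE, hinjE', ⟨e⟩⟩ := DRingPC.injAmp_of_extD (A := A) a d fun I i hi => by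
    rcases hi with hi | hi
    · haveI : Subsingleton ((dCx E₀ (ModuleCat.of A (A ⧸ I))).homology i) := ModuleCat.subsingleton_of_isZero
        (ShortComplex.isZero_homology_of_isZero_X₂ _ (@ModuleCat.isZero_of_subsingleton _ _ _
          (haveI := ModuleCat.subsingleton_of_isZero (hzero₀ i hi)
          inferInstanceAs (Subsingleton ((A ⧸ I) →ₗ[A] E₀.X i)))))
      exact (homIso E₀ eE (ModuleCat.of A (A ⧸ I)) i).toEquiv.subsingleton
    · haveI := hres₀.upper (A ⧸ I) i hi
      exact (homIso E₀ eE (ModuleCat.of A (A ⧸ I)) i).toEquiv.subsingleton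
  haveI : ∀ i, Injective (E.X i) := fun i =>
    haveI := hinjE' i
    (Module.injective_iff_injective_object A (E.X i)).1 (hinjE' i)
  haveI : E.IsStrictlyGE a := (CochainComplex.isStrictlyGE_iff _ _).2 fun i hi => hvanE i (Or.inl hi)
  haveI := CochainComplex.isKInjective_of_injective E a
  obtain ⟨hresE, hkE⟩ := hres E inferInstance inferInstance (fun i hi => hvanE i (Or.inl hi)) e
  obtain ⟨hbij, hext⟩ := end_of_isIso_ev_self e
    (isIso_ev_of_residual hresE a d hvanE (finite_homology_model e hfin) hkE A)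
  exact
    { isNoetherianRing := inferInstance
      finite_injective_dimension := ⟨a, d, fun M _ _ i hi => by
        haveI : Subsingleton ((dCx E (ModuleCat.of A M)).homology i) := ModuleCat.subsingleton_of_isZero
          (ShortComplex.isZero_homology_of_isZero_X₂ _ (@ModuleCat.isZero_of_subsingleton _ _ _
            (haveI := ModuleCat.subsingleton_of_isZero (hvanE i hi)
            inferInstanceAs (Subsingleton (M →ₗ[A] E.X i)))))
        exact (homIso E e (ModuleCat.of A M) i).toEquiv.subsingleton⟩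
      finite_cohomology := hfin
      toEnd_bijective := hbij
      ext_self_subsingleton := hext }

end Groth.Agent.DualCx
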