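import Groth.Agent.DualCx.Biduality
import Groth.Agent.DualCx.CriterionLocal
import Mathlib.Algebra.Homology.HomotopyCategory.MappingCone
import Mathlib.Algebra.Homology.Embedding.CochainComplex

/-!
# Biduality for complexes
-/

set_option autoImplicit false
set_option linter.style.haveILetI false

open CategoryTheory CategoryTheory.Limits CochainComplex CochainComplex.HomComplex

universe u

attribute [local instance] HasDerivedCategory.standard

namespace Groth.Agent.DualCx

open Groth.Agent.LocCohLib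

variable {A : Type u} [CommRing A] (W : DRing.Cx A)

local notation "sgl" => HomologicalComplex.single (ModuleCat A) (ComplexShape.up ℤ) 0

/-- The double dual of a complex. -/
noncomputable abbrev ddC (K : DRing.Cx A) : DRing.Cx A := LocCohLib.homCx (LocCohLib.homCx K W) W

/-- Its functoriality. -/
noncomputable abbrev ddCMap {K L : DRing.Cx A} (f : K ⟶ L) : ddC W K ⟶ ddC W L := homCxPre (homCxPre f W) W

/-- The component of the biduality map. -/
noncomputable def evCComp (K : DRing.Cx A) (n : ℤ) (x : K.X n) : Cochain (LocCohLib.homCx K W) W n :=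
  Cochain.mk fun m q h => ModuleCat.ofHom (X := Cochain K W m) (Y := W.X q)
    { toFun := fun z => (((m * n).negOnePow : ℤˣ) : ℤ) • (z.v n q (by omega)).hom x
      map_add' := fun z z' => by
        rw [Cochain.add_v, ModuleCat.hom_add, LinearMap.add_apply, smul_add]
      map_smul' := fun a z => by
        rw [Cochain.smul_v, ModuleCat.hom_smul, LinearMap.smul_apply, RingHom.id_apply, smul_comm] }

theorem evCComp_v (K : DRing.Cx A) (n : ℤ) (x : K.X n) (m q : ℤ) (h : m + n = q) (z : Cochain K W m) :
    ((evCComp W K n x).v m q h).hom z = (((m * n).negOnePow : ℤˣ) : ℤ) • (z.v n q (by omega)).hom x := rfl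

theorem δ_evCComp (K : DRing.Cx A) (n : ℤ) (x : K.X n) :
    δ n (n + 1) (evCComp W K n x) = evCComp W K (n + 1) ((K.d n (n + 1)).hom x) := by
  refine Cochain.ext _ _ fun m q h => ModuleCat.hom_ext (LinearMap.ext fun (z : Cochain K W m) => ?_)
  rw [δ_v n (n + 1) rfl _ m q h (q - 1) (m + 1) rfl rfl, evCComp_v]
  rw [ModuleCat.hom_add, LinearMap.add_apply, Units.smul_def, ModuleCat.hom_zsmul, LinearMap.smul_apply,
    ModuleCat.hom_comp, ModuleCat.hom_comp, LinearMap.comp_apply, LinearMap.comp_apply, evCComp_v,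
    map_zsmul]
  show _ • (W.d (q - 1) q).hom ((z.v n (q - 1) _).hom x) +
    (((n + 1).negOnePow : ℤˣ) : ℤ) • (evCComp W K n x).v (m + 1) q _ (δ m (m + 1) z) = _
  rw [evCComp_v, δ_v m (m + 1) rfl z n q (by omega) (q - 1) (n + 1) rfl rfl, ModuleCat.hom_add,
    LinearMap.add_apply, Units.smul_def, ModuleCat.hom_zsmul, LinearMap.smul_apply, ModuleCat.hom_comp,
    ModuleCat.hom_comp, LinearMap.comp_apply, LinearMap.comp_apply]
  simp only [Int.negOnePow_add, add_mul, mul_add, one_mul, mul_one, Units.val_mul, Int.negOnePow_one, Units.val_neg,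
    Units.val_one, smul_add, smul_smul]
  rcases Int.units_eq_one_or n.negOnePow with hn | hn <;> rcases Int.units_eq_one_or m.negOnePow with hm | hm <;>
    rcases Int.units_eq_one_or (m * n).negOnePow with hmn | hmn <;>
    simp [hn, hm, hmn]

/-- The biduality map of a complex. -/
noncomputable def evC (K : DRing.Cx A) : K ⟶ ddC W K where
  f n := ModuleCat.ofHom (Y := Cochain (LocCohLib.homCx K W) W n)
    { toFun := evCComp W K n
      map_add' := fun x y => Cochain.ext _ _ fun m q h => ModuleCat.hom_ext (LinearMap.ext fun (z : Cochain K W m) => by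
        rw [Cochain.add_v, ModuleCat.hom_add, LinearMap.add_apply, evCComp_v, evCComp_v, evCComp_v, map_add, smul_add])
      map_smul' := fun a x => Cochain.ext _ _ fun m q h => ModuleCat.hom_ext (LinearMap.ext fun (z : Cochain K W m) => by
        rw [RingHom.id_apply, Cochain.smul_v, ModuleCat.hom_smul, LinearMap.smul_apply, evCComp_v, evCComp_v, map_smul,
          smul_comm]) }
  comm' n n' hn := by
    obtain rfl : n + 1 = n' := hn
    exact ModuleCat.hom_ext (LinearMap.ext fun x => δ_evCComp W K n x)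

theorem evC_natural {K L : DRing.Cx A} (f : K ⟶ L) : f ≫ evC W L = evC W K ≫ ddCMap W f := by
  refine HomologicalComplex.hom_ext _ _ fun n => ModuleCat.hom_ext (LinearMap.ext fun x => ?_)
  refine Cochain.ext _ _ fun m q h => ?_
  refine Eq.trans ?_ (homCxPre_apply (homCxPre f W) W n _ m q h).symm
  refine ModuleCat.hom_ext (LinearMap.ext fun (z : Cochain L W m) => ?_)
  show (((m * n).negOnePow : ℤˣ) : ℤ) • (z.v n q _).hom ((f.f n).hom x) =
    (((m * n).negOnePow : ℤˣ) : ℤ) • ((((homCxPre f W).f m z : Cochain K W m)).v n q _).hom x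
  rw [homCxPre_apply]
  rfl

section Exact

variable {C : Type*} [Category C] [Abelian C] {S : ShortComplex (CochainComplex C ℤ)}

theorem isIso_homologyMap_g (hS : S.ShortExact) (h : ∀ i, IsZero (S.X₁.homology i)) (i : ℤ) :
    IsIso (HomologicalComplex.homologyMap S.g i) := by
  haveI : Mono (HomologicalComplex.homologyMap S.g i) := (hS.homology_exact₂ i).mono_g ((h i).eq_of_src _ _)
  haveI : Epi (HomologicalComplex.homologyMap S.g i) :=
    (hS.homology_exact₃ i (i + 1) rfl).epi_f ((h (i + 1)).eq_of_tgt _ _)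
  exact isIso_of_mono_of_epi _

theorem isZero_homology_X₃ (hS : S.ShortExact) (h : ∀ i, IsIso (HomologicalComplex.homologyMap S.f i)) (i : ℤ) :
    IsZero (S.X₃.homology i) := by
  haveI := h i
  haveI := h (i + 1)
  have h1 : HomologicalComplex.homologyMap S.g i = 0 := by
    rw [← cancel_epi (HomologicalComplex.homologyMap S.f i), comp_zero, ← HomologicalComplex.homologyMap_comp,
      S.zero, HomologicalComplex.homologyMap_zero]
  have h2 : hS.δ i (i + 1) rfl = 0 := by
    rw [← cancel_mono (HomologicalComplex.homologyMap S.f (i + 1)), zero_comp, hS.δ_comp]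
  exact (hS.homology_exact₃ i (i + 1) rfl).isZero_of_both_zeros h1 h2

theorem isIso_δ (hS : S.ShortExact) (h : ∀ i, IsZero (S.X₂.homology i)) (i : ℤ) : IsIso (hS.δ i (i + 1) rfl) := by
  haveI : Mono (hS.δ i (i + 1) rfl) := (hS.homology_exact₃ i (i + 1) rfl).mono_g ((h i).eq_of_src _ _)
  haveI : Epi (hS.δ i (i + 1) rfl) := (hS.homology_exact₁ i (i + 1) rfl).epi_f ((h (i + 1)).eq_of_tgt _ _)
  exact isIso_of_mono_of_epi _

end Exact

section Pre

variable [W.IsKInjective] [∀ i, Injective (W.X i)]

theorem isZero_homology_homCx {X : DRing.Cx A} (h : ∀ i, IsZero (X.homology i)) (i : ℤ) :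
    IsZero ((LocCohLib.homCx X W).homology i) :=
  @ModuleCat.isZero_of_subsingleton _ _ _ (LocCohLib.subsingleton_homology_of_isKInjective
    (fun j => (HomologicalComplex.exactAt_iff_isZero_homology _ _).2 (h j)) i)

omit [W.IsKInjective] [∀ i, Injective (W.X i)] in
theorem homCxPre_comp {X Y Z : DRing.Cx A} (f : X ⟶ Y) (g : Y ⟶ Z) :
    homCxPre (f ≫ g) W = homCxPre g W ≫ homCxPre f W := by
  refine HomologicalComplex.hom_ext _ _ fun n => ModuleCat.hom_ext (LinearMap.ext fun (z : Cochain Z W n) => ?_)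
  refine Cochain.ext _ _ fun p q h => ?_
  refine (homCxPre_apply (f ≫ g) W n z p q h).trans ?_
  refine Eq.trans ?_ (homCxPre_apply f W n _ p q h).symm
  refine Eq.trans ?_ (congrArg (f.f p ≫ ·) (homCxPre_apply g W n z p q h)).symm
  exact Category.assoc _ _ _

omit [W.IsKInjective] [∀ i, Injective (W.X i)] in
theorem homCxPre_id (X : DRing.Cx A) : homCxPre (𝟙 X) W = 𝟙 _ := by
  refine HomologicalComplex.hom_ext _ _ fun n => ModuleCat.hom_ext (LinearMap.ext fun (z : Cochain X W n) => ?_)
  refine Cochain.ext _ _ fun p q h => ?_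
  exact (homCxPre_apply (𝟙 X) W n z p q h).trans (Category.id_comp _)

theorem quasiIso_pre_of_mono {X Y : DRing.Cx A} (f : X ⟶ Y) [Mono f] [QuasiIso f] : QuasiIso (homCxPre f W) := by
  let S := ShortComplex.mk f (cokernel.π f) (cokernel.condition f)
  have hS : S.ShortExact :=
    { exact := S.exact_of_g_is_cokernel (cokernelIsCokernel f) }
  have h3 := isZero_homology_X₃ hS (fun i => inferInstanceAs (IsIso (HomologicalComplex.homologyMap f i)))
  refine ⟨fun i => (quasiIsoAt_iff_isIso_homologyMap _ _).2 ?_⟩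
  exact isIso_homologyMap_g (homShortPre_shortExact hS W) (isZero_homology_homCx W h3) i

theorem quasiIso_pre {X Y : DRing.Cx A} (f : X ⟶ Y) [QuasiIso f] : QuasiIso (homCxPre f W) := by
  let C := CochainComplex.mappingCone (𝟙 X)
  have hC : ∀ i, IsZero (C.homology i) := fun i => by
    rw [IsZero.iff_id_eq_zero, ← HomologicalComplex.homologyMap_id,
      (CochainComplex.mappingCone.homotopyToZeroOfId X).homologyMap_eq, HomologicalComplex.homologyMap_zero]
  have hsplit := (ShortComplex.Splitting.ofHasBinaryBiproduct Y C).shortExact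
  haveI hinl : QuasiIso (biprod.inl : Y ⟶ Y ⊞ C) := ⟨fun i => (quasiIsoAt_iff_isIso_homologyMap _ _).2 (by
    haveI : Mono (HomologicalComplex.homologyMap (biprod.inl : Y ⟶ Y ⊞ C) i) := by
      haveI : Mono (HomologicalComplex.homologyMap (biprod.inl : Y ⟶ Y ⊞ C) i ≫
          HomologicalComplex.homologyMap (biprod.fst : Y ⊞ C ⟶ Y) i) := by
        rw [← HomologicalComplex.homologyMap_comp, biprod.inl_fst, HomologicalComplex.homologyMap_id]
        infer_instance
      exact mono_of_mono _ (HomologicalComplex.homologyMap (biprod.fst : Y ⊞ C ⟶ Y) i)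
    haveI : Epi (HomologicalComplex.homologyMap (biprod.inl : Y ⟶ Y ⊞ C) i) :=
      (hsplit.homology_exact₂ i).epi_f ((hC i).eq_of_tgt _ _)
    exact isIso_of_mono_of_epi _)⟩
  haveI h0 : QuasiIso (biprod.fst : Y ⊞ C ⟶ Y) := by
    haveI : QuasiIso ((biprod.inl : Y ⟶ Y ⊞ C) ≫ biprod.fst) := by rw [biprod.inl_fst]; infer_instance
    exact quasiIso_of_comp_left biprod.inl biprod.fst
  let g : X ⟶ Y ⊞ C := biprod.lift f (CochainComplex.mappingCone.inr (𝟙 X))
  have hg : g ≫ biprod.fst = f := biprod.lift_fst _ _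
  haveI : Mono (CochainComplex.mappingCone.inr (𝟙 X)) := by
    haveI : ∀ i, Mono ((CochainComplex.mappingCone.inr (𝟙 X)).f i) := fun i =>
      (show SplitMono _ from ⟨(CochainComplex.mappingCone.snd (𝟙 X)).v i i (add_zero i), by simp⟩).mono
    exact HomologicalComplex.mono_of_mono_f _ inferInstance
  haveI : Mono g := mono_of_mono_fac (show g ≫ biprod.snd = CochainComplex.mappingCone.inr (𝟙 X) from biprod.lift_snd _ _)
  haveI : QuasiIso g := by
    haveI : QuasiIso (g ≫ biprod.fst) := by rw [hg]; infer_instance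
    exact quasiIso_of_comp_right g biprod.fst
  have h1 : QuasiIso (homCxPre (biprod.fst : Y ⊞ C ⟶ Y) W) := by
    haveI := quasiIso_pre_of_mono W (biprod.inl : Y ⟶ Y ⊞ C)
    haveI : QuasiIso (homCxPre (biprod.fst : Y ⊞ C ⟶ Y) W ≫ homCxPre (biprod.inl : Y ⟶ Y ⊞ C) W) := by
      rw [← homCxPre_comp, biprod.inl_fst, homCxPre_id]; infer_instance
    exact quasiIso_of_comp_right _ (homCxPre (biprod.inl : Y ⟶ Y ⊞ C) W)
  haveI := quasiIso_pre_of_mono W g
  rw [← hg, homCxPre_comp]
  infer_instance

end Pre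

end Groth.Agent.DualCx
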