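import Groth.Agent.DualCx.Residue
import Groth.Agent.DualCx.LocalDepth

/-!
# Models of dualizing complexes
-/

set_option autoImplicit false
set_option linter.style.haveILetI false

open CategoryTheory CategoryTheory.Limits

universe u

attribute [local instance] HasDerivedCategory.standard

namespace Groth.Agent.DualCx

variable {A : Type u} [CommRing A]

theorem finite_homology_model {W : DRing.Cx A} {ω : Dual.D A} (e : DerivedCategory.Q.obj W ≅ ω)
    (h : ∀ i, Module.Finite A (Dual.HD A ω i)) (i : ℤ) : Module.Finite A (W.homology i) :=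
  haveI := h i
  Module.Finite.equiv (((DerivedCategory.homologyFunctor (ModuleCat.{u} A) i).mapIso e.symm ≪≫
    (DerivedCategory.homologyFunctorFactors (ModuleCat.{u} A) i).app W).toLinearEquiv)

theorem finite_dual [IsNoetherianRing A] {W : DRing.Cx A} [∀ i, Injective (W.X i)] (a : ℤ)
    (hzero : ∀ i, i < a → IsZero (W.X i)) (hW : ∀ i, Module.Finite A (W.homology i))
    (N : ModuleCat.{u} A) [Module.Finite A N] (i : ℤ) : Module.Finite A ((dCx W N).homology i) :=
  finite_homology_dCx W a hzero hW ((i - a).toNat + 1) i (by omega) N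

/-- A normalized dualizing complex has a residual model. -/
theorem exists_residual [IsLocalRing A] [IsNoetherianRing A] {ω : Dual.D A} (hω : Dual.IsDualizing A ω)
    (hn : Dual.IsNormalized A ω) :
    ∃ (W : DRing.Cx A) (a b : ℤ), W.IsKInjective ∧ IsResidual W 0 ∧ (∀ i, (i < a ∨ b < i) → IsZero (W.X i)) ∧
      Nonempty (DerivedCategory.Q.obj W ≅ ω) := by
  obtain ⟨W, a, b, hW, hinj, hzero, ⟨e⟩⟩ := exists_model hω.finite_injective_dimension
  haveI := hW
  haveI := hinj
  refine ⟨W, a, b, hW, ⟨hinj, fun N _ i => finite_dual a (fun j hj => hzero j (Or.inl hj))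
    (finite_homology_model e hω.finite_cohomology) N i, ?_, ?_⟩, hzero, ⟨e⟩⟩
  · intro i hi
    exact (homIso W e (ModuleCat.of A (A ⧸ IsLocalRing.maximalIdeal A)) i).toEquiv.subsingleton_congr.1 (hn i hi)
  · obtain ⟨n, -, ⟨g⟩⟩ := exists_degree W (IsLocalRing.maximalIdeal A) a b hzero e hω
    have hk : Nontrivial ((dCx W (ModuleCat.of A (A ⧸ IsLocalRing.maximalIdeal A))).homology n) :=
      g.toEquiv.nontrivial
    obtain rfl : n = 0 := by
      by_contra hne
      haveI : Subsingleton ((dCx W (ModuleCat.of A (A ⧸ IsLocalRing.maximalIdeal A))).homology n) :=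
        (homIso W e (ModuleCat.of A (A ⧸ IsLocalRing.maximalIdeal A)) n).toEquiv.subsingleton_congr.1 (hn n hne)
      exact not_nontrivial _ hk
    exact hk

end Groth.Agent.DualCx
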