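import Groth.Agent.DualCx.BidualCx
import Groth.Agent.DualCx.Setup

/-!
# Biduality for complexes with finite cohomology
-/

set_option autoImplicit false
set_option linter.style.haveILetI false

open CategoryTheory CategoryTheory.Limits CochainComplex CochainComplex.HomComplex

universe u

attribute [local instance] HasDerivedCategory.standard

namespace Groth.Agent.DualCx

open Groth.Agent.LocCohLib

variable {A : Type u} [CommRing A] (W : DRing.Cx A)

local notation "sgl" => HomologicalComplex.single (ModuleCat A) (ComplexShape.up ℤ) 0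

section Local

variable {C : Type*} [Category C] [Abelian C] {S : ShortComplex (CochainComplex C ℤ)}

theorem isIso_g_local (hS : S.ShortExact) (i : ℤ) (h : IsZero (S.X₁.homology i))
    (h' : IsZero (S.X₁.homology (i + 1))) : IsIso (HomologicalComplex.homologyMap S.g i) := by
  haveI : Mono (HomologicalComplex.homologyMap S.g i) := (hS.homology_exact₂ i).mono_g (h.eq_of_src _ _)
  haveI : Epi (HomologicalComplex.homologyMap S.g i) :=
    (hS.homology_exact₃ i (i + 1) rfl).epi_f (h'.eq_of_tgt _ _)
  exact isIso_of_mono_of_epi _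

theorem isIso_f_local (hS : S.ShortExact) (i : ℤ) (h : IsZero (S.X₃.homology (i - 1)))
    (h' : IsZero (S.X₃.homology i)) : IsIso (HomologicalComplex.homologyMap S.f i) := by
  haveI : Mono (HomologicalComplex.homologyMap S.f i) :=
    (hS.homology_exact₁ (i - 1) i (by simp)).mono_g (h.eq_of_src _ _)
  haveI : Epi (HomologicalComplex.homologyMap S.f i) := (hS.homology_exact₂ i).epi_f (h'.eq_of_tgt _ _)
  exact isIso_of_mono_of_epi _

end Local

theorem finite_of_exact [IsNoetherianRing A] {S : ShortComplex (ModuleCat.{u} A)} (hS : S.Exact)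
    [Module.Finite A S.X₁] [Module.Finite A S.X₃] : Module.Finite A S.X₂ := by
  haveI : IsNoetherian A S.X₂ := isNoetherian_of_range_eq_ker S.f.hom S.g.hom hS.moduleCat_range_eq_ker
  infer_instance

/-- Both properties in degree `n`. -/
def Good2 (n : ℤ) (K : DRing.Cx A) : Prop :=
  IsIso (HomologicalComplex.homologyMap (evC W K) n) ∧ Module.Finite A ((LocCohLib.homCx K W).homology n)

theorem good2_congr {n : ℤ} {K L : DRing.Cx A} (f : K ⟶ L) (h1 : IsIso (HomologicalComplex.homologyMap f n))
    (h2 : IsIso (HomologicalComplex.homologyMap (ddCMap W f) n))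
    (h3 : IsIso (HomologicalComplex.homologyMap (homCxPre f W) n)) : Good2 W n K ↔ Good2 W n L := by
  have h := congrArg (fun φ => HomologicalComplex.homologyMap φ n) (evC_natural W f)
  simp only [HomologicalComplex.homologyMap_comp] at h
  let e := (asIso (HomologicalComplex.homologyMap (homCxPre f W) n)).toLinearEquiv
  refine and_congr ⟨fun hk => ?_, fun hl => ?_⟩ ⟨fun hk => Module.Finite.equiv e.symm, fun hl => Module.Finite.equiv e⟩
  · haveI := hk
    haveI : IsIso (HomologicalComplex.homologyMap f n ≫ HomologicalComplex.homologyMap (evC W L) n) := by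
      rw [h]; infer_instance
    exact IsIso.of_isIso_comp_left (HomologicalComplex.homologyMap f n) _
  · haveI := hl
    haveI : IsIso (HomologicalComplex.homologyMap (evC W K) n ≫ HomologicalComplex.homologyMap (ddCMap W f) n) := by
      rw [← h]; infer_instance
    exact IsIso.of_isIso_comp_right _ (HomologicalComplex.homologyMap (ddCMap W f) n)

variable [W.IsKInjective] [∀ i, Injective (W.X i)]

theorem good2_congr_qis (n : ℤ) {K L : DRing.Cx A} (f : K ⟶ L) [QuasiIso f] : Good2 W n K ↔ Good2 W n L := by
  haveI := quasiIso_pre W f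
  haveI := quasiIso_pre W (homCxPre f W)
  exact good2_congr W f inferInstance inferInstance inferInstance

/-- A complex which does not matter near degree `n`. -/
def Negl (n : ℤ) (K : DRing.Cx A) : Prop :=
  ∀ i, n - 1 ≤ i → i ≤ n + 1 → IsZero (K.homology i) ∧ IsZero ((LocCohLib.homCx K W).homology i) ∧
    IsZero ((ddC W K).homology i)

theorem negl_congr (n : ℤ) {K L : DRing.Cx A} (f : K ⟶ L) [QuasiIso f] (h : Negl W n L) : Negl W n K :=
  fun i h1 h2 => by
    haveI := quasiIso_pre W f
    haveI := quasiIso_pre W (homCxPre f W)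
    obtain ⟨a, b, c⟩ := h i h1 h2
    exact ⟨a.of_iso (asIso (HomologicalComplex.homologyMap f i)),
      b.of_iso (asIso (HomologicalComplex.homologyMap (homCxPre f W) i)).symm,
      c.of_iso (asIso (HomologicalComplex.homologyMap (ddCMap W f) i))⟩

theorem good2_of_negl_left (n : ℤ) {S : ShortComplex (DRing.Cx A)} (hS : S.ShortExact) (h : Negl W n S.X₁) :
    Good2 W n S.X₂ ↔ Good2 W n S.X₃ := by
  have hS' := homShortPre_shortExact hS W
  refine good2_congr W S.g (isIso_g_local hS n (h n (by omega) (by omega)).1 (h (n + 1) (by omega) le_rfl).1) ?_ ?_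
  · exact isIso_g_local (homShortPre_shortExact hS' W) n (h n (by omega) (by omega)).2.2
      (h (n + 1) (by omega) le_rfl).2.2
  · exact isIso_f_local hS' n (h (n - 1) le_rfl (by omega)).2.1 (h n (by omega) (by omega)).2.1

theorem good2_of_negl_right (n : ℤ) {S : ShortComplex (DRing.Cx A)} (hS : S.ShortExact) (h : Negl W n S.X₃) :
    Good2 W n S.X₁ ↔ Good2 W n S.X₂ := by
  have hS' := homShortPre_shortExact hS W
  refine good2_congr W S.f (isIso_f_local hS n (h (n - 1) le_rfl (by omega)).1 (h n (by omega) (by omega)).1) ?_ ?_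
  · exact isIso_f_local (homShortPre_shortExact hS' W) n (h (n - 1) le_rfl (by omega)).2.2
      (h n (by omega) (by omega)).2.2
  · exact isIso_g_local hS' n (h n (by omega) (by omega)).2.1 (h (n + 1) (by omega) le_rfl).2.1

omit [W.IsKInjective] [∀ i, Injective (W.X i)] in
theorem negl_of_window (a b n : ℤ) (hzero : ∀ i, (i < a ∨ b < i) → IsZero (W.X i)) (M : DRing.Cx A) (R : ℤ)
    (hR : |a| + |b| + |a| + |b| + |n| + 2 ≤ R) (hM : ∀ p, -R ≤ p → p ≤ R → IsZero (M.X p)) : Negl W n M := by
  have ha := abs_le.1 (le_refl |a|)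
  have hb := abs_le.1 (le_refl |b|)
  have hn := abs_le.1 (le_refl |n|)
  intro i h1 h2
  have hsub : ∀ m, (∀ p, a ≤ p + m → p + m ≤ b → IsZero (M.X p)) → IsZero ((LocCohLib.homCx M W).X m) := fun m hm =>
    @ModuleCat.isZero_of_subsingleton _ _ _ (subsingleton_of_forall_eq (0 : Cochain M W m) fun z =>
      Cochain.ext _ _ fun p q h => by
        by_cases hq : q < a ∨ b < q
        · exact (hzero q hq).eq_of_tgt _ _
        · exact (hm p (by omega) (by omega)).eq_of_src _ _)
  refine ⟨ShortComplex.isZero_homology_of_isZero_X₂ _ (hM i (by omega) (by omega)),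
    ShortComplex.isZero_homology_of_isZero_X₂ _ (hsub i fun p hp hp' => hM p (by omega) (by omega)),
    ShortComplex.isZero_homology_of_isZero_X₂ _ ?_⟩
  refine @ModuleCat.isZero_of_subsingleton _ _ _ (subsingleton_of_forall_eq (0 : Cochain (LocCohLib.homCx M W) W i)
    fun z => Cochain.ext _ _ fun m q h => ?_)
  by_cases hq : q < a ∨ b < q
  · exact (hzero q hq).eq_of_tgt _ _
  · exact (hsub m fun p hp hp' => hM p (by omega) (by omega)).eq_of_src _ _

/-- All degrees. -/
def Good (K : DRing.Cx A) : Prop := ∀ n, Good2 W n K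

theorem good_congr {K L : DRing.Cx A} (f : K ⟶ L) [QuasiIso f] : Good W K ↔ Good W L :=
  forall_congr' fun n => good2_congr_qis W n f

theorem good_of_acyclic {K : DRing.Cx A} (h : ∀ i, IsZero (K.homology i)) : Good W K := fun n => by
  have h' := isZero_homology_homCx W h
  refine ⟨⟨⟨0, (h n).eq_of_src _ _, (isZero_homology_homCx W h' n).eq_of_src _ _⟩⟩, ?_⟩
  haveI := ModuleCat.subsingleton_of_isZero (h' n)
  exact Module.Finite.of_finite

/-- The comparison of a sequence with its double dual. -/
noncomputable def evCShort (S : ShortComplex (DRing.Cx A)) : S ⟶ homShortPre (homShortPre S W) W where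
  τ₁ := evC W S.X₁
  τ₂ := evC W S.X₂
  τ₃ := evC W S.X₃
  comm₁₂ := (evC_natural W S.f).symm
  comm₂₃ := (evC_natural W S.g).symm

theorem good_mid [IsNoetherianRing A] {S : ShortComplex (DRing.Cx A)} (hS : S.ShortExact) (h₁ : Good W S.X₁)
    (h₃ : Good W S.X₃) : Good W S.X₂ := fun n => by
  refine ⟨isIso_homologyMap_mid (evCShort W S) hS (homShortPre_shortExact (homShortPre_shortExact hS W) W)
    (fun i => (h₁ i).1) (fun i => (h₃ i).1) n, ?_⟩
  haveI := (h₁ n).2
  haveI := (h₃ n).2
  exact finite_of_exact ((homShortPre_shortExact hS W).homology_exact₂ n)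

theorem good_ends {S : ShortComplex (DRing.Cx A)} (hS : S.ShortExact) (h₂ : ∀ i, IsZero (S.X₂.homology i)) :
    Good W S.X₁ ↔ Good W S.X₃ := by
  have hS' := homShortPre_shortExact hS W
  have hS'' := homShortPre_shortExact hS' W
  have h₂' := isZero_homology_homCx W h₂
  have h₂'' := isZero_homology_homCx W h₂'
  have hiso : ∀ i, IsIso (HomologicalComplex.homologyMap (evC W S.X₃) i) ↔
      IsIso (HomologicalComplex.homologyMap (evC W S.X₁) (i + 1)) := fun i => by
    haveI := isIso_δ hS h₂ i
    haveI := isIso_δ hS'' h₂'' i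
    have hn := HomologicalComplex.HomologySequence.δ_naturality (evCShort W S) hS hS'' i (i + 1) rfl
    constructor
    · intro h
      haveI : IsIso (HomologicalComplex.homologyMap (evCShort W S).τ₃ i) := h
      have h2 : IsIso (hS.δ i (i + 1) rfl ≫ HomologicalComplex.homologyMap (evCShort W S).τ₁ (i + 1)) := by
        rw [hn]; infer_instance
      exact @IsIso.of_isIso_comp_left _ _ _ _ _ (hS.δ i (i + 1) rfl)
        (HomologicalComplex.homologyMap (evCShort W S).τ₁ (i + 1)) _ h2
    · intro h
      haveI : IsIso (HomologicalComplex.homologyMap (evCShort W S).τ₁ (i + 1)) := h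
      have h2 : IsIso (HomologicalComplex.homologyMap (evCShort W S).τ₃ i ≫ hS''.δ i (i + 1) rfl) := by
        rw [← hn]; infer_instance
      exact @IsIso.of_isIso_comp_right _ _ _ _ _ (HomologicalComplex.homologyMap (evCShort W S).τ₃ i)
        (hS''.δ i (i + 1) rfl) _ h2
  have hfin : ∀ i, Module.Finite A ((LocCohLib.homCx S.X₁ W).homology i) ↔
      Module.Finite A ((LocCohLib.homCx S.X₃ W).homology (i + 1)) := fun i => by
    haveI := isIso_δ hS' h₂' i
    let e := (asIso (hS'.δ i (i + 1) rfl)).toLinearEquiv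
    exact ⟨fun _ => Module.Finite.equiv e, fun _ => Module.Finite.equiv e.symm⟩
  refine ⟨fun h n => ⟨(hiso n).2 (h (n + 1)).1, ?_⟩, fun h n => ⟨?_, (hfin n).2 (h (n + 1)).2⟩⟩
  · obtain ⟨m, rfl⟩ : ∃ m, m + 1 = n := ⟨n - 1, by omega⟩
    exact (hfin m).1 (h m).2
  · obtain ⟨m, rfl⟩ : ∃ m, m + 1 = n := ⟨n - 1, by omega⟩
    exact (hiso m).1 (h m).1

omit [W.IsKInjective] [∀ i, Injective (W.X i)] in
/-- The dual of a module, as a Hom complex. -/
noncomputable def theta (N : ModuleCat.{u} A) : dCx W N ≅ LocCohLib.homCx ((sgl).obj N) W :=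
  HomologicalComplex.Hom.isoOfComponents
    (fun m => LinearEquiv.toModuleIso (X₁ := N →ₗ[A] W.X m) (X₂ := Cochain ((sgl).obj N) W m)
      { toFun := fun φ => Cochain.fromSingleMk (ModuleCat.ofHom φ) (zero_add m)
        invFun := fun z => ((HomologicalComplex.singleObjXSelf (ComplexShape.up ℤ) 0 N).inv ≫ z.v 0 m (zero_add m)).hom
        map_add' := fun φ ψ => by
          refine Cochain.ext _ _ fun p q h => ?_
          by_cases hp : p = 0
          · subst hp
            obtain rfl : q = m := by omega
            show _ = (Cochain.fromSingleMk (ModuleCat.ofHom φ) (zero_add q)).v 0 q h +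
              (Cochain.fromSingleMk (ModuleCat.ofHom ψ) (zero_add q)).v 0 q h
            rw [Cochain.fromSingleMk_v, Cochain.fromSingleMk_v, Cochain.fromSingleMk_v]
            exact Preadditive.comp_add _ _ _ _ (ModuleCat.ofHom φ) (ModuleCat.ofHom ψ)
          · exact (HomologicalComplex.isZero_single_obj_X (ComplexShape.up ℤ) 0 N p hp).eq_of_src _ _
        map_smul' := fun a φ => by
          refine Cochain.ext _ _ fun p q h => ?_
          by_cases hp : p = 0
          · subst hp
            obtain rfl : q = m := by omega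
            show _ = a • (Cochain.fromSingleMk (ModuleCat.ofHom φ) (zero_add q)).v 0 q h
            rw [Cochain.fromSingleMk_v, Cochain.fromSingleMk_v]
            exact Linear.comp_smul _ _ _ _ a (ModuleCat.ofHom φ)
          · exact (HomologicalComplex.isZero_single_obj_X (ComplexShape.up ℤ) 0 N p hp).eq_of_src _ _
        left_inv := fun φ => by
          show ((HomologicalComplex.singleObjXSelf (ComplexShape.up ℤ) 0 N).inv ≫
            (Cochain.fromSingleMk (ModuleCat.ofHom φ) (zero_add m)).v 0 m (zero_add m)).hom = φ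
          rw [Cochain.fromSingleMk_v, Iso.inv_hom_id_assoc]
          rfl
        right_inv := fun z => Cochain.ext _ _ fun p q h => by
          by_cases hp : p = 0
          · subst hp
            obtain rfl : q = m := by omega
            simp
            rfl
          · exact (HomologicalComplex.isZero_single_obj_X (ComplexShape.up ℤ) 0 N p hp).eq_of_src _ _ })
    (fun i j hij => ModuleCat.hom_ext (LinearMap.ext fun (φ : N →ₗ[A] W.X i) => by
      obtain rfl : i + 1 = j := hij
      show δ i (i + 1) (Cochain.fromSingleMk (ModuleCat.ofHom φ) (zero_add i)) =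
        Cochain.fromSingleMk (ModuleCat.ofHom ((W.d i (i + 1)).hom ∘ₗ φ)) (zero_add (i + 1))
      rw [Cochain.δ_fromSingleMk _ _ _ (i + 1) (zero_add _)]
      rfl))

omit [W.IsKInjective] [∀ i, Injective (W.X i)] in
theorem evC_single (N : ModuleCat.{u} A) : evC W ((sgl).obj N) ≫ homCxPre (theta W N).hom W = ev W N :=
  HomologicalComplex.from_single_hom_ext (by
    rw [HomologicalComplex.comp_f, ev, HomologicalComplex.mkHomFromSingle_f]
    refine ModuleCat.hom_ext (LinearMap.ext fun x => ?_)
    refine Cochain.ext _ _ fun m q h => ?_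
    refine (homCxPre_apply (theta W N).hom W 0 _ m q h).trans ?_
    obtain rfl : m = q := by omega
    refine ModuleCat.hom_ext (LinearMap.ext fun (φ : N →ₗ[A] W.X m) => ?_)
    refine (evCComp_v W ((sgl).obj N) 0 x m m h _).trans ?_
    show (((m * 0).negOnePow : ℤˣ) : ℤ) •
      ((Cochain.fromSingleMk (ModuleCat.ofHom φ) (zero_add m)).v 0 m _).hom x = _
    rw [Cochain.fromSingleMk_v, mul_zero, Int.negOnePow_zero, Units.val_one, one_smul]
    refine Eq.trans ?_ (ConcreteCategory.congr_hom (Cochain.ofHom_v (evHom W N _) m) φ).symm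
    rfl)

theorem good_single_zero [IsNoetherianRing A] (a b : ℤ) (hzero : ∀ i, (i < a ∨ b < i) → IsZero (W.X i))
    {ω : Dual.D A} (e : DerivedCategory.Q.obj W ≅ ω) (hω : Dual.IsDualizing A ω) (N : ModuleCat.{u} A)
    [Module.Finite A N] : Good W ((sgl).obj N) := fun n => by
  haveI : IsIso (homCxPre (theta W N).hom W) :=
    ⟨homCxPre (theta W N).inv W, by rw [← homCxPre_comp, Iso.inv_hom_id, homCxPre_id],
      by rw [← homCxPre_comp, Iso.hom_inv_id, homCxPre_id]⟩
  refine ⟨?_, ?_⟩
  · haveI := isIso_ev W a b hzero e hω N n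
    haveI : IsIso (HomologicalComplex.homologyMap (evC W ((sgl).obj N)) n ≫
        HomologicalComplex.homologyMap (homCxPre (theta W N).hom W) n) := by
      rw [← HomologicalComplex.homologyMap_comp, evC_single]; infer_instance
    exact IsIso.of_isIso_comp_right _ (HomologicalComplex.homologyMap (homCxPre (theta W N).hom W) n)
  · haveI := finite_homology_dCx W a (fun i hi => hzero i (Or.inl hi))
      (finite_homology_model e hω.finite_cohomology) ((n - a).toNat + 1) n (by omega) N
    exact Module.Finite.equiv (asIso (HomologicalComplex.homologyMap (theta W N).hom n)).toLinearEquiv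

omit [W.IsKInjective] [∀ i, Injective (W.X i)] in
/-- The two-term contractible complex. -/
theorem exists_two_term (N : ModuleCat.{u} A) (q : ℤ) : ∃ S : ShortComplex (DRing.Cx A), S.ShortExact ∧
    (∀ i, IsZero (S.X₂.homology i)) ∧
    Nonempty (S.X₁ ≅ (HomologicalComplex.single (ModuleCat A) (ComplexShape.up ℤ) (q + 1)).obj N) ∧
    Nonempty (S.X₃ ≅ (HomologicalComplex.single (ModuleCat A) (ComplexShape.up ℤ) q).obj N) := by
  let X := (HomologicalComplex.single (ModuleCat A) (ComplexShape.up ℤ) (q + 1)).obj N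
  let S := CochainComplex.mappingCone.triangle (𝟙 X)
  let T := ShortComplex.mk (CochainComplex.mappingCone.inr (𝟙 X)) S.mor₃ (CochainComplex.mappingCone.inr_triangleδ _)
  refine ⟨T, ?_, fun i => ?_, ⟨Iso.refl _⟩, ⟨?_⟩⟩
  · refine HomologicalComplex.shortExact_of_degreewise_shortExact _ fun p => ?_
    exact ShortComplex.Splitting.shortExact (CochainComplex.mappingCone.triangleRotateShortComplexSplitting (𝟙 X) p)
  · rw [IsZero.iff_id_eq_zero, ← HomologicalComplex.homologyMap_id,
      (CochainComplex.mappingCone.homotopyToZeroOfId X).homologyMap_eq, HomologicalComplex.homologyMap_zero]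
  · exact ((CochainComplex.singleFunctors (ModuleCat.{u} A)).shiftIso 1 q (q + 1) (by omega)).app N

theorem good_single [IsNoetherianRing A] (a b : ℤ) (hzero : ∀ i, (i < a ∨ b < i) → IsZero (W.X i))
    {ω : Dual.D A} (e : DerivedCategory.Q.obj W ≅ ω) (hω : Dual.IsDualizing A ω) (N : ModuleCat.{u} A)
    [Module.Finite A N] (q : ℤ) : Good W ((HomologicalComplex.single (ModuleCat A) (ComplexShape.up ℤ) q).obj N) := by
  have step : ∀ q : ℤ, Good W ((HomologicalComplex.single (ModuleCat A) (ComplexShape.up ℤ) (q + 1)).obj N) ↔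
      Good W ((HomologicalComplex.single (ModuleCat A) (ComplexShape.up ℤ) q).obj N) := fun q => by
    obtain ⟨S, hS, h₂, ⟨e₁⟩, ⟨e₃⟩⟩ := exists_two_term N q
    rw [← good_congr W e₁.hom, good_ends W hS h₂, good_congr W e₃.hom]
  induction q using Int.induction_on with
  | zero => exact good_single_zero W a b hzero e hω N
  | succ i hi => exact (step _).2 hi
  | pred i hi =>
    have h := step (-(i : ℤ) - 1)
    rw [sub_add_cancel] at h
    exact h.1 hi

theorem good_bounded [IsNoetherianRing A] (a b : ℤ) (hzero : ∀ i, (i < a ∨ b < i) → IsZero (W.X i))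
    {ω : Dual.D A} (e : DerivedCategory.Q.obj W ≅ ω) (hω : Dual.IsDualizing A ω) :
    ∀ (m : ℕ) (c : ℤ) (K : DRing.Cx A), (∀ i, (i < c ∨ c + m ≤ i) → IsZero (K.homology i)) →
      (∀ i, Module.Finite A (K.homology i)) → Good W K := by
  intro m
  induction m with
  | zero => exact fun c K hK _ => good_of_acyclic W fun i => hK i (by omega)
  | succ m ih =>
    intro c K hK hfin
    have hS := K.shortComplexTruncLE_shortExact c
    refine good_mid W hS ?_ ?_
    · show Good W (K.truncLE c)
      have hc : ∀ i, i ≠ c → IsZero ((K.truncLE c).homology i) := fun i hi => by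
        rcases lt_or_gt_of_ne hi with h | h
        · haveI := K.quasiIsoAt_ιTruncLE c i h.le
          exact (hK i (Or.inl h)).of_iso (asIso (HomologicalComplex.homologyMap (K.ιTruncLE c) i))
        · exact ShortComplex.isZero_homology_of_isZero_X₂ _ ((K.truncLE c).isZero_of_isStrictlyLE c i h)
      haveI : (K.truncLE c).IsGE c := (CochainComplex.isGE_iff _ _).2 fun i hi =>
        (HomologicalComplex.exactAt_iff_isZero_homology _ _).2 (hc i hi.ne)
      haveI : QuasiIso ((K.truncLE c).πTruncGE c) := ((K.truncLE c).quasiIso_πTruncGE_iff c).2 inferInstance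
      rw [good_congr W ((K.truncLE c).πTruncGE c)]
      haveI : ((K.truncLE c).truncGE c).IsStrictlyLE c := inferInstance
      obtain ⟨N, ⟨g⟩⟩ := CochainComplex.exists_iso_single ((K.truncLE c).truncGE c) c
      haveI := hfin c
      haveI := K.quasiIsoAt_ιTruncLE c c le_rfl
      haveI : Module.Finite A N := Module.Finite.equiv
        ((asIso (HomologicalComplex.homologyMap (K.ιTruncLE c) c)).symm ≪≫
          asIso (HomologicalComplex.homologyMap ((K.truncLE c).πTruncGE c) c) ≪≫
          (HomologicalComplex.homologyFunctor _ _ c).mapIso g ≪≫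
          HomologicalComplex.singleObjHomologySelfIso (ComplexShape.up ℤ) c N).toLinearEquiv
      exact (good_congr W g.hom).2 (good_single W a b hzero e hω N c)
    · have hq : QuasiIso (K.shortComplexTruncLEX₃ToTruncGE c (c + 1) rfl) := inferInstance
      rw [good_congr W (K.shortComplexTruncLEX₃ToTruncGE c (c + 1) rfl)]
      refine ih (c + 1) _ (fun i hi => ?_) (fun i => ?_)
      · by_cases h : i < c + 1
        · exact ShortComplex.isZero_homology_of_isZero_X₂ _ ((K.truncGE (c + 1)).isZero_of_isStrictlyGE (c + 1) i h)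
        · haveI := K.quasiIsoAt_πTruncGE (c + 1) i (by omega)
          exact (hK i (Or.inr (by omega))).of_iso (asIso (HomologicalComplex.homologyMap (K.πTruncGE (c + 1)) i)).symm
      · by_cases h : i < c + 1
        · haveI : Subsingleton ((K.truncGE (c + 1)).homology i) := ModuleCat.subsingleton_of_isZero
            (ShortComplex.isZero_homology_of_isZero_X₂
              ((K.truncGE (c + 1)).sc i) ((K.truncGE (c + 1)).isZero_of_isStrictlyGE (c + 1) i h))
          exact Module.Finite.of_finite
        · haveI := K.quasiIsoAt_πTruncGE (c + 1) i (by omega)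
          haveI := hfin i
          exact Module.Finite.equiv (asIso (HomologicalComplex.homologyMap (K.πTruncGE (c + 1)) i)).toLinearEquiv

/-- Biduality for an arbitrary complex with finite cohomology. -/
theorem good_of_finite [IsNoetherianRing A] (a b : ℤ) (hzero : ∀ i, (i < a ∨ b < i) → IsZero (W.X i))
    {ω : Dual.D A} (e : DerivedCategory.Q.obj W ≅ ω) (hω : Dual.IsDualizing A ω) (K : DRing.Cx A)
    (hfin : ∀ i, Module.Finite A (K.homology i)) : Good W K := by
  intro n
  obtain ⟨R, hR⟩ : ∃ R : ℕ, |a| + |b| + |a| + |b| + |n| + 2 ≤ (R : ℤ) :=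
    ⟨(|a| + |b| + |a| + |b| + |n| + 2).toNat, Int.self_le_toNat _⟩
  -- cut below
  have h1 : Negl W n (K.truncLE (-R - 1)) := negl_of_window W a b n hzero _ R hR fun p hp _ =>
    (K.truncLE (-R - 1)).isZero_of_isStrictlyLE (-R - 1) p (by omega)
  refine (good2_of_negl_left W n (K.shortComplexTruncLE_shortExact (-R - 1)) h1).2
    ((good2_congr_qis W n (K.shortComplexTruncLEX₃ToTruncGE (-R - 1) (-R) (by omega))).2 ?_)
  -- cut above
  let L := K.truncGE (-R : ℤ)
  have h3 : Negl W n (L.shortComplexTruncLE (R : ℤ)).X₃ :=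
    negl_congr W n (L.shortComplexTruncLEX₃ToTruncGE (R : ℤ) (R + 1) rfl)
      (negl_of_window W a b n hzero _ R hR fun p _ hp =>
        (L.truncGE ((R : ℤ) + 1)).isZero_of_isStrictlyGE ((R : ℤ) + 1) p (by omega))
  refine (good2_of_negl_right W n (L.shortComplexTruncLE_shortExact (R : ℤ)) h3).1 ?_
  show Good2 W n (L.truncLE (R : ℤ))
  have hdeg : ∀ i, Module.Finite A ((L.truncLE (R : ℤ)).homology i) ∧
      ((i < -(R : ℤ) ∨ -(R : ℤ) + (2 * R + 1 : ℕ) ≤ i) → IsZero ((L.truncLE (R : ℤ)).homology i)) := fun i => by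
    by_cases h : (R : ℤ) < i
    · have hz := ShortComplex.isZero_homology_of_isZero_X₂ ((L.truncLE (R : ℤ)).sc i)
        ((L.truncLE (R : ℤ)).isZero_of_isStrictlyLE R i h)
      haveI : Subsingleton ((L.truncLE (R : ℤ)).homology i) := ModuleCat.subsingleton_of_isZero hz
      exact ⟨Module.Finite.of_finite, fun _ => hz⟩
    · haveI := L.quasiIsoAt_ιTruncLE (R : ℤ) i (by omega)
      let g := asIso (HomologicalComplex.homologyMap (L.ιTruncLE (R : ℤ)) i)
      by_cases h' : i < -(R : ℤ)
      · have hz : IsZero (L.homology i) :=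
          ShortComplex.isZero_homology_of_isZero_X₂ _ (L.isZero_of_isStrictlyGE (-R) i h')
        haveI : Subsingleton ((L.truncLE (R : ℤ)).homology i) := ModuleCat.subsingleton_of_isZero (hz.of_iso g)
        exact ⟨Module.Finite.of_finite, fun _ => hz.of_iso g⟩
      · haveI := K.quasiIsoAt_πTruncGE (-R : ℤ) i (by omega)
        haveI := hfin i
        refine ⟨Module.Finite.equiv
          (asIso (HomologicalComplex.homologyMap (K.πTruncGE (-R : ℤ)) i) ≪≫ g.symm).toLinearEquiv, fun hi => ?_⟩
        omega
  exact good_bounded W a b hzero e hω (2 * R + 1) (-R) _ (fun i => (hdeg i).2) (fun i => (hdeg i).1) n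

end Groth.Agent.DualCx
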