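import Groth.Agent.DualCx.Basic
import Groth.Agent.TriH.DerivedProducts

/-!
# Biduality for finite modules
-/

set_option autoImplicit false
set_option linter.style.haveILetI false

open CategoryTheory CategoryTheory.Limits CochainComplex CochainComplex.HomComplex

universe u

attribute [local instance] HasDerivedCategory.standard

namespace Groth.Agent.DualCx

open Groth.Agent.LocCohLib Groth.Agent.RGamma

variable {A : Type u} [CommRing A] (W : DRing.Cx A)

local notation "sgl" => HomologicalComplex.single (ModuleCat A) (ComplexShape.up ℤ) 0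

/-- The double dual. -/
noncomputable abbrev dd (N : ModuleCat.{u} A) : DRing.Cx A := LocCohLib.homCx (dCx W N) W

/-- Its functoriality. -/
noncomputable abbrev ddmap {N N' : ModuleCat.{u} A} (f : N ⟶ N') : dd W N ⟶ dd W N' :=
  LocCohLib.homCxPre (dmap W f) W

theorem ddmap_add {N N' : ModuleCat.{u} A} (f g : N ⟶ N') : ddmap W (f + g) = ddmap W f + ddmap W g := by
  refine HomologicalComplex.hom_ext _ _ fun n => ModuleCat.hom_ext (LinearMap.ext fun z => ?_)
  refine Cochain.ext _ _ fun p q h => ?_
  refine (homCxPre_apply (dmap W (f + g)) W n z p q h).trans ?_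
  refine Eq.trans ?_ (congrArg₂ (· + ·) (homCxPre_apply (dmap W f) W n z p q h)
    (homCxPre_apply (dmap W g) W n z p q h)).symm
  rw [← Preadditive.add_comp]
  refine congrArg (· ≫ _) (ModuleCat.hom_ext (LinearMap.ext fun x => LinearMap.ext fun y => ?_))
  exact map_add (show N' →ₗ[A] W.X p from x) (f.hom y) (g.hom y)

theorem ddmap_comp {N N' N'' : ModuleCat.{u} A} (f : N ⟶ N') (g : N' ⟶ N'') :
    ddmap W (f ≫ g) = ddmap W f ≫ ddmap W g := by
  refine HomologicalComplex.hom_ext _ _ fun n => ModuleCat.hom_ext (LinearMap.ext fun z => ?_)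
  refine Cochain.ext _ _ fun p q h => ?_
  refine (homCxPre_apply (dmap W (f ≫ g)) W n z p q h).trans ?_
  refine Eq.trans ?_ (homCxPre_apply (dmap W g) W n _ p q h).symm
  refine Eq.trans ?_ (congrArg (((dmap W g).f p) ≫ ·) (homCxPre_apply (dmap W f) W n z p q h)).symm
  rfl

theorem ddmap_id (N : ModuleCat.{u} A) : ddmap W (𝟙 N) = 𝟙 _ := by
  refine HomologicalComplex.hom_ext _ _ fun n => ModuleCat.hom_ext (LinearMap.ext fun z => ?_)
  refine Cochain.ext _ _ fun p q h => ?_
  refine (homCxPre_apply (dmap W (𝟙 N)) W n z p q h).trans ?_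
  exact Category.id_comp _

/-- Evaluation at an element. -/
noncomputable def evHom (N : ModuleCat.{u} A) (x : N) : dCx W N ⟶ W where
  f i := ModuleCat.ofHom (LinearMap.applyₗ x)
  comm' _ _ _ := rfl

theorem evHom_natural {N N' : ModuleCat.{u} A} (f : N ⟶ N') (x : N) :
    dmap W f ≫ evHom W N x = evHom W N' (f.hom x) := rfl

/-- The biduality map. -/
noncomputable def ev (N : ModuleCat.{u} A) : (sgl).obj N ⟶ dd W N :=
  HomologicalComplex.mkHomFromSingle (ModuleCat.ofHom
    { toFun := fun x => (Cochain.ofHom (evHom W N x) : Cochain (dCx W N) W 0)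
      map_add' := fun x y => by
        have : evHom W N (x + y) = evHom W N x + evHom W N y := HomologicalComplex.hom_ext _ _ fun i =>
          ModuleCat.hom_ext (LinearMap.ext fun z => map_add (show N →ₗ[A] W.X i from z) x y)
        rw [this]
        exact Cochain.ofHom_add _ _
      map_smul' := fun a x => by
        have : evHom W N (a • x) = a • evHom W N x := HomologicalComplex.hom_ext _ _ fun i =>
          ModuleCat.hom_ext (LinearMap.ext fun z => map_smul (show N →ₗ[A] W.X i from z) a x)
        rw [this]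
        refine Cochain.ext _ _ fun p q h => ?_
        obtain rfl : p = q := by omega
        simp })
    fun k hk => ModuleCat.hom_ext (LinearMap.ext fun x => δ_ofHom (evHom W N x))

theorem ev_natural {N N' : ModuleCat.{u} A} (f : N ⟶ N') :
    (sgl).map f ≫ ev W N' = ev W N ≫ ddmap W f := HomologicalComplex.from_single_hom_ext (by
  rw [HomologicalComplex.comp_f, HomologicalComplex.comp_f, HomologicalComplex.single_map_f_self, ev,
    HomologicalComplex.mkHomFromSingle_f, ev, HomologicalComplex.mkHomFromSingle_f, Category.assoc, Category.assoc,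
    Category.assoc]
  congr 1
  rw [Iso.inv_hom_id_assoc]
  refine ModuleCat.hom_ext (LinearMap.ext fun x => ?_)
  refine Cochain.ext _ _ fun p q h => ?_
  refine Eq.trans ?_ (homCxPre_apply (dmap W f) W 0 (Cochain.ofHom (evHom W N x)) p q h).symm
  obtain rfl : p = q := by omega
  rw [Cochain.ofHom_v]
  exact Cochain.ofHom_v _ _)

/-- Maps in the derived category are homotopy classes. -/
theorem hcls_eq_zero_of_Q [W.IsKInjective] {X : DRing.Cx A} {n : ℤ} (z : Cochain X W n) (hz : δ n (n + 1) z = 0)
    (h : DerivedCategory.Q.map (Cocycle.equivHomShift.symm (Cocycle.mk z (n + 1) rfl hz)) = 0) :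
    hcls X W n z hz = 0 := by
  rw [← one_smul A (hcls X W n z hz), hcls_smul_eq_zero_iff, one_smul]
  have h0 : CohomologyClass.toHom (CohomologyClass.mk (Cocycle.mk z (n + 1) rfl hz)) = 0 := by
    rw [CohomologyClass.toHom_mk, HomotopyCategory.quotient_map_eq_zero_iff]
    exact (TriH.Q_map_eq_zero_iff_of_isKInjective _).1 h
  exact (mem_coboundaries_iff _ (n - 1) (by omega)).1 ((CohomologyClass.toHom_mk_eq_zero_iff _).1 h0)

theorem subsingleton_homology_homCx [W.IsKInjective] (X : DRing.Cx A) (n : ℤ)
    (h : Subsingleton (DerivedCategory.Q.obj X ⟶ (DerivedCategory.Q.obj W)⟦n⟧)) :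
    Subsingleton ((LocCohLib.homCx X W).homology n) := by
  refine subsingleton_of_forall_eq 0 fun x => ?_
  obtain ⟨z, hz, rfl⟩ := exists_hcls X W n x
  refine hcls_eq_zero_of_Q W z hz ?_
  exact (cancel_mono ((DerivedCategory.Q.commShiftIso n).hom.app W)).1
    ((Subsingleton.elim _ _ : _ = (0 : DerivedCategory.Q.obj X ⟶ (DerivedCategory.Q.obj W)⟦n⟧)).trans zero_comp.symm)

theorem bijective_ev_self [W.IsKInjective] {ω : Dual.D A} (e : DerivedCategory.Q.obj W ≅ ω)
    (hend : Function.Bijective (fun a : A => a • 𝟙 ω)) (n : ℤ)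
    (hvan : n ≠ 0 → Subsingleton (ω ⟶ ω⟦n⟧)) :
    IsIso (HomologicalComplex.homologyMap (ev W (ModuleCat.of A A)) n) := by
  let F := ModuleCat.of A A
  have hX : Subsingleton (DerivedCategory.Q.obj W ⟶ (DerivedCategory.Q.obj W)⟦n⟧) ∨ n = 0 := by
    by_cases hn : n = 0
    · exact Or.inr hn
    · haveI := hvan hn
      exact Or.inl ((e.homCongr ((CategoryTheory.shiftFunctor (Dual.D A) n).mapIso e)).subsingleton)
  let d := DerivedCategory.Q.mapIso (dSelfIso W)
  by_cases hn : n = 0
  · subst hn
    refine (ConcreteCategory.isIso_iff_bijective _).2 ⟨(injective_iff_map_eq_zero _).2 fun x hx => ?_, fun x => ?_⟩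
    · obtain ⟨z, rfl⟩ := scCls_surjective (((sgl).obj F).sc 0) x
      let a : A := (HomologicalComplex.singleObjXSelf (ComplexShape.up ℤ) 0 F).hom z.1
      let φ := evHom W F (show F from a)
      have hz' : δ 0 (0 + 1) (Cochain.ofHom φ) = 0 := δ_ofHom φ
      have hev : (ev W F).f 0 z.1 = (Cochain.ofHom φ : Cochain (dCx W F) W 0) := by
        rw [ev, HomologicalComplex.mkHomFromSingle_f]
        rfl
      have h1 : hcls (dCx W F) W 0 (Cochain.ofHom φ) hz' = 0 :=
        (scCls_map ((HomologicalComplex.shortComplexFunctor _ _ 0).map (ev W F)) z ⟨_, by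
          show (LocCohLib.homCx (dCx W F) W).d 0 ((ComplexShape.up ℤ).next 0) (Cochain.ofHom φ) = 0
          rw [CochainComplex.next]; exact hz'⟩ hev).symm.trans hx
      rw [← one_smul A (hcls (dCx W F) W 0 (Cochain.ofHom φ) hz'), hcls_smul_eq_zero_iff, one_smul] at h1
      obtain ⟨β, hβ⟩ := h1
      have H : Homotopy φ 0 := (Cochain.equivHomotopy φ 0).symm ⟨β, by
        rw [Cochain.ofHom_zero, add_zero]
        exact hβ.symm⟩
      have hQ : DerivedCategory.Q.map φ = 0 := (TriH.Q_map_eq_zero_iff_of_isKInjective φ).2 ⟨H⟩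
      have hφ : φ = a • (dSelfIso W).hom := HomologicalComplex.hom_ext _ _ fun i =>
        ModuleCat.hom_ext (LinearMap.ext fun g => by
          show (show A →ₗ[A] W.X i from g) a = a • (show A →ₗ[A] W.X i from g) 1
          rw [← map_smul, smul_eq_mul, mul_one])
      rw [hφ, Functor.map_smul] at hQ
      have h0 : a • 𝟙 ω = (0 : A) • 𝟙 ω := by
        have h2 := congrArg (fun t => e.inv ≫ d.inv ≫ t ≫ e.hom) hQ
        simp only [Linear.smul_comp, Linear.comp_smul, zero_comp, comp_zero] at h2
        rw [zero_smul]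
        refine Eq.trans ?_ h2
        show _ = a • (e.inv ≫ d.inv ≫ d.hom ≫ e.hom)
        simp
      have ha : a = 0 := hend.1 h0
      have hz0 : z = 0 := Subtype.ext
        ((HomologicalComplex.singleObjXSelf (ComplexShape.up ℤ) 0 F).toLinearEquiv.map_eq_zero_iff.1 ha)
      rw [hz0]
      exact map_zero _
    · obtain ⟨z, hz, rfl⟩ := exists_hcls (dCx W F) W 0 x
      let c : Cocycle (dCx W F) W 0 := Cocycle.mk z (0 + 1) rfl hz
      let f := Cocycle.homOf c
      obtain ⟨a, ha⟩ := hend.2 (e.inv ≫ d.inv ≫ DerivedCategory.Q.map f ≫ e.hom)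
      simp only at ha
      let φ := evHom W F (show F from a)
      have hφ : φ = a • (dSelfIso W).hom := HomologicalComplex.hom_ext _ _ fun i =>
        ModuleCat.hom_ext (LinearMap.ext fun g => by
          show (show A →ₗ[A] W.X i from g) a = a • (show A →ₗ[A] W.X i from g) 1
          rw [← map_smul, smul_eq_mul, mul_one])
      have hQ : DerivedCategory.Q.map (φ - f) = 0 := by
        rw [Functor.map_sub, sub_eq_zero, hφ, Functor.map_smul]
        refine (cancel_mono e.hom).1 ((cancel_epi d.inv).1 ((cancel_epi e.inv).1 ?_))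
        refine Eq.trans ?_ ha
        rw [Linear.smul_comp, Linear.comp_smul, Linear.comp_smul]
        show a • (e.inv ≫ d.inv ≫ d.hom ≫ e.hom) = _
        simp
      obtain ⟨H⟩ := (TriH.Q_map_eq_zero_iff_of_isKInjective (φ - f)).1 hQ
      obtain ⟨β, hβ⟩ := Cochain.equivHomotopy (φ - f) 0 H
      rw [Cochain.ofHom_zero, add_zero, Cochain.ofHom_sub, Cocycle.cochain_ofHom_homOf_eq_coe] at hβ
      let s := (HomologicalComplex.singleObjXSelf (ComplexShape.up ℤ) 0 F).inv (show F from a)
      have hs : (((sgl).obj F).sc 0).g s = 0 := by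
        rw [HomologicalComplex.shortComplexFunctor_obj_g, HomologicalComplex.single_obj_d]
        rfl
      have hev : (ev W F).f 0 s = (Cochain.ofHom φ : Cochain (dCx W F) W 0) := by
        rw [ev, HomologicalComplex.mkHomFromSingle_f]
        exact congrArg (fun t : F => (Cochain.ofHom (evHom W F t) : Cochain (dCx W F) W 0))
          (Iso.inv_hom_id_apply (HomologicalComplex.singleObjXSelf (ComplexShape.up ℤ) 0 F) (show F from a))
      have hφc : δ 0 (0 + 1) (Cochain.ofHom φ) = 0 := δ_ofHom φ
      refine ⟨scCls (((sgl).obj F).sc 0) ⟨s, hs⟩, ?_⟩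
      refine (scCls_map ((HomologicalComplex.shortComplexFunctor _ _ 0).map (ev W F)) ⟨s, hs⟩
        ⟨(Cochain.ofHom φ : Cochain (dCx W F) W 0), by
          show (LocCohLib.homCx (dCx W F) W).d 0 ((ComplexShape.up ℤ).next 0) (Cochain.ofHom φ) = 0
          rw [CochainComplex.next]; exact hφc⟩ hev).trans ?_
      show hcls (dCx W F) W 0 (Cochain.ofHom φ) hφc = hcls (dCx W F) W 0 z hz
      rw [← sub_eq_zero]
      have hsub : δ 0 (0 + 1) (Cochain.ofHom φ - z) = 0 := by rw [δ_sub, hφc, hz, sub_zero]
      have h1 : hcls (dCx W F) W 0 (Cochain.ofHom φ - z) hsub = 0 := by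
        rw [← one_smul A (hcls (dCx W F) W 0 _ hsub), hcls_smul_eq_zero_iff, one_smul]
        exact ⟨β, hβ.symm⟩
      refine Eq.trans ?_ h1
      exact (map_sub (scCls ((LocCohLib.homCx (dCx W F) W).sc 0)) _ _).symm
  · have h1 : IsZero (((sgl).obj F).homology n) := ShortComplex.isZero_homology_of_isZero_X₂ _
      (HomologicalComplex.isZero_single_obj_X (ComplexShape.up ℤ) 0 _ n hn)
    haveI := hX.resolve_right hn
    haveI : Subsingleton (DerivedCategory.Q.obj (dCx W F) ⟶ (DerivedCategory.Q.obj W)⟦n⟧) :=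
      (Iso.homCongr d (Iso.refl ((DerivedCategory.Q.obj W)⟦n⟧))).subsingleton
    have h2 : IsZero ((dd W F).homology n) :=
      @ModuleCat.isZero_of_subsingleton _ _ _ (subsingleton_homology_homCx W (dCx W F) n inferInstance)
    exact ⟨0, h1.eq_of_src _ _, h2.eq_of_src _ _⟩

theorem isIso_ev_free (n : ℤ) (hA : IsIso (HomologicalComplex.homologyMap (ev W (ModuleCat.of A A)) n)) (k : ℕ) :
    IsIso (HomologicalComplex.homologyMap (ev W (ModuleCat.of A (Fin k → A))) n) := by
  let F := ModuleCat.of A (Fin k → A)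
  let R := ModuleCat.of A A
  let H := HomologicalComplex.homologyFunctor (ModuleCat.{u} A) (ComplexShape.up ℤ) n
  let ι : Fin k → (R ⟶ F) := fun t => ModuleCat.ofHom (LinearMap.single A (fun _ => A) t)
  let π : Fin k → (F ⟶ R) := fun t => ModuleCat.ofHom (LinearMap.proj t)
  have hid : ∑ t, π t ≫ ι t = 𝟙 F := ModuleCat.hom_ext (LinearMap.ext fun x => by
    rw [ModuleCat.hom_sum, LinearMap.sum_apply]
    exact Finset.univ_sum_single x)
  haveI : IsIso (H.map (ev W R)) := hA
  let G : H.obj (dd W F) ⟶ H.obj ((sgl).obj F) :=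
    ∑ t, H.map (ddmap W (π t)) ≫ inv (H.map (ev W R)) ≫ H.map ((sgl).map (ι t))
  refine ⟨G, ?_, ?_⟩
  · show H.map (ev W F) ≫ G = 𝟙 _
    rw [Preadditive.comp_sum]
    have : ∀ t, H.map (ev W F) ≫ H.map (ddmap W (π t)) ≫ inv (H.map (ev W R)) ≫ H.map ((sgl).map (ι t)) =
        H.map ((sgl).map (π t ≫ ι t)) := fun t => by
      rw [← Category.assoc, ← H.map_comp, ← ev_natural, H.map_comp, Category.assoc, IsIso.hom_inv_id_assoc,
        ← H.map_comp, ← Functor.map_comp]
    rw [Finset.sum_congr rfl fun t _ => this t, ← H.map_sum, ← Functor.map_sum, hid, CategoryTheory.Functor.map_id,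
      CategoryTheory.Functor.map_id]
  · show G ≫ H.map (ev W F) = 𝟙 _
    rw [Preadditive.sum_comp]
    have : ∀ t, (H.map (ddmap W (π t)) ≫ inv (H.map (ev W R)) ≫ H.map ((sgl).map (ι t))) ≫ H.map (ev W F) =
        H.map (ddmap W (π t ≫ ι t)) := fun t => by
      rw [Category.assoc, Category.assoc, ← H.map_comp ((sgl).map (ι t)), ev_natural, H.map_comp,
        IsIso.inv_hom_id_assoc, ← H.map_comp, ← ddmap_comp]
    rw [Finset.sum_congr rfl fun t _ => this t, ← H.map_sum]
    have hsum : ∑ t, ddmap W (π t ≫ ι t) = ddmap W (∑ t, π t ≫ ι t) :=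
      (map_sum (AddMonoidHom.mk' (fun f : F ⟶ F => ddmap W f) (ddmap_add W)) _ _).symm
    rw [hsum, hid, ddmap_id, CategoryTheory.Functor.map_id]

/-- Biduality for finite modules. -/
theorem isIso_ev [IsNoetherianRing A] [W.IsKInjective] [∀ i, Injective (W.X i)] (a b : ℤ)
    (hzero : ∀ i, (i < a ∨ b < i) → IsZero (W.X i))
    {ω : Dual.D A} (e : DerivedCategory.Q.obj W ≅ ω) (hω : Dual.IsDualizing A ω)
    (N : ModuleCat.{u} A) [Module.Finite A N] (n : ℤ) :
    IsIso (HomologicalComplex.homologyMap (ev W N) n) := by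
  suffices h : ∀ (m : ℕ) (n : ℤ), max (b - a) 0 < n + m → ∀ (N : ModuleCat.{u} A) [Module.Finite A N],
      IsIso (HomologicalComplex.homologyMap (ev W N) n) from
    h ((max (b - a) 0 - n).toNat + 1) n (by omega) N
  intro m
  induction m with
  | zero =>
    intro n hn N _
    have h1 : IsZero (((sgl).obj N).homology n) := ShortComplex.isZero_homology_of_isZero_X₂ _
      (HomologicalComplex.isZero_single_obj_X (ComplexShape.up ℤ) 0 _ n (by omega))
    have h2 : IsZero ((dd W N).homology n) := ShortComplex.isZero_homology_of_isZero_X₂ _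
      (@ModuleCat.isZero_of_subsingleton _ _ _ (subsingleton_of_forall_eq (0 : Cochain (dCx W N) W n) fun z =>
        Cochain.ext _ _ fun p q hpq => by
          by_cases hp : p < a ∨ b < p
          · haveI := ModuleCat.subsingleton_of_isZero (hzero p hp)
            exact (@ModuleCat.isZero_of_subsingleton _ _ ((dCx W N).X p)
              (inferInstanceAs (Subsingleton (N →ₗ[A] W.X p)))).eq_of_src _ _
          · exact (hzero q (Or.inr (by push_cast at hn; omega))).eq_of_tgt _ _))
    exact ⟨0, h1.eq_of_src _ _, h2.eq_of_src _ _⟩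
  | succ m ih =>
    intro n hn
    have hfree : ∀ k, IsIso (HomologicalComplex.homologyMap (ev W (ModuleCat.of A (Fin k → A))) n) := fun k =>
      isIso_ev_free W n (bijective_ev_self W e hω.toEnd_bijective n fun h => hω.ext_self_subsingleton n h) k
    have hnext : ∀ j, (ComplexShape.up ℤ).Rel n j → ∀ (N : ModuleCat.{u} A) [Module.Finite A N],
        IsIso (HomologicalComplex.homologyMap (ev W N) j) := fun j hj N _ => by
      obtain rfl : n + 1 = j := hj
      exact ih (n + 1) (by push_cast at hn; omega) N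
    have main : ∀ (N : ModuleCat.{u} A) [Module.Finite A N], Epi (HomologicalComplex.homologyMap (ev W N) n) ∧
        ((∀ (K : ModuleCat.{u} A) [Module.Finite A K], Epi (HomologicalComplex.homologyMap (ev W K) n)) →
          Mono (HomologicalComplex.homologyMap (ev W N) n)) := by
      intro N _
      obtain ⟨k, p, hp⟩ := Module.Finite.exists_fin' A N
      let C := ShortComplex.mk (ModuleCat.ofHom (X := LinearMap.ker p) (Y := Fin k → A) (LinearMap.ker p).subtype)
        (ModuleCat.ofHom p) (ModuleCat.hom_ext (LinearMap.ext fun x => x.2))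
      have hC : C.ShortExact :=
        { exact := (ShortComplex.ShortExact.moduleCat_exact_iff_function_exact _).2 (LinearMap.exact_subtype_ker_map p)
          mono_f := (ModuleCat.mono_iff_injective _).2 Subtype.val_injective
          epi_g := (ModuleCat.epi_iff_surjective _).2 hp }
      have hS₁ : (C.map (sgl)).ShortExact := hC.map_of_exact _
      have hS₂ := homShortPre_shortExact (dShort_shortExact W hC) W
      let φ : C.map (sgl) ⟶ homShortPre (dShort W C) W :=
        { τ₁ := ev W C.X₁
          τ₂ := ev W C.X₂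
          τ₃ := ev W C.X₃
          comm₁₂ := (ev_natural W C.f).symm
          comm₂₃ := (ev_natural W C.g).symm }
      haveI : Module.Finite A C.X₁ := inferInstanceAs (Module.Finite A (LinearMap.ker p))
      have h2 : IsIso (HomologicalComplex.homologyMap φ.τ₂ n) := hfree k
      haveI := h2
      refine ⟨HomologicalComplex.HomologySequence.epi_homologyMap_τ₃ φ hS₁ hS₂ n
          (inferInstanceAs (Epi (HomologicalComplex.homologyMap φ.τ₂ n)))
          (fun j hj => by
            haveI : IsIso (HomologicalComplex.homologyMap φ.τ₁ j) := hnext j hj C.X₁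
            infer_instance)
          (fun j hj => by
            haveI : IsIso (HomologicalComplex.homologyMap φ.τ₂ j) := hnext j hj (ModuleCat.of A (Fin k → A))
            infer_instance),
        fun hK => HomologicalComplex.HomologySequence.mono_homologyMap_τ₃ φ hS₁ hS₂ n (hK C.X₁)
          (inferInstanceAs (Mono (HomologicalComplex.homologyMap φ.τ₂ n)))
          (fun j hj => by
            haveI : IsIso (HomologicalComplex.homologyMap φ.τ₁ j) := hnext j hj C.X₁
            infer_instance)⟩
    intro N _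
    haveI := (main N).1
    haveI := (main N).2 fun K _ => (main K).1
    exact isIso_of_mono_of_epi _

end Groth.Agent.DualCx
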