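import Groth.Agent.DepthLib.FlatDepth
import Groth.Agent.TopFT.RPowBasic
import Groth.Agent.S0543
import Mathlib.RingTheory.AdicCompletion.AsTensorProduct
import Mathlib.RingTheory.Flat.Localization
import Groth.Prelude.Def_DualLC

/-!
# Depth read off from primes of completions
-/

set_option autoImplicit false
set_option linter.style.haveILetI false

universe u

open scoped TensorProduct

namespace Groth.Agent.DualCx

/-- The completion of a finite module is the base change. -/
theorem isBaseChange_of {L : Type u} [CommRing L] [IsNoetherianRing L] (J : Ideal L) (N : Type u) [AddCommGroup N]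
    [Module L N] [Module.Finite L N] : IsBaseChange (AdicCompletion J L) (AdicCompletion.of J N) := by
  refine IsBaseChange.of_equiv (AdicCompletion.ofTensorProductEquivOfFiniteNoetherian J N) fun x => ?_
  rw [← AdicCompletion.ofTensorProductEquivOfFiniteNoetherian_symm_of, LinearEquiv.apply_symm_apply]

/-- A flat local homomorphism with zero-dimensional closed fibre preserves depth. -/
theorem depth_baseChange_of_fibre_zero {A B : Type u} [CommRing A] [CommRing B] [Algebra A B] [IsLocalRing A]
    [IsLocalRing B] [IsNoetherianRing A] [IsNoetherianRing B] [IsLocalHom (algebraMap A B)] [Module.Flat A B]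
    (h : ∀ P : Ideal B, P.IsPrime → (IsLocalRing.maximalIdeal A).map (algebraMap A B) ≤ P →
      P = IsLocalRing.maximalIdeal B) (M : Type u) [AddCommGroup M] [Module A M] [Module.Finite A M] :
    LocCoh.depth B (B ⊗[A] M) = LocCoh.depth A M := by
  haveI : Module.Finite B (B ⊗[A] M) := inferInstance
  rw [← DepthLib.idealDepth_eq_depth_of_radical (A := B) (M := B ⊗[A] M)
      (((IsLocalRing.local_hom_TFAE (algebraMap A B)).out 0 2 rfl rfl).mp inferInstance) h,
    DepthLib.idealDepth_baseChange_eq fun p hp _ => DepthLib.map_ne_top_of_isLocalHom p hp]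
  rfl

/-- A prime `p` below `q` with only `q` between it and `V(J)` is seen in the completion. -/
theorem lt_depth_of_completion {A : Type u} [CommRing A] [IsNoetherianRing A] (I : Ideal A) (M : Type u)
    [AddCommGroup M] [Module A M] [Module.Finite A M] (s : ℕ∞) (p q : Ideal A) [p.IsPrime] [q.IsPrime]
    (hpq : p ≤ q) (hIp : ¬ I ≤ p) (hIq : I ≤ q)
    (honly : ∀ r : Ideal A, r.IsPrime → p ≤ r → r ≤ q → I ≤ r → r = q)
    (h6 : ∀ p' : PrimeSpectrum (AdicCompletion (I.map (algebraMap A (Localization.AtPrime q))) (Localization.AtPrime q)),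
      ¬ (I.map (algebraMap A (AdicCompletion (I.map (algebraMap A (Localization.AtPrime q))) (Localization.AtPrime q)))) ≤ p'.asIdeal →
      (∀ q' : PrimeSpectrum (AdicCompletion (I.map (algebraMap A (Localization.AtPrime q))) (Localization.AtPrime q)),
        p' ≤ q' → (I.map (algebraMap A (AdicCompletion (I.map (algebraMap A (Localization.AtPrime q))) (Localization.AtPrime q)))) ≤ q'.asIdeal →
          q'.asIdeal.IsMaximal) →
      s < LocCoh.depth (Localization.AtPrime p'.asIdeal) (LocalizedModule p'.asIdeal.primeCompl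
        (AdicCompletion (I.map (algebraMap A (Localization.AtPrime q))) (LocalizedModule q.primeCompl M)))) :
    s < LocCoh.depth (Localization.AtPrime p) (LocalizedModule p.primeCompl M) := by
  let L := Localization.AtPrime q
  let J : Ideal L := I.map (algebraMap A L)
  let C := AdicCompletion J L
  haveI : IsNoetherianRing L := IsLocalization.isNoetherianRing q.primeCompl _ inferInstance
  haveI : IsNoetherianRing C := Groth.Agent.S0543.result L J
  haveI : Module.Flat L C := AdicCompletion.flat_of_isNoetherian J
  haveI : Module.Flat A L := IsLocalization.flat L q.primeCompl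
  haveI : IsScalarTower A L C := inferInstance
  haveI : Module.Flat A C := Module.Flat.trans A L C
  -- the closed point of the completion
  let f : C →ₐ[L] L ⧸ J ^ 1 := AdicCompletion.evalₐ J 1
  have hf : Function.Surjective f := AdicCompletion.surjective_evalₐ J 1
  have hker : RingHom.ker f = J.map (algebraMap L C) := by
    rw [TopFT.ker_evalₐ J (IsNoetherian.noetherian J) 1, pow_one]
  have hJm : J ^ 1 ≤ IsLocalRing.maximalIdeal L := by
    rw [pow_one]
    exact (Ideal.map_mono hIq).trans (le_of_eq Localization.AtPrime.map_eq_maximalIdeal)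
  let q₀ : Ideal C := ((IsLocalRing.maximalIdeal L).map (Ideal.Quotient.mk (J ^ 1))).comap f
  haveI : ((IsLocalRing.maximalIdeal L).map (Ideal.Quotient.mk (J ^ 1))).IsMaximal :=
    (Ideal.map_eq_top_or_isMaximal_of_surjective _ Ideal.Quotient.mk_surjective inferInstance).resolve_left fun ht =>
      (IsLocalRing.maximalIdeal.isMaximal L).ne_top (by
        have := congrArg (Ideal.comap (Ideal.Quotient.mk (J ^ 1))) ht
        rwa [Ideal.comap_map_of_surjective _ Ideal.Quotient.mk_surjective, Ideal.comap_top, ← RingHom.ker_eq_comap_bot,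
          Ideal.mk_ker, sup_eq_left.2 hJm] at this)
  haveI hq₀ : q₀.IsMaximal := Ideal.comap_isMaximal_of_surjective f hf
  have hq₀L : q₀.under L = IsLocalRing.maximalIdeal L :=
    ((IsLocalRing.maximalIdeal.isMaximal L).eq_of_le (Ideal.IsPrime.ne_top inferInstance) fun x hx => by
      refine Ideal.mem_comap.2 (Ideal.mem_comap.2 ?_)
      rw [AlgHom.commutes]; exact Ideal.mem_map_of_mem _ hx).symm
  -- the image of `p`
  let P : Ideal L := p.map (algebraMap A L)
  have hdisj : Disjoint (q.primeCompl : Set A) (p : Set A) := Set.disjoint_left.mpr fun z hz hz' => hz (hpq hz')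
  haveI hP : P.IsPrime := IsLocalization.isPrime_of_isPrime_disjoint q.primeCompl L p inferInstance hdisj
  have hPA : P.under A = p := IsLocalization.under_map_of_isPrime_disjoint q.primeCompl L inferInstance hdisj
  have hPm : P ≤ IsLocalRing.maximalIdeal L := IsLocalRing.le_maximalIdeal hP.ne_top
  haveI : q₀.LiesOver (IsLocalRing.maximalIdeal L) := ⟨hq₀L.symm⟩
  haveI : Algebra.HasGoingDown L C := inferInstance
  obtain ⟨p₁, hp₁, hp₁p, hp₁L⟩ := q₀.exists_ideal_le_liesOver_of_le (p := P) (q := IsLocalRing.maximalIdeal L) hPm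
  obtain ⟨p', hp', hp'le⟩ := Ideal.exists_minimalPrimes_le (I := P.map (algebraMap L C)) (J := p₁)
    (Ideal.map_le_iff_le_comap.2 hp₁L.over.le)
  haveI := hp'.isPrime
  have hp'L : p'.under L = P := le_antisymm ((Ideal.comap_mono hp'le).trans hp₁L.over.ge)
    (Ideal.map_le_iff_le_comap.1 hp'.le)
  have hp'A : p'.under A = p := by
    rw [← hPA, ← hp'L, Ideal.under_under]
  have hnot : ¬ I.map (algebraMap A C) ≤ p' := fun h => hIp (by rw [← hp'A]; exact Ideal.map_le_iff_le_comap.1 h)
  have hmax : ∀ q' : PrimeSpectrum C, (⟨p', inferInstance⟩ : PrimeSpectrum C) ≤ q' →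
      I.map (algebraMap A C) ≤ q'.asIdeal → q'.asIdeal.IsMaximal := by
    intro q' hle hI'
    have hqA : q'.asIdeal.under A = q := honly _ inferInstance (hp'A ▸ Ideal.comap_mono hle) (by
      rw [← Ideal.under_under (B := L)]
      exact (Ideal.comap_mono (IsLocalRing.le_maximalIdeal (Ideal.IsPrime.ne_top inferInstance))).trans
        (le_of_eq Localization.AtPrime.under_maximalIdeal)) (Ideal.map_le_iff_le_comap.1 hI')
    have hqL : IsLocalRing.maximalIdeal L ≤ q'.asIdeal.under L := by
      rw [← Localization.AtPrime.map_eq_maximalIdeal, Ideal.map_le_iff_le_comap]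
      exact le_of_eq (hqA.symm.trans (Ideal.under_under (B := L) q'.asIdeal).symm)
    have : q₀ ≤ q'.asIdeal := fun x hx => by
      obtain ⟨l, hl⟩ := Ideal.Quotient.mk_surjective (f x)
      have h1 : x - algebraMap L C l ∈ q'.asIdeal := by
        have h2 : x - algebraMap L C l ∈ RingHom.ker f := by
          rw [RingHom.mem_ker, map_sub, AlgHom.commutes, ← hl]; exact sub_self _
        rw [hker, Ideal.map_map, ← IsScalarTower.algebraMap_eq] at h2
        exact hI' h2
      have h3 : l ∈ IsLocalRing.maximalIdeal L := by
        have h4 : f x ∈ (IsLocalRing.maximalIdeal L).map (Ideal.Quotient.mk (J ^ 1)) := hx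
        rw [← hl, ← Ideal.mem_comap, Ideal.comap_map_of_surjective _ Ideal.Quotient.mk_surjective,
          ← RingHom.ker_eq_comap_bot, Ideal.mk_ker, sup_eq_left.2 hJm] at h4
        exact h4
      simpa using q'.asIdeal.add_mem h1 (hqL h3)
    exact hq₀.eq_of_le q'.2.ne_top this ▸ hq₀
  refine (h6 ⟨p', inferInstance⟩ hnot hmax).trans_le (le_of_eq ?_)
  -- compare the depths
  let B := Localization.AtPrime p'
  haveI : p'.LiesOver p := ⟨hp'A.symm⟩
  let ρ := Localization.localRingHom p p' (algebraMap A C) hp'A.symm
  letI : Algebra (Localization.AtPrime p) B := ρ.toAlgebra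
  haveI : IsScalarTower A (Localization.AtPrime p) B := IsScalarTower.of_algebraMap_eq fun a => by
    rw [IsScalarTower.algebraMap_apply A C B]
    exact (Localization.localRingHom_to_map p p' (algebraMap A C) hp'A.symm a).symm
  haveI : IsLocalHom (algebraMap (Localization.AtPrime p) B) :=
    Localization.isLocalHom_localRingHom p p' (algebraMap A C) hp'A.symm
  haveI : Module.Flat C B := IsLocalization.flat B p'.primeCompl
  haveI : Module.Flat A B := Module.Flat.trans A C B
  haveI : Module.Flat (Localization.AtPrime p) B :=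
    (Module.flat_iff_of_isLocalization (Localization.AtPrime p) p.primeCompl B).2 inferInstance
  haveI : IsNoetherianRing (Localization.AtPrime p) := IsLocalization.isNoetherianRing p.primeCompl _ inferInstance
  haveI : IsNoetherianRing B := IsLocalization.isNoetherianRing p'.primeCompl _ inferInstance
  haveI : Module.Finite (Localization.AtPrime p) (LocalizedModule p.primeCompl M) :=
    Module.Finite.of_isLocalizedModule p.primeCompl (LocalizedModule.mkLinearMap p.primeCompl M)
  rw [← depth_baseChange_of_fibre_zero (A := Localization.AtPrime p) (B := B) (fun Q hQ hle => ?_)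
    (LocalizedModule p.primeCompl M)]
  · let N := LocalizedModule q.primeCompl M
    haveI : Module.Finite L N := Module.Finite.of_isLocalizedModule q.primeCompl (LocalizedModule.mkLinearMap q.primeCompl M)
    haveI : IsScalarTower A C (AdicCompletion J N) := IsScalarTower.of_algebraMap_smul fun a x => by
      rw [IsScalarTower.algebraMap_apply A L C, IsScalarTower.algebraMap_smul (R := L) C,
        IsScalarTower.algebraMap_smul (R := A) L]
    have b1 := (IsLocalizedModule.isBaseChange q.primeCompl L (LocalizedModule.mkLinearMap q.primeCompl M)).comp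
      (isBaseChange_of J N)
    have b2 := b1.comp (IsLocalizedModule.isBaseChange p'.primeCompl B
      (LocalizedModule.mkLinearMap p'.primeCompl (AdicCompletion J N)))
    have b3 := (IsLocalizedModule.isBaseChange p.primeCompl (Localization.AtPrime p)
      (LocalizedModule.mkLinearMap p.primeCompl M)).comp
        (TensorProduct.isBaseChange (Localization.AtPrime p) (LocalizedModule p.primeCompl M) B)
    exact DepthLib.depth_congr (b2.equiv.symm ≪≫ₗ b3.equiv)
  · haveI := hQ
    have h1 : Q.under C ≤ p' := (Ideal.comap_mono (IsLocalRing.le_maximalIdeal hQ.ne_top)).trans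
      (le_of_eq Localization.AtPrime.under_maximalIdeal)
    have h2 : P.map (algebraMap L C) ≤ Q.under C := by
      rw [Ideal.map_map, ← IsScalarTower.algebraMap_eq, Ideal.map_le_iff_le_comap]
      intro a ha
      show algebraMap C B (algebraMap A C a) ∈ Q
      rw [← IsScalarTower.algebraMap_apply, IsScalarTower.algebraMap_apply A (Localization.AtPrime p) B]
      exact hle (Ideal.mem_map_of_mem _ (by
        rw [← Localization.AtPrime.map_eq_maximalIdeal]; exact Ideal.mem_map_of_mem _ ha))
    have h3 : Q.under C = p' := le_antisymm h1 (hp'.2 ⟨inferInstance, h2⟩ h1)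
    refine le_antisymm (IsLocalRing.le_maximalIdeal hQ.ne_top) ?_
    rw [← Localization.AtPrime.map_eq_maximalIdeal, Ideal.map_le_iff_le_comap]
    exact h3.ge

/-- Depth above `s` when nothing of `V(I) ∖ T` lies between. -/
theorem lt_depth_of_no_prime_between {A : Type u} [CommRing A] [IsNoetherianRing A] (I : Ideal A) (M : Type u)
    [AddCommGroup M] [Module A M] [Module.Finite A M] (T : Set (PrimeSpectrum A))
    (hTI : T ⊆ PrimeSpectrum.zeroLocus (I : Set A)) (s : ℕ∞)
    (h6 : ∀ q : PrimeSpectrum A, q ∈ T →
      ∀ p' : PrimeSpectrum (AdicCompletion (I.map (algebraMap A (Localization.AtPrime q.asIdeal))) (Localization.AtPrime q.asIdeal)),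
      ¬ (I.map (algebraMap A (AdicCompletion (I.map (algebraMap A (Localization.AtPrime q.asIdeal))) (Localization.AtPrime q.asIdeal)))) ≤ p'.asIdeal →
      (∀ q' : PrimeSpectrum (AdicCompletion (I.map (algebraMap A (Localization.AtPrime q.asIdeal))) (Localization.AtPrime q.asIdeal)),
        p' ≤ q' → (I.map (algebraMap A (AdicCompletion (I.map (algebraMap A (Localization.AtPrime q.asIdeal))) (Localization.AtPrime q.asIdeal)))) ≤ q'.asIdeal →
          q'.asIdeal.IsMaximal) →
      s < LocCoh.depth (Localization.AtPrime p'.asIdeal) (LocalizedModule p'.asIdeal.primeCompl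
        (AdicCompletion (I.map (algebraMap A (Localization.AtPrime q.asIdeal))) (LocalizedModule q.asIdeal.primeCompl M))))
    (p q : PrimeSpectrum A) (hpq : p ≤ q) (hp : ¬ I ≤ p.asIdeal) (hq : q ∈ T)
    (hr : ∀ r : PrimeSpectrum A, p ≤ r → r ≤ q → I ≤ r.asIdeal → r ∈ T) :
    s < LocCoh.depth (Localization.AtPrime p.asIdeal) (LocalizedModule p.asIdeal.primeCompl M) := by
  have key : ∀ n : ℕ, ∀ q : PrimeSpectrum A, q.asIdeal.height ≤ n → p ≤ q → q ∈ T →
      (∀ r : PrimeSpectrum A, p ≤ r → r ≤ q → I ≤ r.asIdeal → r ∈ T) →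
      s < LocCoh.depth (Localization.AtPrime p.asIdeal) (LocalizedModule p.asIdeal.primeCompl M) := by
    intro n
    induction n using Nat.strong_induction_on with
    | _ n ih =>
      intro q hn hpq hq hr
      by_cases h : ∀ r : Ideal A, r.IsPrime → p.asIdeal ≤ r → r ≤ q.asIdeal → I ≤ r → r = q.asIdeal
      · exact lt_depth_of_completion I M s p.asIdeal q.asIdeal hpq hp (hTI hq) h (h6 q hq)
      · push Not at h
        obtain ⟨r, hrp, h1, h2, h3, h4⟩ := h
        haveI := hrp
        have hlt := Ideal.height_strict_mono_of_isPrime (lt_of_le_of_ne h2 h4)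
        obtain ⟨m, hm⟩ := ENat.ne_top_iff_exists.mp (Ideal.height_ne_top (I := r) hrp.ne_top)
        refine ih m ?_ ⟨r, hrp⟩ hm.ge h1 (hr ⟨r, hrp⟩ h1 h2 h3) fun r' e1 e2 e3 => hr r' e1 (e2.trans h2) e3
        rw [← hm] at hlt
        exact_mod_cast hlt.trans_le hn
  obtain ⟨n, hn⟩ := ENat.ne_top_iff_exists.mp (Ideal.height_ne_top (I := q.asIdeal) q.2.ne_top)
  exact key n q hn.ge hpq hq hr

end Groth.Agent.DualCx
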