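import Groth.Agent.DualCx.LocEH
import Groth.Agent.DepthLib.Reduced
import Groth.Agent.DepthLib.CohenMacaulay

/-!
# The Cohen-Macaulay locus in the presence of a dualizing complex
-/

set_option autoImplicit false
set_option linter.style.haveILetI false

open CategoryTheory CategoryTheory.Limits

universe u

attribute [local instance] HasDerivedCategory.standard

namespace Groth.Agent.DualCx

variable {A : Type u} [CommRing A] [IsNoetherianRing A] {ω : Dual.D A} {W : DRing.Cx A} [W.IsKInjective]
  [∀ i, Injective (W.X i)] (a b : ℤ)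

omit [W.IsKInjective] [∀ i, Injective (W.X i)] in
theorem subsingleton_of_not_support (M : Type u) [AddCommGroup M] [Module A M] [Module.Finite A M]
    (p : PrimeSpectrum A) (h : p ∉ Module.support A M) (i : ℤ) : p ∉ Module.support A (EH W M i) := fun hp => by
  rw [mem_support_EH_iff] at hp
  haveI : Subsingleton (LocalizedModule p.asIdeal.primeCompl M) := Module.notMem_support_iff.1 h
  haveI : Subsingleton (EH (WAt W p.asIdeal) (LocalizedModule p.asIdeal.primeCompl M) i) :=
    subsingleton_of_forall_eq 0 fun x => by
      have := smul_eq_zero_of_killed (WAt W p.asIdeal) (ModuleCat.of _ (LocalizedModule p.asIdeal.primeCompl M))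
        (a := 1) (fun x => Subsingleton.elim _ _) i x
      rwa [one_smul] at this
  exact not_nontrivial _ hp

/-- Cohen-Macaulay exactly when a single dual survives. -/
theorem cm_iff (hω : Dual.IsDualizing A ω) (hzero : ∀ i, (i < a ∨ b < i) → IsZero (W.X i))
    (e : DerivedCategory.Q.obj W ≅ ω) (M : Type u) [AddCommGroup M] [Module A M] [Module.Finite A M]
    (p : PrimeSpectrum A) :
    (Subsingleton (LocalizedModule p.asIdeal.primeCompl M) ∨ LocCoh.IsCohenMacaulayModule
      (Localization.AtPrime p.asIdeal) (LocalizedModule p.asIdeal.primeCompl M)) ↔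
    ∀ i j, p ∈ Module.support A (EH W M i) → p ∈ Module.support A (EH W M j) → i = j := by
  let B := Localization.AtPrime p.asIdeal
  let N := LocalizedModule p.asIdeal.primeCompl M
  haveI : IsNoetherianRing B := IsLocalization.isNoetherianRing p.asIdeal.primeCompl _ inferInstance
  haveI : Module.Finite B N :=
    Module.Finite.of_isLocalizedModule p.asIdeal.primeCompl (LocalizedModule.mkLinearMap p.asIdeal.primeCompl M)
  by_cases hp : p ∈ Module.support A M
  swap
  · exact iff_of_true (Or.inl (Module.notMem_support_iff.1 hp))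
      fun i j hi => absurd hi (subsingleton_of_not_support M p hp i)
  haveI : Nontrivial N := Module.mem_support_iff.1 hp
  obtain ⟨n, hn, -, -⟩ := exists_residual_at a b hω hzero e p.asIdeal
  obtain ⟨k, hk⟩ := DepthLib.exists_nat_depth (R := B) N
  obtain ⟨d, hd⟩ := DepthLib.exists_nat_supportDim (R := B) N
  obtain ⟨h1, h2⟩ := hn.depth_spec k N hk
  have htop := hn.nontrivial_top N d hd
  rw [or_iff_right (not_subsingleton N), LocCoh.IsCohenMacaulayModule, hd, hk]
  refine ⟨fun h i j hi hj => ?_, fun h => ?_⟩
  · obtain rfl : d = k := by exact_mod_cast h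
    have key : ∀ l, p ∈ Module.support A (EH W M l) → l = n - d := fun l hl => by
      rw [mem_support_EH_iff] at hl
      by_contra hne
      rcases lt_or_gt_of_ne hne with hlt | hlt
      · haveI := hn.lower N d hd.le l hlt
        exact not_nontrivial _ hl
      · haveI := h1 l hlt
        exact not_nontrivial _ hl
    rw [key i hi, key j hj]
  · have he := h (n - d) (n - k) ((mem_support_EH_iff W M p _).2 htop) ((mem_support_EH_iff W M p _).2 h2)
    obtain rfl : d = k := by omega
    rfl

theorem isOpen_cm (hω : Dual.IsDualizing A ω) (hzero : ∀ i, (i < a ∨ b < i) → IsZero (W.X i))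
    (e : DerivedCategory.Q.obj W ≅ ω) (M : Type u) [AddCommGroup M] [Module A M] [Module.Finite A M] :
    IsOpen {p : PrimeSpectrum A | Subsingleton (LocalizedModule p.asIdeal.primeCompl M) ∨
      LocCoh.IsCohenMacaulayModule (Localization.AtPrime p.asIdeal) (LocalizedModule p.asIdeal.primeCompl M)} := by
  simp only [cm_iff a b hω hzero e M]
  rw [← isClosed_compl_iff]
  have hset : {p : PrimeSpectrum A | ∀ i j, p ∈ Module.support A (EH W M i) → p ∈ Module.support A (EH W M j) → i = j}ᶜ =
      ⋃ t ∈ (Finset.Icc a b ×ˢ Finset.Icc a b).filter (fun t => t.1 ≠ t.2),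
        (Module.support A (EH W M t.1) ∩ Module.support A (EH W M t.2)) := by
    ext p
    simp only [Set.mem_compl_iff, Set.mem_setOf_eq, Set.mem_iUnion, Set.mem_inter_iff, Finset.mem_filter,
      Finset.mem_product, Finset.mem_Icc]
    have hin : ∀ l, p ∈ Module.support A (EH W M l) → a ≤ l ∧ l ≤ b := fun l hl => by
      by_contra hout
      haveI := subsingleton_dual_of_isZero (hzero l (by omega)) (ModuleCat.of A M)
      rw [Module.support_eq_empty] at hl
      exact hl
    refine ⟨fun h => ?_, fun ⟨t, ⟨_, hne⟩, hi, hj⟩ h => hne (h _ _ hi hj)⟩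
    push Not at h
    obtain ⟨i, j, hi, hj, hne⟩ := h
    exact ⟨(i, j), ⟨⟨hin i hi, hin j hj⟩, hne⟩, hi, hj⟩
  rw [hset]
  refine Set.Finite.isClosed_biUnion (Finset.finite_toSet _) fun t _ => ?_
  haveI := fun i => finite_dual a (fun l hl => hzero l (Or.inl hl)) (finite_homology_model e hω.finite_cohomology)
    (ModuleCat.of A M) i
  refine IsClosed.inter ?_ ?_
  · rw [Module.support_eq_zeroLocus]
    exact PrimeSpectrum.isClosed_zeroLocus _
  · rw [Module.support_eq_zeroLocus]
    exact PrimeSpectrum.isClosed_zeroLocus _

omit [IsNoetherianRing A] [W.IsKInjective] [∀ i, Injective (W.X i)] in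
theorem exists_minimal_support (M : Type u) [AddCommGroup M] [Module A M] [Module.Finite A M]
    {p : PrimeSpectrum A} (hp : p ∈ Module.support A M) : ∃ q ∈ Module.support A M, q ≤ p ∧
      ∀ r ∈ Module.support A M, r ≤ q → r = q := by
  rw [Module.mem_support_iff_of_finite] at hp
  obtain ⟨q, hq, hle⟩ := Ideal.exists_minimalPrimes_le hp
  refine ⟨⟨q, hq.1.1⟩, Module.mem_support_iff_of_finite.2 hq.1.2, hle, fun r hr hrq => PrimeSpectrum.ext ?_⟩
  exact le_antisymm hrq (hq.2 ⟨r.2, Module.mem_support_iff_of_finite.1 hr⟩ hrq)

omit [W.IsKInjective] [∀ i, Injective (W.X i)] in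
theorem isCohenMacaulayModule_minimal (M : Type u) [AddCommGroup M] [Module A M] [Module.Finite A M]
    {q : PrimeSpectrum A} (hq : q ∈ Module.support A M) (hmin : ∀ r ∈ Module.support A M, r ≤ q → r = q) :
    LocCoh.IsCohenMacaulayModule (Localization.AtPrime q.asIdeal) (LocalizedModule q.asIdeal.primeCompl M) := by
  let B := Localization.AtPrime q.asIdeal
  let N := LocalizedModule q.asIdeal.primeCompl M
  haveI : IsNoetherianRing B := IsLocalization.isNoetherianRing q.asIdeal.primeCompl _ inferInstance
  haveI : Module.Finite B N :=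
    Module.Finite.of_isLocalizedModule q.asIdeal.primeCompl (LocalizedModule.mkLinearMap q.asIdeal.primeCompl M)
  haveI : Nontrivial N := Module.mem_support_iff.1 hq
  obtain ⟨k, hk⟩ := DepthLib.exists_nat_depth (R := B) N
  obtain ⟨d, hd⟩ := DepthLib.exists_nat_supportDim (R := B) N
  have hd0 : d = 0 := by
    have h : Module.supportDim B N ≤ ((0 : ℕ) : WithBot ℕ∞) := supportDim_le_iff.2 fun P hP => by
      have hP' := Module.mem_support_iff_of_finite.1 hP
      have hc : (⟨P.asIdeal.comap (algebraMap A B), inferInstance⟩ : PrimeSpectrum A) ∈ Module.support A M := by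
        refine Module.mem_support_iff_of_finite.2 fun x hx => hP' (Module.mem_annihilator.2 fun v => ?_)
        rw [algebraMap_smul]
        induction v using LocalizedModule.induction_on with
        | h m s => rw [LocalizedModule.smul'_mk, Module.mem_annihilator.1 hx, LocalizedModule.zero_mk]
      have hle : P.asIdeal.comap (algebraMap A B) ≤ q.asIdeal := fun x hx => by
        by_contra hxq
        exact P.2.ne_top (P.asIdeal.eq_top_of_isUnit_mem hx (IsLocalization.map_units B (⟨x, hxq⟩ : q.asIdeal.primeCompl)))
      have heq : P.asIdeal.comap (algebraMap A B) = q.asIdeal := congrArg PrimeSpectrum.asIdeal (hmin _ hc hle)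
      have hmax : P.asIdeal = IsLocalRing.maximalIdeal B := by
        refine (IsLocalization.map_under q.asIdeal.primeCompl B P.asIdeal).symm.trans ?_
        exact (congrArg (Ideal.map (algebraMap A B)) heq).trans (IsLocalization.AtPrime.map_eq_maximalIdeal q.asIdeal B)
      rw [hmax, ringKrullDim_eq_zero_of_isField ((Ideal.Quotient.maximal_ideal_iff_isField_quotient _).1 inferInstance)]
      exact le_rfl
    rw [hd] at h
    exact Nat.le_zero.1 (by exact_mod_cast h)
  have hkd := DepthLib.depth_le_supportDim (R := B) N
  rw [hd, hk] at hkd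
  rw [LocCoh.IsCohenMacaulayModule, hd, hk]
  obtain rfl : k = d := by
    have : k ≤ d := by exact_mod_cast hkd
    omega
  rfl

omit [W.IsKInjective] [∀ i, Injective (W.X i)] in
theorem support_subset_closure_cm (M : Type u) [AddCommGroup M] [Module A M] [Module.Finite A M] :
    Module.support A M ⊆ closure ({p : PrimeSpectrum A | LocCoh.IsCohenMacaulayModule (Localization.AtPrime p.asIdeal)
      (LocalizedModule p.asIdeal.primeCompl M)} ∩ Module.support A M) := fun p hp => by
  obtain ⟨q, hq, hle, hmin⟩ := exists_minimal_support M hp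
  have hmem : q ∈ {p : PrimeSpectrum A | LocCoh.IsCohenMacaulayModule (Localization.AtPrime p.asIdeal)
      (LocalizedModule p.asIdeal.primeCompl M)} ∩ Module.support A M := ⟨isCohenMacaulayModule_minimal M hq hmin, hq⟩
  exact closure_mono (Set.singleton_subset_iff.2 hmem)
    ((PrimeSpectrum.le_iff_mem_closure q p).1 hle)

omit [W.IsKInjective] [∀ i, Injective (W.X i)] in
theorem cm_ring_iff (p : PrimeSpectrum A) : LocCoh.IsCohenMacaulayLocalRing (Localization.AtPrime p.asIdeal) ↔
    LocCoh.IsCohenMacaulayModule (Localization.AtPrime p.asIdeal) (LocalizedModule p.asIdeal.primeCompl A) := by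
  haveI : IsNoetherianRing (Localization.AtPrime p.asIdeal) :=
    IsLocalization.isNoetherianRing p.asIdeal.primeCompl _ inferInstance
  rw [DepthLib.isCohenMacaulayModule_congr (DepthLib.localizedSelfEquiv p.asIdeal)]
  exact ⟨fun h => h.supportDim_eq_depth, fun h => { supportDim_eq_depth := h }⟩

end Groth.Agent.DualCx
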