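import Groth.Agent.DualCx.Basic
import Mathlib.Algebra.Homology.DerivedCategory.Ext.Basic
import Mathlib.CategoryTheory.Abelian.Injective.Dimension

/-!
# The ring as a dualizing complex
-/

set_option autoImplicit false
set_option linter.style.haveILetI false

open CategoryTheory CategoryTheory.Limits DerivedCategory

universe u

attribute [local instance] HasDerivedCategory.standard

namespace Groth.Agent.DualCx

variable {A : Type u} [CommRing A]

theorem subsingleton_hom_inD_neg (M N : Type u) [AddCommGroup M] [Module A M] [AddCommGroup N] [Module A N]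
    (i : ℤ) (hi : i < 0) : Subsingleton (Dual.inD A M ⟶ (Dual.inD A N)⟦i⟧) := by
  haveI : ((Dual.inD A N)⟦i⟧).IsGE (-i) := (TStructure.t (C := ModuleCat.{u} A)).isGE_shift _ 0 i (-i) (by omega)
  exact subsingleton_of_forall_eq 0 fun f =>
    (TStructure.t (C := ModuleCat.{u} A)).zero f 0 (-i) (by omega)

theorem finite_injDim_inD {n : ℕ} (h : HasInjectiveDimensionLT (ModuleCat.of A A) n) :
    ∃ a b : ℤ, ∀ (M : Type u) [AddCommGroup M] [Module A M] (i : ℤ),
      (i < a ∨ b < i) → Subsingleton (Dual.inD A M ⟶ (Dual.inD A A)⟦i⟧) := by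
  refine ⟨0, n, fun M _ _ i hi => ?_⟩
  rcases hi with hi | hi
  · exact subsingleton_hom_inD_neg M A i hi
  · obtain ⟨j, rfl⟩ : ∃ j : ℕ, i = j := ⟨i.toNat, by omega⟩
    haveI : Subsingleton (Abelian.Ext.{u} (ModuleCat.of A M) (ModuleCat.of A A) j) :=
      @CategoryTheory.HasInjectiveDimensionLT.subsingleton _ _ _ _ _ n h j (by omega) _
    exact (Abelian.Ext.homEquiv (X := ModuleCat.of A M) (Y := ModuleCat.of A A) (n := j)).symm.subsingleton

theorem isDualizing_self [IsNoetherianRing A] {n : ℕ} (h : HasInjectiveDimensionLT (ModuleCat.of A A) n) :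
    Dual.IsDualizing A (Dual.inD A A) where
  isNoetherianRing := inferInstance
  finite_injective_dimension := finite_injDim_inD h
  finite_cohomology i := by
    by_cases hi : i = 0
    · subst hi
      haveI : Module.Finite A ((𝟭 (ModuleCat.{u} A)).obj (ModuleCat.of A A)) := inferInstanceAs (Module.Finite A A)
      exact Module.Finite.equiv ((singleFunctorCompHomologyFunctorIso (ModuleCat.{u} A) 0).app
        (ModuleCat.of A A)).toLinearEquiv.symm
    · haveI : Subsingleton (Dual.HD A (Dual.inD A A) i) := ModuleCat.subsingleton_of_isZero (by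
        rcases lt_or_gt_of_ne hi with hi | hi
        · exact DerivedCategory.isZero_of_isGE _ 0 i hi
        · exact DerivedCategory.isZero_of_isLE _ 0 i hi)
      exact Module.Finite.of_finite
  toEnd_bijective := by
    let F := singleFunctor (ModuleCat.{u} A) 0
    have h1 : Function.Bijective (fun a : A => a • 𝟙 (ModuleCat.of A A)) := by
      refine ⟨fun a b hab => ?_, fun f => ⟨f.hom (1 : A), ModuleCat.hom_ext (LinearMap.ext_ring ?_)⟩⟩
      · have := ConcreteCategory.congr_hom hab (1 : A)
        simpa using this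
      · exact mul_one (f.hom (1 : A))
    have h2 : (fun a : A => a • 𝟙 (Dual.inD A A)) = fun a => F.map (a • 𝟙 (ModuleCat.of A A)) := funext fun a => by
      rw [Functor.map_smul, F.map_id]
    rw [h2]
    exact Function.Bijective.comp ⟨F.map_injective, F.map_surjective⟩ h1
  ext_self_subsingleton i hi := by
    obtain ⟨W, a, b, hW, -, -, ⟨e⟩⟩ := exists_model (finite_injDim_inD h)
    haveI := hW
    have h0 : IsZero ((DerivedCategory.homologyFunctor (ModuleCat.{u} A) i).obj (Dual.inD A A)) := by
      rcases lt_or_gt_of_ne hi with hi | hi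
      · exact DerivedCategory.isZero_of_isGE _ 0 i hi
      · exact DerivedCategory.isZero_of_isLE _ 0 i hi
    have h1 : IsZero ((dCx W (ModuleCat.of A A)).homology i) := h0.of_iso
      ((HomologicalComplex.homologyFunctor (ModuleCat.{u} A) (ComplexShape.up ℤ) i).mapIso (dSelfIso W) ≪≫
        ((DerivedCategory.homologyFunctorFactors (ModuleCat.{u} A) i).app W).symm ≪≫
        (DerivedCategory.homologyFunctor (ModuleCat.{u} A) i).mapIso e)
    haveI := ModuleCat.subsingleton_of_isZero h1
    exact (homIso W e (ModuleCat.of A A) i).toEquiv.subsingleton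

theorem exists_injDim_of_isDualizing {ω : Dual.D A} (hω : Dual.IsDualizing A ω) (e : ω ≅ Dual.inD A A) :
    ∃ n : ℕ, HasInjectiveDimensionLT (ModuleCat.of A A) n := by
  obtain ⟨a, b, h⟩ := hω.finite_injective_dimension
  refine ⟨(b + 1).toNat, (hasInjectiveDimensionLT_iff (ModuleCat.of A A) (b + 1).toNat).2 fun i hi Y α => ?_⟩
  haveI := h Y (i : ℤ) (Or.inr (by omega))
  haveI : Subsingleton ((singleFunctor (ModuleCat.{u} A) 0).obj Y ⟶ (Dual.inD A A)⟦(i : ℤ)⟧) :=
    ((Iso.homCongr (Iso.refl _) ((CategoryTheory.shiftFunctor (Dual.D A) (i : ℤ)).mapIso e)).symm).subsingleton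
  exact Abelian.Ext.homEquiv.injective (Subsingleton.elim _ _)

end Groth.Agent.DualCx
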