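import Groth.Agent.DualCx.Unique

/-!
# A residual criterion for dualizing complexes over local rings
-/

set_option autoImplicit false
set_option linter.style.haveILetI false

open CategoryTheory CategoryTheory.Limits CategoryTheory.Pretriangulated DerivedCategory

universe u

attribute [local instance] HasDerivedCategory.standard

namespace Groth.Agent.DualCx

open LD Groth.Agent.LocCohLib Groth.Agent.RGamma

variable {A : Type u} [CommRing A] [IsLocalRing A] [IsNoetherianRing A]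

local notation "𝔪" => IsLocalRing.maximalIdeal A

variable {W : DRing.Cx A} [W.IsKInjective] {ω : Dual.D A}

theorem isNormalized_of_residual (e : DerivedCategory.Q.obj W ≅ ω) (hW : IsResidual W 0) :
    Dual.IsNormalized A ω := fun i hi => by
  haveI := hW.residue i hi
  exact (homIso W e (ModuleCat.of A (A ⧸ 𝔪)) i).toEquiv.subsingleton

theorem P_of_residual [DRing.HasRgammaI 𝔪] (e : DerivedCategory.Q.obj W ≅ ω) (hW : IsResidual W 0)
    (hk : Nonempty ((dCx W (ModuleCat.of A (A ⧸ 𝔪))).homology 0 ≃ₗ[A] (A ⧸ 𝔪)))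
    (a b : ℤ) (hzero : ∀ i, (i < a ∨ b < i) → IsZero (W.X i)) (hfinω : ∀ i : ℤ, Module.Finite A (Dual.HD A ω i))
    (M : Dual.D A) (hfin : ∀ i : ℤ, Module.Finite A (Dual.HD A M i))
    (hex : ∃ c d : ℤ, ∀ i : ℤ, (i < c ∨ d < i) → Subsingleton (Dual.HD A M i)) : P 𝔪 e M := by
  haveI := hW.injective
  haveI := hW.injective_H0
  have hn := isNormalized_of_residual e hW
  obtain ⟨c, d, hbd⟩ := hex
  have hmod : ∀ (N : Type u) [AddCommGroup N] [Module A N] [Module.Finite A N],
      P 𝔪 e ((singleFunctor (ModuleCat.{u} A) 0).obj (ModuleCat.of A N)) := by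
    intro N _ _ _
    refine devissage (fun (N : Type u) (_ : AddCommGroup N) (_ : Module A N) (_ : Module.Finite A N) =>
      P 𝔪 e ((singleFunctor (ModuleCat.{u} A) 0).obj (ModuleCat.of A N))) ?_ ?_ ?_ N
    · intro N _ _ _ _
      exact P.of_isZero 𝔪 e (Functor.map_isZero _ (ModuleCat.isZero_of_subsingleton _))
    · intro N₁ _ _ _ N₂ _ _ _ N₃ _ _ _ f g hf hg hfg h₁ h₃
      let S : ShortComplex (ModuleCat.{u} A) := ShortComplex.mk (ModuleCat.ofHom f) (ModuleCat.ofHom g)
        (ModuleCat.hom_ext hfg.linearMap_comp_eq_zero)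
      have hS : S.ShortExact :=
        { exact := (ShortComplex.ShortExact.moduleCat_exact_iff_function_exact S).2 hfg
          mono_f := (ModuleCat.mono_iff_injective _).2 hf
          epi_g := (ModuleCat.epi_iff_surjective _).2 hg }
      exact P.mid 𝔪 e hS.singleTriangle_distinguished h₁ h₃
    · intro p hp hind
      by_cases hpm : p = 𝔪
      · subst hpm
        exact P.residue e hW hn hk
      · obtain ⟨x, hxm, hxp⟩ := SetLike.exists_of_lt ((IsLocalRing.le_maximalIdeal hp.ne_top).lt_of_ne hpm)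
        let f : (A ⧸ p) →ₗ[A] A ⧸ p := x • LinearMap.id
        have hf : Function.Injective f := (injective_iff_map_eq_zero _).2 fun v hv => by
          obtain ⟨r, rfl⟩ := Submodule.Quotient.mk_surjective p v
          have h : x * r ∈ p := (Submodule.Quotient.mk_eq_zero p).1 hv
          exact (Submodule.Quotient.mk_eq_zero p).2 ((hp.mem_or_mem h).resolve_left hxp)
        let S : ShortComplex (ModuleCat.{u} A) := ShortComplex.mk (x • 𝟙 (ModuleCat.of A (A ⧸ p)))
          (ModuleCat.ofHom (LinearMap.range f).mkQ)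
          (ModuleCat.hom_ext (LinearMap.ext fun v => (Submodule.Quotient.mk_eq_zero _).2 ⟨v, rfl⟩))
        have hS : S.ShortExact :=
          { exact := (ShortComplex.ShortExact.moduleCat_exact_iff_function_exact S).2 fun v =>
              ⟨fun hv => (Submodule.Quotient.mk_eq_zero _).1 hv, by
                rintro ⟨w, rfl⟩
                exact (Submodule.Quotient.mk_eq_zero _).2 ⟨w, rfl⟩⟩
            mono_f := (ModuleCat.mono_iff_injective _).2 hf
            epi_g := (ModuleCat.epi_iff_surjective _).2 (Submodule.mkQ_surjective _) }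
        have hQ : P 𝔪 e ((singleFunctor (ModuleCat.{u} A) 0).obj (ModuleCat.of A ((A ⧸ p) ⧸ LinearMap.range f))) := by
          refine hind (p ⊔ Ideal.span {x}) (lt_of_le_of_ne le_sup_left fun h => hxp (h.symm ▸
            Ideal.mem_sup_right (Ideal.mem_span_singleton_self x))) _ (sup_le ?_ ?_)
          · intro a ha
            refine Module.mem_annihilator.2 fun v => ?_
            obtain ⟨v, rfl⟩ := Submodule.Quotient.mk_surjective _ v
            obtain ⟨r, rfl⟩ := Submodule.Quotient.mk_surjective p v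
            rw [← Submodule.Quotient.mk_smul, ← Submodule.Quotient.mk_smul, smul_eq_mul,
              (Submodule.Quotient.mk_eq_zero p).2 (p.mul_mem_right r ha), Submodule.Quotient.mk_zero]
          · rw [Ideal.span_singleton_le_iff_mem]
            refine Module.mem_annihilator.2 fun v => ?_
            obtain ⟨v, rfl⟩ := Submodule.Quotient.mk_surjective _ v
            exact (Submodule.Quotient.mk_eq_zero _).2 ⟨v, rfl⟩
        have hT : Triangle.mk ((singleFunctor (ModuleCat.{u} A) 0).map (x • 𝟙 (ModuleCat.of A (A ⧸ p))))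
            ((singleFunctor (ModuleCat.{u} A) 0).map S.g) hS.singleδ ∈ distTriang (Dual.D A) :=
          hS.singleTriangle_distinguished
        rw [Functor.map_smul, CategoryTheory.Functor.map_id] at hT
        exact P.of_smul_triangle 𝔪 e hxm _ _ hT hQ
          (finite_hom e hW a (fun i hi => hzero i (Or.inl hi)) hfinω _)
          (exists_pow_smul_eq_zero 𝔪 W)
  refine der_devissage (P 𝔪 e) (fun f h => h.of_iso 𝔪 e f) (fun h => P.of_isZero 𝔪 e h)
    (fun T hT h₁ h₃ => P.mid 𝔪 e hT h₁ h₃) (d + 1 - c).toNat c M (fun i hi => ?_) fun i _ _ => ?_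
  · haveI := hbd i (by omega)
    exact ModuleCat.isZero_of_subsingleton _
  · haveI := hfin i
    exact P.of_iso 𝔪 e (((CategoryTheory.shiftFunctor (Dual.D A) (-i)).mapIso (Iso.refl _)) ≪≫
      (PCohLib.singleShiftIso (-i) i 0 (by omega) (ModuleCat.of A (Dual.HD A M i)))) ((hmod (Dual.HD A M i)).shift 𝔪 e (-i))

theorem subsingleton_HDI_of_residual (e : DerivedCategory.Q.obj W ≅ ω) (hW : IsResidual W 0) (i : ℤ) (hi : i ≠ 0) :
    Subsingleton (Dual2.HDI A 𝔪 ω i) := by
  refine subsingleton_of_forall_eq 0 fun x => ?_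
  obtain ⟨n, v, rfl⟩ := exists_rep_colimit (diag i 𝔪 ω) x
  have hd : Module.supportDim A (A ⧸ 𝔪 ^ n) ≤ ((0 : ℕ) : WithBot ℕ∞) := supportDim_le_iff.2 fun p hp => by
    rw [Module.mem_support_iff_of_finite, Ideal.annihilator_quotient] at hp
    have hm : p.asIdeal = 𝔪 := le_antisymm (IsLocalRing.le_maximalIdeal p.2.ne_top) (p.2.le_of_pow_le hp)
    rw [hm, ringKrullDim_eq_zero_of_isField ((Ideal.Quotient.maximal_ideal_iff_isField_quotient _).1 inferInstance)]
    exact le_rfl
  haveI : Subsingleton (EH W (A ⧸ 𝔪 ^ n) i) := by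
    rcases lt_or_gt_of_ne hi with h | h
    · exact hW.lower (A ⧸ 𝔪 ^ n) 0 hd i (by omega)
    · exact hW.upper (A ⧸ 𝔪 ^ n) i h
  haveI : Subsingleton (sA 𝔪 n ⟶ ω⟦i⟧) := (homIso W e (ModuleCat.of A (A ⧸ 𝔪 ^ n)) i).toEquiv.subsingleton
  rw [show v = (0 : sA 𝔪 n ⟶ ω⟦i⟧) from @Subsingleton.elim (sA 𝔪 n ⟶ ω⟦i⟧) _ v 0]
  exact map_zero _

/-- A residual bounded injective complex with finite cohomology is a normalized dualizing complex. -/
theorem isDualizing_of_residual (e : DerivedCategory.Q.obj W ≅ ω) (hW : IsResidual W 0)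
    (hk : Nonempty ((dCx W (ModuleCat.of A (A ⧸ 𝔪))).homology 0 ≃ₗ[A] (A ⧸ 𝔪)))
    (a b : ℤ) (hzero : ∀ i, (i < a ∨ b < i) → IsZero (W.X i)) (hfinω : ∀ i : ℤ, Module.Finite A (Dual.HD A ω i)) :
    Dual.IsDualizing A ω ∧ Dual.IsNormalized A ω := by
  haveI : DRing.HasRgammaI 𝔪 := RGamma.hasRgammaI 𝔪
  haveI := hW.injective
  haveI := hW.injective_H0
  have hinj : ∀ (M : Type u) [AddCommGroup M] [Module A M] (i : ℤ), (i < a ∨ b < i) →
      Subsingleton (Dual.inD A M ⟶ ω⟦i⟧) := fun M _ _ i hi => by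
    haveI := subsingleton_dual_of_isZero (hzero i hi) (ModuleCat.of A M)
    exact (homIso W e (ModuleCat.of A M) i).toEquiv.subsingleton
  have hbd : ∀ i : ℤ, (i < a ∨ b < i) → Subsingleton (Dual.HD A ω i) := fun i hi =>
    ModuleCat.subsingleton_of_isZero ((ShortComplex.isZero_homology_of_isZero_X₂ _ (hzero i hi)).of_iso
      ((DerivedCategory.homologyFunctor (ModuleCat.{u} A) i).mapIso e.symm ≪≫
        (DerivedCategory.homologyFunctorFactors (ModuleCat.{u} A) i).app W))
  have hP := P_of_residual e hW hk a b hzero hfinω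
  obtain ⟨E, _, _, fE, hfE⟩ := MatlisLib.exists_hull (R := A) (IsLocalRing.ResidueField A)
  obtain ⟨g3⟩ := hW.exists_hull hk fE hfE
  obtain ⟨-, -, hfinH⟩ := good_of_finite (I := 𝔪) e a b hzero hP (fun M hfin ⟨c, d, hbd⟩ => by
    refine der_devissage (fun Y : Dual.D A => ∀ k : ℤ, Module.Finite A (Y⟦k⟧ ⟶ ω))
      (fun {Y Z} g h k => haveI := h k
        Module.Finite.equiv (Linear.homCongr A ((CategoryTheory.shiftFunctor (Dual.D A) k).mapIso g) (Iso.refl ω)))
      (fun {Y} h k => by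
        haveI : Subsingleton (Y⟦k⟧ ⟶ ω) := ⟨fun p q => (Functor.map_isZero _ h).eq_of_src p q⟩
        exact Module.Finite.of_finite)
      (fun T hT h₁ h₃ k => finite_hom_mid (Triangle.shift_distinguished T hT k) (h₁ k) (h₃ k))
      (d + 1 - c).toNat c M (fun j hj => ?_) fun j _ _ k => ?_
    · haveI := hbd j (by omega)
      exact ModuleCat.isZero_of_subsingleton _
    · haveI := hfin j
      haveI := finite_hom e hW a (fun q hq => hzero q (Or.inl hq)) hfinω
        (ModuleCat.of A (Dual.HD A M j)) (-j + k)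
      exact Module.Finite.equiv (Linear.homCongr A
        ((CategoryTheory.shiftFunctorAdd (Dual.D A) (-j) k).app _ ≪≫ (CategoryTheory.shiftFunctor (Dual.D A) k).mapIso
          (PCohLib.singleShiftIso (-j) j 0 (by omega) (ModuleCat.of A (Dual.HD A M j)))) (Iso.refl ω))) ω hfinω 0
  haveI := hfinH
  let z := CategoryTheory.shiftFunctorZero (Dual.D A) ℤ
  let hz : (ω⟦(0 : ℤ)⟧ ⟶ ω) ≃ₗ[A] (ω ⟶ ω) := Linear.homCongr A (z.app ω) (Iso.refl ω)
  haveI : Module.Finite A (ω ⟶ ω) := Module.Finite.equiv hz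
  obtain ⟨hs, hi⟩ := hP ω hfinω ⟨a, b, hbd⟩ 0
  obtain ⟨g1⟩ := LD.nonempty_HDI_dual (I := 𝔪) e ω 0 hs hi
  obtain ⟨g2⟩ := nonempty_HDI_equiv e 𝔪 0
  obtain ⟨n, p, hp⟩ := Module.Finite.exists_fin' A (ω ⟶ ω)
  let gq : ((Fin n → A) ⧸ LinearMap.ker p) ≃ₗ[A] (ω ⟶ ω) := LinearMap.quotKerEquivOfSurjective p hp
  let G : (((Fin n → A) ⧸ LinearMap.ker p) →ₗ[A] E) ≃ₗ[A] E :=
    LinearEquiv.congrLeft E A (gq ≪≫ₗ hz.symm) ≪≫ₗ LinearEquiv.congrRight g3.symm ≪≫ₗ g1.symm ≪≫ₗ g2 ≪≫ₗ g3
  obtain ⟨h0, hgen0, hfree0⟩ := exists_generator hfE _ G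
  let h : ω ⟶ ω := gq h0
  have hgen : ∀ α : ω ⟶ ω, ∃ c : A, c • h = α := fun α => by
    obtain ⟨c, hc⟩ := hgen0 (gq.symm α)
    exact ⟨c, gq.symm.injective (by rw [map_smul, LinearEquiv.symm_apply_apply, hc])⟩
  have hfree : ∀ c : A, c • h = 0 → c = 0 := fun c hc => hfree0 c (gq.injective (by rw [map_smul, map_zero]; exact hc))
  obtain ⟨c, hc⟩ := hgen (𝟙 ω)
  obtain ⟨r, hr⟩ := hgen (h ≫ h)
  have hcr : c * r = 1 := by
    have h1 : (c • h) ≫ h = h := (congrArg (· ≫ h) hc).trans (Category.id_comp h)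
    rw [Linear.smul_comp, ← hr, smul_smul] at h1
    exact sub_eq_zero.1 (hfree _ (by rw [sub_smul, one_smul, h1, sub_self]))
  refine ⟨
    { isNoetherianRing := inferInstance
      finite_injective_dimension := ⟨a, b, hinj⟩
      finite_cohomology := hfinω
      toEnd_bijective := ⟨fun x y hxy => ?_, fun α => ?_⟩
      ext_self_subsingleton := fun i hi0 => ?_ }, isNormalized_of_residual e hW⟩
  · have h1 : (x * c - y * c) • h = 0 := by
      rw [sub_smul, mul_smul, mul_smul, hc, sub_eq_zero]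
      exact hxy
    have h2 := congrArg (· * r) (hfree _ h1)
    simp only [sub_mul, mul_assoc, hcr, mul_one, zero_mul] at h2
    exact sub_eq_zero.1 h2
  · obtain ⟨x, rfl⟩ := hgen α
    refine ⟨x * r, ?_⟩
    show (x * r) • 𝟙 ω = x • h
    rw [← hc, smul_smul, mul_assoc, mul_comm r c, hcr, mul_one]
  · obtain ⟨hs', hi'⟩ := hP ω hfinω ⟨a, b, hbd⟩ (-i)
    obtain ⟨g⟩ := LD.nonempty_HDI_dual (I := 𝔪) e ω (-i) hs' hi'
    haveI := subsingleton_HDI_of_residual e hW (-i) (by omega)
    haveI : Subsingleton ((ω⟦-i⟧ ⟶ ω) →ₗ[A] H0Γ 𝔪 W) := g.symm.toEquiv.subsingleton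
    have hsub : Subsingleton (ω⟦-i⟧ ⟶ ω) := subsingleton_of_forall_eq 0 fun φ => by
      by_contra hφ
      let x0 : H0Γ 𝔪 W := g3.symm (fE 1)
      have hx0 : x0 ≠ 0 := fun h => one_ne_zero (hfE.injective ((g3.symm.map_eq_zero_iff.1 h).trans (map_zero fE).symm))
      have hx0' : ∀ a ∈ 𝔪, a • x0 = 0 := fun a ha => by
        rw [← map_smul, ← map_smul, show a • (1 : IsLocalRing.ResidueField A) = 0 by
          rw [Algebra.smul_def, mul_one]; exact (IsLocalRing.residue_eq_zero_iff a).2 ha, map_zero, map_zero]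
      obtain ⟨l, hl⟩ := LD.exists_extend (E := H0Γ 𝔪 W) (LinearMap.toSpanSingleton A _ φ) (LinearMap.toSpanSingleton A _ x0)
        fun a ha => hx0' a ((IsLocalRing.mem_maximalIdeal a).2 fun hu => hφ (hu.smul_eq_zero.1 ha))
      have h2 := hl 1
      rw [Subsingleton.elim l 0, LinearMap.toSpanSingleton_apply_one, LinearMap.toSpanSingleton_apply_one,
        LinearMap.zero_apply] at h2
      exact hx0 h2.symm
    have h3 := (shiftHomEquiv ω ω (-i)).toEquiv.subsingleton_congr.2 hsub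
    rwa [neg_neg] at h3

end Groth.Agent.DualCx
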