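import Groth.Agent.DualCx.Exact
import Groth.Agent.TriH.EndNilp

/-!
# Dévissage in the derived category and maps into bounded complexes of injectives
-/

set_option autoImplicit false
set_option linter.style.haveILetI false

open CategoryTheory CategoryTheory.Limits CategoryTheory.Pretriangulated DerivedCategory

universe u

attribute [local instance] HasDerivedCategory.standard

namespace Groth.Agent.DualCx

variable {A : Type u} [CommRing A]

local notation "Hf" => DerivedCategory.homologyFunctor (ModuleCat A)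

theorem isZero_of_homology_isZero (X : Dual.D A) (h : ∀ i, IsZero ((Hf i).obj X)) : IsZero X := by
  haveI : X.IsGE 0 := (DerivedCategory.isGE_iff X 0).2 fun i _ => h i
  haveI : X.IsLE 0 := (DerivedCategory.isLE_iff X 0).2 fun i _ => h i
  obtain ⟨Y, ⟨e⟩⟩ := X.exists_iso_singleFunctor_obj_of_isGE_of_isLE 0
  have hY : IsZero Y := (h 0).of_iso (((singleFunctorCompHomologyFunctorIso (ModuleCat.{u} A) 0).app Y).symm ≪≫
    (Hf 0).mapIso e.symm)
  exact (Functor.map_isZero (singleFunctor (ModuleCat.{u} A) 0) hY).of_iso e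

/-- Dévissage of a bounded object along its cohomology. -/
theorem der_devissage (P : Dual.D A → Prop) (hiso : ∀ {X Y : Dual.D A}, (X ≅ Y) → P X → P Y)
    (hzero : ∀ {X : Dual.D A}, IsZero X → P X)
    (hext : ∀ T : Triangle (Dual.D A), T ∈ distTriang (Dual.D A) → P T.obj₁ → P T.obj₃ → P T.obj₂) :
    ∀ (n : ℕ) (a : ℤ) (X : Dual.D A), (∀ i, (i < a ∨ a + n ≤ i) → IsZero ((Hf i).obj X)) →
      (∀ i, a ≤ i → i < a + n → P ((singleFunctor (ModuleCat.{u} A) i).obj ((Hf i).obj X))) → P X := by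
  intro n
  induction n with
  | zero =>
    intro a X hX _
    exact hzero (isZero_of_homology_isZero X fun i => hX i (by omega))
  | succ n ih =>
    intro a X hX hs
    have hT := (TStructure.t (C := ModuleCat.{u} A)).triangleLEGE_distinguished a (a + 1) rfl X
    refine hext _ hT ?_ ?_
    · let U := (TStructure.t (C := ModuleCat.{u} A)).truncLE a |>.obj X
      have hlow : ∀ i, i < a → IsZero ((Hf i).obj U) := fun i hi => by
        haveI := TriH.EndNilp.isIso_homology_ι X a (a + 1) i rfl hi.le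
        exact (hX i (Or.inl hi)).of_iso (asIso ((Hf i).map ((TStructure.t.truncLEι a).app X)))
      haveI : U.IsGE a := (DerivedCategory.isGE_iff U a).2 hlow
      obtain ⟨Y, ⟨eY⟩⟩ := U.exists_iso_singleFunctor_obj_of_isGE_of_isLE a
      haveI := TriH.EndNilp.isIso_homology_ι X a (a + 1) a rfl le_rfl
      let h : (Hf a).obj X ≅ Y := (asIso ((Hf a).map ((TStructure.t.truncLEι a).app X))).symm ≪≫
        (Hf a).mapIso eY ≪≫ (singleFunctorCompHomologyFunctorIso (ModuleCat.{u} A) a).app Y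
      exact hiso ((singleFunctor (ModuleCat.{u} A) a).mapIso h ≪≫ eY.symm) (hs a le_rfl (by omega))
    · let U := (TStructure.t (C := ModuleCat.{u} A)).truncGE (a + 1) |>.obj X
      have hh : ∀ i, a + 1 ≤ i → Nonempty ((Hf i).obj X ≅ (Hf i).obj U) := fun i hi => by
        haveI := TriH.EndNilp.isIso_homology_π X a (a + 1) i rfl hi
        exact ⟨asIso ((Hf i).map ((TStructure.t.truncGEπ (a + 1)).app X))⟩
      refine ih (a + 1) U (fun i hi => ?_) (fun i hi hi' => ?_)
      · by_cases h : i < a + 1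
        · exact TriH.EndNilp.isZero_homology_truncGE X (a + 1) i h
        · exact (hX i (Or.inr (by omega))).of_iso (hh i (by omega)).some.symm
      · exact hiso ((singleFunctor (ModuleCat.{u} A) i).mapIso (hh i hi).some) (hs i (by omega) (by omega))

/-- Shifting is linear bijective on morphisms. -/
noncomputable def homShiftEquiv (X Y : Dual.D A) (n : ℤ) : (X ⟶ Y) ≃ₗ[A] (X⟦n⟧ ⟶ Y⟦n⟧) :=
  LinearEquiv.ofBijective ((CategoryTheory.shiftFunctor (Dual.D A) n).mapLinearMap A)
    ⟨(CategoryTheory.shiftFunctor (Dual.D A) n).map_injective, (CategoryTheory.shiftFunctor (Dual.D A) n).map_surjective⟩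

/-- Maps out of a module in degree `i`. -/
noncomputable def singleHomEquiv (M : ModuleCat.{u} A) (ω : Dual.D A) (i q : ℤ) :
    ((singleFunctor (ModuleCat.{u} A) i).obj M ⟶ ω⟦q⟧) ≃ₗ[A]
      ((singleFunctor (ModuleCat.{u} A) 0).obj M ⟶ ω⟦q + i⟧) :=
  homShiftEquiv _ _ i ≪≫ₗ Linear.homCongr A (PCohLib.singleShiftIso i 0 i (by omega) M)
    ((CategoryTheory.shiftFunctorAdd (Dual.D A) q i).app ω).symm

variable {W : DRing.Cx A} [W.IsKInjective]

theorem hom_subsingleton_of_degrees (q : ℤ) (K : DRing.Cx A)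
    (h : ∀ p, IsZero (K.X p) ∨ IsZero (W.X (p + q))) :
    Subsingleton (DerivedCategory.Q.obj K ⟶ (DerivedCategory.Q.obj W)⟦q⟧) := by
  refine subsingleton_of_forall_eq 0 fun α => ?_
  let Φ := (DerivedCategory.Q.commShiftIso q).app W
  obtain ⟨m, hm⟩ := (RHomCx.good W ((CategoryTheory.shiftFunctor (DRing.Cx A) q).obj W)).lift K (α ≫ Φ.inv)
  have h0 : m = 0 := HomologicalComplex.hom_ext _ _ fun p => by
    rcases h p with hp | hp
    · exact hp.eq_of_src _ _
    · exact hp.eq_of_tgt _ _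
  rw [h0, Functor.map_zero] at hm
  exact (cancel_mono Φ.inv).1 (hm.symm.trans zero_comp.symm)

omit [W.IsKInjective] in
theorem subsingleton_congr_Q {X : Dual.D A} {K : DRing.Cx A} {ω : Dual.D A} (e : X ≅ DerivedCategory.Q.obj K)
    (e' : DerivedCategory.Q.obj W ≅ ω) (q : ℤ)
    (h : Subsingleton (DerivedCategory.Q.obj K ⟶ (DerivedCategory.Q.obj W)⟦q⟧)) : Subsingleton (X ⟶ ω⟦q⟧) :=
  haveI := h
  (e.homCongr ((CategoryTheory.shiftFunctor (Dual.D A) q).mapIso e'.symm)).subsingleton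

theorem hom_subsingleton_of_isLE {ω : Dual.D A} (e : DerivedCategory.Q.obj W ≅ ω) (a : ℤ)
    (hzero : ∀ i, i < a → IsZero (W.X i)) (X : Dual.D A) (n q : ℤ) [X.IsLE n] (h : n + q < a) :
    Subsingleton (X ⟶ ω⟦q⟧) := by
  obtain ⟨K, hK, ⟨eK⟩⟩ := X.exists_iso_Q_obj_of_isLE n
  refine subsingleton_congr_Q eK e q (hom_subsingleton_of_degrees q K fun p => ?_)
  by_cases hp : n < p
  · exact Or.inl (K.isZero_of_isStrictlyLE n p hp)
  · exact Or.inr (hzero _ (by omega))

theorem hom_subsingleton_of_isGE {ω : Dual.D A} (e : DerivedCategory.Q.obj W ≅ ω) (b : ℤ)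
    (hzero : ∀ i, b < i → IsZero (W.X i)) (X : Dual.D A) (n q : ℤ) [X.IsGE n] (h : b < n + q) :
    Subsingleton (X ⟶ ω⟦q⟧) := by
  obtain ⟨K, hK, ⟨eK⟩⟩ := X.exists_iso_Q_obj_of_isGE n
  refine subsingleton_congr_Q eK e q (hom_subsingleton_of_degrees q K fun p => ?_)
  by_cases hp : p < n
  · exact Or.inl (K.isZero_of_isStrictlyGE n p hp)
  · exact Or.inr (hzero _ (by omega))

omit [W.IsKInjective] in
theorem subsingleton_hom_mid {T : Triangle (Dual.D A)} (hT : T ∈ distTriang (Dual.D A)) {Y : Dual.D A}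
    (h₁ : Subsingleton (T.obj₁ ⟶ Y)) (h₃ : Subsingleton (T.obj₃ ⟶ Y)) : Subsingleton (T.obj₂ ⟶ Y) :=
  subsingleton_of_forall_eq 0 fun f => by
    obtain ⟨g, rfl⟩ := T.yoneda_exact₂ hT f (Subsingleton.elim _ _)
    rw [Subsingleton.elim g 0, comp_zero]

omit [W.IsKInjective] in
theorem finite_hom_mid [IsNoetherianRing A] {T : Triangle (Dual.D A)} (hT : T ∈ distTriang (Dual.D A)) {Y : Dual.D A}
    (h₁ : Module.Finite A (T.obj₁ ⟶ Y)) (h₃ : Module.Finite A (T.obj₃ ⟶ Y)) : Module.Finite A (T.obj₂ ⟶ Y) := by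
  haveI : IsNoetherian A (T.obj₂ ⟶ Y) := isNoetherian_of_range_eq_ker
    (Linear.leftComp A Y T.mor₂) (Linear.leftComp A Y T.mor₁) (le_antisymm (fun f hf => by
      obtain ⟨g, rfl⟩ := hf
      show T.mor₁ ≫ T.mor₂ ≫ g = 0
      rw [← Category.assoc, comp_distTriang_mor_zero₁₂ T hT, zero_comp]) fun f hf => by
      obtain ⟨g, rfl⟩ := T.yoneda_exact₂ hT f hf
      exact ⟨g, rfl⟩)
  exact Module.IsNoetherian.finite A (T.obj₂ ⟶ Y)

end Groth.Agent.DualCx
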