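import Groth.Agent.DepthLib.CMModule
import Mathlib.RingTheory.Ideal.AssociatedPrime.Finiteness

/-!
# Dévissage for finite modules and dimensions of supports
-/

set_option autoImplicit false
set_option linter.style.haveILetI false

universe u

namespace Groth.Agent.DualCx

variable {A : Type u} [CommRing A]

/-- Dévissage with respect to the annihilator. -/
theorem devissage [IsNoetherianRing A] (P : ∀ (N : Type u) [AddCommGroup N] [Module A N] [Module.Finite A N], Prop)
    (hsub : ∀ (N : Type u) [AddCommGroup N] [Module A N] [Module.Finite A N] [Subsingleton N], P N)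
    (hext : ∀ (N₁ : Type u) [AddCommGroup N₁] [Module A N₁] [Module.Finite A N₁]
      (N₂ : Type u) [AddCommGroup N₂] [Module A N₂] [Module.Finite A N₂]
      (N₃ : Type u) [AddCommGroup N₃] [Module A N₃] [Module.Finite A N₃] (f : N₁ →ₗ[A] N₂) (g : N₂ →ₗ[A] N₃),
      Function.Injective f → Function.Surjective g → Function.Exact f g → P N₁ → P N₃ → P N₂)
    (hprime : ∀ (p : Ideal A), p.IsPrime →
      (∀ (J : Ideal A), p < J → ∀ (N : Type u) [AddCommGroup N] [Module A N] [Module.Finite A N],
        J ≤ Module.annihilator A N → P N) → P (A ⧸ p))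
    (N : Type u) [AddCommGroup N] [Module A N] [Module.Finite A N] : P N := by
  have hiso : ∀ (N₁ : Type u) [AddCommGroup N₁] [Module A N₁] [Module.Finite A N₁]
      (N₂ : Type u) [AddCommGroup N₂] [Module A N₂] [Module.Finite A N₂] (e : N₁ ≃ₗ[A] N₂), P N₁ → P N₂ :=
    fun N₁ _ _ _ N₂ _ _ _ e h => hext N₁ N₂ PUnit.{u + 1} e 0 e.injective (Function.surjective_to_subsingleton _)
      ((e.toLinearMap.exact_zero_iff_surjective _).2 e.surjective) h (hsub _)
  suffices H : ∀ (I : Ideal A) (N : Type u) [AddCommGroup N] [Module A N] [Module.Finite A N],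
      I ≤ Module.annihilator A N → P N from H ⊥ N bot_le
  intro I
  induction I using WellFoundedGT.induction with
  | _ I ih =>
    intro N _ _ hN hI
    revert hI
    induction hN using IsNoetherianRing.induction_on_isQuotientEquivQuotientPrime A with
    | subsingleton N => exact fun _ => hsub N
    | quotient N p e =>
      intro hI
      refine hiso _ _ e.symm ?_
      have hp : I ≤ p.1 := by
        rw [← Ideal.annihilator_quotient (I := p.1), ← e.annihilator_eq]
        exact hI
      rcases hp.lt_or_eq with hlt | heq
      · exact ih p.1 hlt (A ⧸ p.1) Ideal.annihilator_quotient.ge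
      · exact hprime p.1 p.2 fun J hJ N _ _ _ hN => ih J (heq ▸ hJ) N hN
    | exact N₁ N₂ N₃ f g hf hg hfg h₁ h₃ =>
      exact fun hI => hext N₁ N₂ N₃ f g hf hg hfg (h₁ (hI.trans (f.annihilator_le_of_injective hf)))
        (h₃ (hI.trans (g.annihilator_le_of_surjective hg)))

theorem eq_zero_of_surjective_smul [IsLocalRing A] {M : Type u} [AddCommGroup M] [Module A M] [Module.Finite A M]
    {x : A} (hx : x ∈ IsLocalRing.maximalIdeal A) (h : ∀ v : M, ∃ w : M, x • w = v) : Subsingleton M := by
  have htop : (⊤ : Submodule A M) ≤ Ideal.span {x} • ⊤ := fun v _ => by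
    obtain ⟨w, rfl⟩ := h v
    exact Submodule.smul_mem_smul (Ideal.mem_span_singleton_self x) trivial
  have hj : Ideal.span {x} ≤ (⊥ : Ideal A).jacobson := by
    rw [IsLocalRing.jacobson_eq_maximalIdeal ⊥ bot_ne_top, Ideal.span_singleton_le_iff_mem]
    exact hx
  exact Submodule.subsingleton_iff A |>.1 ⟨fun a b => by
    have := Submodule.eq_bot_of_le_smul_of_le_jacobson_bot (Ideal.span {x}) ⊤ Module.Finite.fg_top htop hj
    exact le_antisymm (le_top.trans (this.le.trans bot_le)) (le_top.trans (this.le.trans bot_le))⟩

theorem support_subset_of_exact {M₁ M₂ M₃ : Type u} [AddCommGroup M₁] [Module A M₁] [AddCommGroup M₂] [Module A M₂]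
    [AddCommGroup M₃] [Module A M₃] {f : M₁ →ₗ[A] M₂} {g : M₂ →ₗ[A] M₃} (h : Function.Exact f g) :
    Module.support A M₂ ⊆ Module.support A M₁ ∪ Module.support A M₃ := by
  have h2 : Function.Exact (LinearMap.range f).subtype g.rangeRestrict := fun v => by
    have hr : Set.range (LinearMap.range f).subtype = Set.range f := by
      rw [Submodule.coe_subtype, Subtype.range_coe_subtype]
      rfl
    rw [hr]
    exact ⟨fun hv => (h v).1 (congrArg Subtype.val hv), fun hv => Subtype.ext ((h v).2 hv)⟩
  rw [Module.support_of_exact h2 Subtype.val_injective g.surjective_rangeRestrict]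
  exact Set.union_subset_union (Module.support_subset_of_surjective f.rangeRestrict f.surjective_rangeRestrict)
    (Module.support_subset_of_injective (LinearMap.range g).subtype Subtype.val_injective)

variable [IsLocalRing A] [IsNoetherianRing A]

theorem supportDim_le_iff {M : Type u} [AddCommGroup M] [Module A M] {d : WithBot ℕ∞} :
    Module.supportDim A M ≤ d ↔ ∀ q ∈ Module.support A M, ringKrullDim (A ⧸ q.asIdeal) ≤ d := by
  refine ⟨fun h q hq => (DepthLib.ringKrullDim_quotient_le_supportDim q hq).trans h, fun h => ?_⟩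
  rcases subsingleton_or_nontrivial M with hM | hM
  · rw [Module.supportDim_eq_bot_of_subsingleton]
    exact bot_le
  · obtain ⟨q, hq, e⟩ := DepthLib.exists_mem_support_ringKrullDim_eq (R := A) (M := M)
    exact e ▸ h q hq

omit [IsLocalRing A] [IsNoetherianRing A] in
theorem subsingleton_of_supportDim_lt_zero {M : Type u} [AddCommGroup M] [Module A M]
    (h : Module.supportDim A M < 0) : Subsingleton M := by
  by_contra hM
  rw [not_subsingleton_iff_nontrivial] at hM
  exact (DepthLib.zero_le_supportDim M).not_gt h

end Groth.Agent.DualCx
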