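import Groth.Agent.DualCx.Exact
import Groth.Agent.DualCx.Devissage

/-!
# Vanishing, depth and dimension for a dual complex over a local ring
-/

set_option autoImplicit false
set_option linter.style.haveILetI false

open CategoryTheory CategoryTheory.Limits
open scoped Pointwise

universe u

attribute [local instance] HasDerivedCategory.standard

namespace Groth.Agent.DualCx

variable {A : Type u} [CommRing A] [IsLocalRing A]

/-- A complex of injectives with finite duals and residual dual concentrated in degree `c`. -/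
structure IsResidual (W : DRing.Cx A) (c : ℤ) : Prop where
  injective : ∀ i, Injective (W.X i)
  finite : ∀ (N : ModuleCat.{u} A) [Module.Finite A N] (i : ℤ), Module.Finite A ((dCx W N).homology i)
  residue : ∀ i : ℤ, i ≠ c →
    Subsingleton ((dCx W (ModuleCat.of A (A ⧸ IsLocalRing.maximalIdeal A))).homology i)
  nontrivial : Nontrivial ((dCx W (ModuleCat.of A (A ⧸ IsLocalRing.maximalIdeal A))).homology c)

/-- The degree `i` dual of a module. -/
noncomputable abbrev EH (W : DRing.Cx A) (N : Type u) [AddCommGroup N] [Module A N] (i : ℤ) : ModuleCat.{u} A :=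
  (dCx W (ModuleCat.of A N)).homology i

/-- Pullback along a linear map. -/
noncomputable abbrev pull (W : DRing.Cx A) {N N' : Type u} [AddCommGroup N] [Module A N] [AddCommGroup N'] [Module A N']
    (f : N →ₗ[A] N') (i : ℤ) : EH W N' i →ₗ[A] EH W N i :=
  hmap W (ModuleCat.ofHom f) i

variable {W : DRing.Cx A}

section

variable [∀ i, Injective (W.X i)] {N₁ N₂ N₃ : Type u} [AddCommGroup N₁] [AddCommGroup N₂] [AddCommGroup N₃]
  [Module A N₁] [Module A N₂] [Module A N₃] {f : N₁ →ₗ[A] N₂} {g : N₂ →ₗ[A] N₃}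

omit [IsLocalRing A] in
theorem pull_exact (hf : Function.Injective f) (hg : Function.Surjective g) (h : Function.Exact f g) (i : ℤ) :
    Function.Exact (pull W g i) (pull W f i) :=
  exact_mid W (shortExact_mk hf hg h) i

/-- The connecting map. -/
noncomputable abbrev conn (hf : Function.Injective f) (hg : Function.Surjective g) (h : Function.Exact f g)
    (i j : ℤ) (hij : i + 1 = j) : EH W N₁ i →ₗ[A] EH W N₃ j :=
  hδ W (shortExact_mk hf hg h) i j hij

omit [IsLocalRing A] in
theorem pull_conn_exact (hf : Function.Injective f) (hg : Function.Surjective g) (h : Function.Exact f g)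
    (i j : ℤ) (hij : i + 1 = j) : Function.Exact (pull W f i) (conn hf hg h i j hij) :=
  exact_δ W (shortExact_mk hf hg h) i j hij

omit [IsLocalRing A] in
theorem conn_pull_exact (hf : Function.Injective f) (hg : Function.Surjective g) (h : Function.Exact f g)
    (i j : ℤ) (hij : i + 1 = j) : Function.Exact (conn hf hg h i j hij) (pull W g j) :=
  δ_exact W (shortExact_mk hf hg h) i j hij

omit [IsLocalRing A] in
theorem subsingleton_mid (hf : Function.Injective f) (hg : Function.Surjective g) (h : Function.Exact f g) (i : ℤ)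
    (h₁ : Subsingleton (EH W N₁ i)) (h₃ : Subsingleton (EH W N₃ i)) : Subsingleton (EH W N₂ i) :=
  subsingleton_of_forall_eq 0 fun x => by
    obtain ⟨y, rfl⟩ := (pull_exact hf hg h i x).1 (Subsingleton.elim _ _)
    rw [Subsingleton.elim y 0, map_zero]

omit [IsLocalRing A] in
theorem injective_of_left_zero (hf : Function.Injective f) (hg : Function.Surjective g) (h : Function.Exact f g)
    (i j : ℤ) (hij : i + 1 = j) (h₁ : ∀ x, conn (W := W) hf hg h i j hij x = 0) : Function.Injective (pull W g j) :=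
  (injective_iff_map_eq_zero _).2 fun x hx => by
    obtain ⟨y, rfl⟩ := (conn_pull_exact hf hg h i j hij x).1 hx
    exact h₁ y

end

omit [IsLocalRing A] in
theorem pull_smul (W : DRing.Cx A) {N : Type u} [AddCommGroup N] [Module A N] (a : A) (i : ℤ) (v : EH W N i) :
    pull W (a • LinearMap.id : N →ₗ[A] N) i v = a • v :=
  hmap_smul_id W (ModuleCat.of A N) a i v

section prime

variable (p : Ideal A) (x : A)

/-- Multiplication by `x` on `A/p`. -/
abbrev mulx : (A ⧸ p) →ₗ[A] A ⧸ p := x • LinearMap.id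

/-- The quotient by `x`. -/
abbrev quotx : (A ⧸ p) →ₗ[A] A ⧸ (p ⊔ Ideal.span {x}) := Submodule.factor le_sup_left

omit [IsLocalRing A] in
theorem mulx_injective [p.IsPrime] (hx : x ∉ p) : Function.Injective (mulx p x) :=
  (injective_iff_map_eq_zero _).2 fun v hv => by
    obtain ⟨a, rfl⟩ := Submodule.Quotient.mk_surjective p v
    have h : Submodule.Quotient.mk (p := p) (x • a) = 0 := by rw [Submodule.Quotient.mk_smul]; exact hv
    rw [Submodule.Quotient.mk_eq_zero] at h ⊢
    exact (‹p.IsPrime›.mem_or_mem h).resolve_left hx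

omit [IsLocalRing A] in
theorem quotx_surjective : Function.Surjective (quotx p x) := Submodule.factor_surjective _

omit [IsLocalRing A] in
theorem mulx_quotx_exact : Function.Exact (mulx p x) (quotx p x) := fun v => by
  obtain ⟨a, rfl⟩ := Submodule.Quotient.mk_surjective p v
  show Submodule.Quotient.mk a = 0 ↔ _
  rw [Submodule.Quotient.mk_eq_zero, Submodule.mem_sup]
  constructor
  · rintro ⟨b, hb, c, hc, rfl⟩
    obtain ⟨c, rfl⟩ := Ideal.mem_span_singleton'.1 hc
    refine ⟨Submodule.Quotient.mk c, ?_⟩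
    show x • Submodule.Quotient.mk (p := p) c = _
    rw [← Submodule.Quotient.mk_smul, Submodule.Quotient.eq, smul_eq_mul,
      show x * c - (b + c * x) = -b by ring]
    exact neg_mem hb
  · rintro ⟨w, hw⟩
    obtain ⟨c, rfl⟩ := Submodule.Quotient.mk_surjective p w
    change x • Submodule.Quotient.mk (p := p) c = _ at hw
    rw [← Submodule.Quotient.mk_smul, Submodule.Quotient.eq, smul_eq_mul] at hw
    exact ⟨a - c * x, by simpa [mul_comm] using neg_mem hw, c * x, Ideal.mul_mem_left _ _ (Ideal.mem_span_singleton_self x),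
      by ring⟩

omit [IsLocalRing A] in
theorem lt_sup_span (hx : x ∉ p) : p < p ⊔ Ideal.span {x} :=
  left_lt_sup.2 fun h => hx (h (Ideal.mem_span_singleton_self x))

theorem nontrivial_quot (hp : p ≠ ⊤) (hx : x ∈ IsLocalRing.maximalIdeal A) :
    Nontrivial (A ⧸ (p ⊔ Ideal.span {x})) := by
  refine Submodule.Quotient.nontrivial_iff.2 fun h => ?_
  have h1 : p ⊔ Ideal.span {x} ≤ IsLocalRing.maximalIdeal A :=
    sup_le (IsLocalRing.le_maximalIdeal hp) ((Ideal.span_singleton_le_iff_mem _).2 hx)
  exact (IsLocalRing.maximalIdeal.isMaximal A).ne_top (top_le_iff.1 (h ▸ h1))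

theorem supportDim_quot_add_one [IsNoetherianRing A] [p.IsPrime] (hx : x ∈ IsLocalRing.maximalIdeal A) (hxp : x ∉ p) :
    Module.supportDim A (A ⧸ (p ⊔ Ideal.span {x})) + 1 = Module.supportDim A (A ⧸ p) := by
  let N := A ⧸ p
  have hk : (x • (⊤ : Submodule A N)) = LinearMap.ker (quotx p x) := Submodule.ext fun v => by
    rw [LinearMap.mem_ker, mulx_quotx_exact p x v, Submodule.mem_smul_pointwise_iff_exists]
    exact ⟨fun ⟨w, _, hw⟩ => ⟨w, hw⟩, fun ⟨w, hw⟩ => ⟨w, trivial, hw⟩⟩
  rw [← Module.supportDim_eq_of_equiv ((Submodule.quotEquivOfEq _ _ hk) ≪≫ₗ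
    LinearMap.quotKerEquivOfSurjective _ (quotx_surjective p x))]
  refine le_antisymm (Module.supportDim_quotSMulTop_succ_le_of_notMem_minimalPrimes fun q hq => ?_)
    (Module.supportDim_le_supportDim_quotSMulTop_succ hx)
  rw [Ideal.annihilator_quotient, Ideal.minimalPrimes_eq_subsingleton_self] at hq
  rwa [Set.mem_singleton_iff.1 hq]

theorem exists_mem_notMem (hp : p ≠ IsLocalRing.maximalIdeal A) (hp' : p ≠ ⊤) :
    ∃ x ∈ IsLocalRing.maximalIdeal A, x ∉ p :=
  SetLike.exists_of_lt (lt_of_le_of_ne (IsLocalRing.le_maximalIdeal hp') hp)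

end prime

section

variable {c : ℤ} [IsNoetherianRing A]

theorem IsResidual.upper (hW : IsResidual W c) (N : Type u) [AddCommGroup N] [Module A N] [Module.Finite A N] :
    ∀ i : ℤ, c < i → Subsingleton (EH W N i) := by
  haveI := hW.injective
  refine devissage (fun N _ _ _ => ∀ i : ℤ, c < i → Subsingleton (EH W N i))
    (fun N _ _ _ _ i _ => subsingleton_of_subsingleton W (ModuleCat.of A N) i)
    (fun N₁ _ _ _ N₂ _ _ _ N₃ _ _ _ f g hf hg h h₁ h₃ i hi => subsingleton_mid hf hg h i (h₁ i hi) (h₃ i hi))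
    (fun p hp ih i hi => ?_) N
  haveI := hp
  by_cases hm : p = IsLocalRing.maximalIdeal A
  · subst hm
    exact hW.residue i hi.ne'
  obtain ⟨x, hx, hxp⟩ := exists_mem_notMem p hm hp.ne_top
  haveI := ih _ (lt_sup_span p x hxp) (A ⧸ (p ⊔ Ideal.span {x})) Ideal.annihilator_quotient.ge (i + 1) (by omega)
  haveI := hW.finite (ModuleCat.of A (A ⧸ p)) i
  refine eq_zero_of_surjective_smul (M := EH W (A ⧸ p) i) hx fun v => ?_
  obtain ⟨w, rfl⟩ := (pull_conn_exact (mulx_injective p x hxp) (quotx_surjective p x) (mulx_quotx_exact p x) i (i + 1)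
    rfl v).1 (Subsingleton.elim _ _)
  exact ⟨w, (pull_smul W x i w).symm⟩

theorem le_pred_of_add_one_le {a : WithBot ℕ∞} {d : ℕ} (h : a + 1 ≤ d) (ha : a ≠ ⊥) :
    1 ≤ d ∧ a ≤ ((d - 1 : ℕ) : WithBot ℕ∞) := by
  induction a with
  | bot => exact absurd rfl ha
  | coe a =>
    cases d with
    | zero =>
      exfalso
      have h1 : ((a + 1 : ℕ∞) : WithBot ℕ∞) ≤ ((0 : ℕ∞) : WithBot ℕ∞) := h
      simp at h1
    | succ d =>
      refine ⟨Nat.succ_le_succ (Nat.zero_le d), ?_⟩
      have h1 : ((a + 1 : ℕ∞) : WithBot ℕ∞) ≤ (((d : ℕ∞) + 1 : ℕ∞) : WithBot ℕ∞) := h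
      rw [WithBot.coe_le_coe] at h1
      exact WithBot.coe_le_coe.2 ((WithTop.add_le_add_iff_right ENat.one_ne_top).1 h1)

theorem IsResidual.lower (hW : IsResidual W c) (N : Type u) [AddCommGroup N] [Module A N] [Module.Finite A N] :
    ∀ d : ℕ, Module.supportDim A N ≤ d → ∀ i : ℤ, i < c - d → Subsingleton (EH W N i) := by
  haveI := hW.injective
  refine devissage (fun N _ _ _ => ∀ d : ℕ, Module.supportDim A N ≤ d → ∀ i : ℤ, i < c - d → Subsingleton (EH W N i))
    (fun N _ _ _ _ _ _ i _ => subsingleton_of_subsingleton W (ModuleCat.of A N) i)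
    (fun N₁ _ _ _ N₂ _ _ _ N₃ _ _ _ f g hf hg h h₁ h₃ d hd i hi => subsingleton_mid hf hg h i
      (h₁ d ((Module.supportDim_le_of_injective f hf).trans hd) i hi)
      (h₃ d ((Module.supportDim_le_of_surjective g hg).trans hd) i hi))
    (fun p hp ih d hd i hi => ?_) N
  haveI := hp
  by_cases hm : p = IsLocalRing.maximalIdeal A
  · subst hm
    exact hW.residue i (by omega)
  obtain ⟨x, hx, hxp⟩ := exists_mem_notMem p hm hp.ne_top
  haveI := nontrivial_quot p x hp.ne_top hx
  obtain ⟨hd1, hd'⟩ := le_pred_of_add_one_le ((supportDim_quot_add_one p x hx hxp).le.trans hd)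
    (Module.supportDim_ne_bot_of_nontrivial A (A ⧸ (p ⊔ Ideal.span {x})))
  haveI := ih _ (lt_sup_span p x hxp) (A ⧸ (p ⊔ Ideal.span {x})) Ideal.annihilator_quotient.ge _ hd' (i + 1)
    (by push_cast [Nat.cast_sub hd1]; omega)
  haveI := hW.finite (ModuleCat.of A (A ⧸ p)) i
  refine eq_zero_of_surjective_smul (M := EH W (A ⧸ p) i) hx fun v => ?_
  obtain ⟨w, rfl⟩ := (pull_conn_exact (mulx_injective p x hxp) (quotx_surjective p x) (mulx_quotx_exact p x) i (i + 1)
    rfl v).1 (Subsingleton.elim _ _)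
  exact ⟨w, (pull_smul W x i w).symm⟩

theorem IsResidual.supportDim_ext [∀ i, Injective (W.X i)] {N₁ N₂ N₃ : Type u} [AddCommGroup N₁] [AddCommGroup N₂] [AddCommGroup N₃]
    [Module A N₁] [Module A N₂] [Module A N₃] {f : N₁ →ₗ[A] N₂} {g : N₂ →ₗ[A] N₃} (hf : Function.Injective f)
    (hg : Function.Surjective g) (h : Function.Exact f g) (i : ℤ) (d : WithBot ℕ∞)
    (h₁ : Module.supportDim A (EH W N₁ i) ≤ d) (h₃ : Module.supportDim A (EH W N₃ i) ≤ d) :
    Module.supportDim A (EH W N₂ i) ≤ d := by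
  refine supportDim_le_iff.2 fun q hq => ?_
  rcases support_subset_of_exact (pull_exact hf hg h i) hq with hq | hq
  · exact supportDim_le_iff.1 h₃ q hq
  · exact supportDim_le_iff.1 h₁ q hq

theorem IsResidual.supportDim_le (hW : IsResidual W c) (N : Type u) [AddCommGroup N] [Module A N] [Module.Finite A N] :
    ∀ i : ℤ, Module.supportDim A (EH W N i) ≤ ((c - i).toNat : WithBot ℕ∞) := by
  haveI := hW.injective
  refine devissage (fun N _ _ _ => ∀ i : ℤ, Module.supportDim A (EH W N i) ≤ ((c - i).toNat : WithBot ℕ∞))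
    (fun N _ _ _ _ i => ?_)
    (fun N₁ _ _ _ N₂ _ _ _ N₃ _ _ _ f g hf hg h h₁ h₃ i =>
      IsResidual.supportDim_ext hf hg h i _ (h₁ i) (h₃ i))
    (fun p hp ih i => ?_) N
  · haveI := subsingleton_of_subsingleton W (ModuleCat.of A N) i
    rw [Module.supportDim_eq_bot_of_subsingleton]
    exact bot_le
  haveI := hp
  haveI := hW.finite (ModuleCat.of A (A ⧸ p)) i
  by_cases hm : p = IsLocalRing.maximalIdeal A
  · subst hm
    refine supportDim_le_iff.2 fun q hq => ?_
    have hle : IsLocalRing.maximalIdeal A ≤ q.asIdeal := fun a ha => by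
      obtain ⟨v, hv⟩ := Module.mem_support_iff'.1 hq
      by_contra haq
      refine hv a haq (smul_eq_zero_of_killed W _ (fun w => ?_) i v)
      obtain ⟨w, rfl⟩ := Submodule.Quotient.mk_surjective _ w
      rw [← Submodule.Quotient.mk_smul, Submodule.Quotient.mk_eq_zero]
      exact Ideal.mul_mem_right _ _ ha
    rw [← (IsLocalRing.maximalIdeal.isMaximal A).eq_of_le q.isPrime.ne_top hle,
      ringKrullDim_eq_zero_of_isField ((Ideal.Quotient.maximal_ideal_iff_isField_quotient _).1 inferInstance)]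
    exact_mod_cast Nat.zero_le _
  obtain ⟨x, hx, hxp⟩ := exists_mem_notMem p hm hp.ne_top
  let δ := conn (W := W) (mulx_injective p x hxp) (quotx_surjective p x) (mulx_quotx_exact p x) i (i + 1) rfl
  have hle : x • (⊤ : Submodule A (EH W (A ⧸ p) i)) ≤ LinearMap.ker δ := fun v hv => by
    obtain ⟨w, -, rfl⟩ := Submodule.mem_smul_pointwise_iff_exists _ _ _ |>.1 hv
    exact (pull_conn_exact (mulx_injective p x hxp) (quotx_surjective p x) (mulx_quotx_exact p x) i (i + 1)
      rfl _).2 ⟨w, pull_smul W x i w⟩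
  have hinj : Function.Injective (Submodule.liftQ _ δ hle) := (injective_iff_map_eq_zero _).2 fun v hv => by
    obtain ⟨v, rfl⟩ := Submodule.Quotient.mk_surjective _ v
    obtain ⟨w, rfl⟩ := (pull_conn_exact (mulx_injective p x hxp) (quotx_surjective p x) (mulx_quotx_exact p x) i (i + 1)
      rfl v).1 hv
    rw [Submodule.Quotient.mk_eq_zero, Submodule.mem_smul_pointwise_iff_exists]
    exact ⟨w, trivial, (pull_smul W x i w).symm⟩
  by_cases hi : c ≤ i
  · haveI := hW.upper (A ⧸ (p ⊔ Ideal.span {x})) (i + 1) (by omega)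
    haveI : Subsingleton (EH W (A ⧸ p) i) := eq_zero_of_surjective_smul hx fun v => by
      obtain ⟨w, rfl⟩ := (pull_conn_exact (mulx_injective p x hxp) (quotx_surjective p x) (mulx_quotx_exact p x) i (i + 1)
        rfl v).1 (Subsingleton.elim _ _)
      exact ⟨w, (pull_smul W x i w).symm⟩
    rw [Module.supportDim_eq_bot_of_subsingleton]
    exact bot_le
  · have h1 := (Module.supportDim_le_of_injective _ hinj).trans
      (ih _ (lt_sup_span p x hxp) (A ⧸ (p ⊔ Ideal.span {x})) Ideal.annihilator_quotient.ge (i + 1))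
    refine (Module.supportDim_le_supportDim_quotSMulTop_succ hx).trans ((add_le_add h1 le_rfl).trans (le_of_eq ?_))
    rw [show (c - i).toNat = (c - (i + 1)).toNat + 1 by omega]
    push_cast
    rfl

end

end Groth.Agent.DualCx
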