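import Groth.Agent.DualCx.Residue
import Groth.Agent.DualCx.Local
import Groth.Agent.DualCx.DerDevissage
import Groth.Agent.DualCx.Setup
import Groth.Agent.S1746

/-!
# A criterion for dualizing complexes over local rings
-/

set_option autoImplicit false
set_option linter.style.haveILetI false

open CategoryTheory CategoryTheory.Limits CochainComplex CochainComplex.HomComplex

universe u

attribute [local instance] HasDerivedCategory.standard

namespace Groth.Agent.DualCx

open Groth.Agent.LocCohLib Groth.Agent.RGamma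

variable {A : Type u} [CommRing A] {W : DRing.Cx A}

local notation "sgl" => HomologicalComplex.single (ModuleCat A) (ComplexShape.up ℤ) 0

theorem toHom_smul {X : DRing.Cx A} {n : ℤ} (a : A) (z : Cocycle X W n) :
    Cocycle.equivHomShift.symm (a • z) = a • Cocycle.equivHomShift.symm z := by
  refine HomologicalComplex.hom_ext _ _ fun p => ?_
  simp [Cocycle.equivHomShift, Cocycle.equivHom, Cocycle.rightShiftAddEquiv, Cochain.rightShift_smul]

theorem finite_homology_homCx [IsNoetherianRing A] [W.IsKInjective] (X : DRing.Cx A) (n : ℤ)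
    [Module.Finite A (DerivedCategory.Q.obj X ⟶ (DerivedCategory.Q.obj W)⟦n⟧)] :
    Module.Finite A ((LocCohLib.homCx X W).homology n) := by
  let Z : Submodule A (Cochain X W n) := LinearMap.ker (δ_hom A X W n (n + 1))
  let co : Z → Cocycle X W n := fun z => Cocycle.mk z.1 (n + 1) rfl z.2
  let Ψ : Z →ₗ[A] (DerivedCategory.Q.obj X ⟶ (DerivedCategory.Q.obj W)⟦n⟧) :=
    { toFun := fun z => DerivedCategory.Q.map (Cocycle.equivHomShift.symm (co z)) ≫
        (DerivedCategory.Q.commShiftIso n).hom.app W
      map_add' := fun z w => by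
        rw [← Preadditive.add_comp, ← Functor.map_add, ← map_add]
        rfl
      map_smul' := fun a z => by
        rw [RingHom.id_apply, ← Linear.smul_comp, ← Functor.map_smul, ← toHom_smul]
        rfl }
  let π : Z →ₗ[A] (LocCohLib.homCx X W).homology n :=
    scCls ((LocCohLib.homCx X W).sc n) ∘ₗ LinearMap.codRestrict _ Z.subtype (fun z => by
      show (LocCohLib.homCx X W).d n ((ComplexShape.up ℤ).next n) z.1 = 0
      rw [CochainComplex.next]
      exact z.2)
  have hπ : Function.Surjective π := fun x => by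
    obtain ⟨z, hz, rfl⟩ := exists_hcls X W n x
    exact ⟨⟨z, hz⟩, rfl⟩
  have hker : LinearMap.ker Ψ ≤ LinearMap.ker π := fun z hz =>
    hcls_eq_zero_of_Q W z.1 z.2 ((cancel_mono ((DerivedCategory.Q.commShiftIso n).hom.app W)).1
      ((LinearMap.mem_ker.1 hz).trans zero_comp.symm))
  haveI : Module.Finite A (LinearMap.range Ψ) := Module.Finite.of_fg (IsNoetherian.noetherian _)
  haveI : Module.Finite A (Z ⧸ LinearMap.ker Ψ) := Module.Finite.equiv Ψ.quotKerEquivRange.symm
  exact Module.Finite.of_surjective (Submodule.liftQ _ π hker) fun x => by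
    obtain ⟨z, rfl⟩ := hπ x
    exact ⟨Submodule.Quotient.mk z, rfl⟩

theorem sub_hcls {X L : DRing.Cx A} {n : ℤ} (z w : Cochain X L n) (hz : δ n (n + 1) z = 0) (hw : δ n (n + 1) w = 0) :
    hcls X L n (z - w) (by rw [δ_sub, hz, hw, sub_zero]) = hcls X L n z hz - hcls X L n w hw := by
  have hk : ∀ v : Cochain X L n, δ n (n + 1) v = 0 → ((LocCohLib.homCx X L).sc n).g.hom v = 0 := fun v hv => by
    show (LocCohLib.homCx X L).d n ((ComplexShape.up ℤ).next n) v = 0
    rw [CochainComplex.next]; exact hv
  exact map_sub (scCls ((LocCohLib.homCx X L).sc n))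
    (⟨z, hk z hz⟩ : LinearMap.ker ((LocCohLib.homCx X L).sc n).g.hom) ⟨w, hk w hw⟩

variable (W) in
/-- A criterion for bijectivity in degree zero. -/
theorem isIso_ev_zero (N : ModuleCat.{u} A)
    (hinj : ∀ t : N, hcls (dCx W N) W 0 (Cochain.ofHom (evHom W N t)) (δ_ofHom _) = 0 → t = 0)
    (hsurj : ∀ (z : Cochain (dCx W N) W 0) (hz : δ 0 (0 + 1) z = 0),
      ∃ t : N, hcls (dCx W N) W 0 z hz = hcls (dCx W N) W 0 (Cochain.ofHom (evHom W N t)) (δ_ofHom _)) :
    IsIso (HomologicalComplex.homologyMap (ev W N) 0) := by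
  have hev : ∀ s : (((sgl).obj N).X 0), (ev W N).f 0 s = (Cochain.ofHom (evHom W N
      ((HomologicalComplex.singleObjXSelf (ComplexShape.up ℤ) 0 N).hom s)) : Cochain (dCx W N) W 0) := fun s => by
    rw [ev, HomologicalComplex.mkHomFromSingle_f]
    rfl
  have hmap : ∀ (s : ((sgl).obj N).X 0) (hs : (((sgl).obj N).sc 0).g s = 0),
      HomologicalComplex.homologyMap (ev W N) 0 (scCls (((sgl).obj N).sc 0) ⟨s, hs⟩) =
      hcls (dCx W N) W 0 (Cochain.ofHom (evHom W N
        ((HomologicalComplex.singleObjXSelf (ComplexShape.up ℤ) 0 N).hom s))) (δ_ofHom _) := fun s hs =>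
    scCls_map ((HomologicalComplex.shortComplexFunctor _ _ 0).map (ev W N)) ⟨s, hs⟩ _ (hev s)
  refine (ConcreteCategory.isIso_iff_bijective _).2 ⟨(injective_iff_map_eq_zero _).2 fun x hx => ?_, fun x => ?_⟩
  · obtain ⟨⟨s, hs⟩, rfl⟩ := scCls_surjective (((sgl).obj N).sc 0) x
    have h0 := hinj _ ((hmap s hs).symm.trans hx)
    have : (⟨s, hs⟩ : LinearMap.ker (((sgl).obj N).sc 0).g.hom) = 0 := Subtype.ext
      ((HomologicalComplex.singleObjXSelf (ComplexShape.up ℤ) 0 N).toLinearEquiv.map_eq_zero_iff.1 h0)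
    rw [this]
    exact map_zero _
  · obtain ⟨z, hz, rfl⟩ := exists_hcls (dCx W N) W 0 x
    obtain ⟨t, ht⟩ := hsurj z hz
    let s := (HomologicalComplex.singleObjXSelf (ComplexShape.up ℤ) 0 N).inv t
    have hs : (((sgl).obj N).sc 0).g s = 0 := by
      rw [HomologicalComplex.shortComplexFunctor_obj_g, HomologicalComplex.single_obj_d]
      rfl
    refine ⟨scCls (((sgl).obj N).sc 0) ⟨s, hs⟩, (hmap s hs).trans (Eq.trans ?_ ht.symm)⟩
    simp only [s, Iso.inv_hom_id_apply]

theorem isIso_ev_of_ne (N : ModuleCat.{u} A) (n : ℤ) (hn : n ≠ 0)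
    (h : ∀ (z : Cochain (dCx W N) W n) (hz : δ n (n + 1) z = 0), hcls (dCx W N) W n z hz = 0) :
    IsIso (HomologicalComplex.homologyMap (ev W N) n) := by
  haveI : Subsingleton ((dd W N).homology n) := subsingleton_of_forall_eq 0 fun x => by
    obtain ⟨z, hz, rfl⟩ := exists_hcls (dCx W N) W n x
    exact h z hz
  have h1 := homology_sgl_isZero N n hn
  have h2 : IsZero ((dd W N).homology n) := ModuleCat.isZero_of_subsingleton _
  exact ⟨0, h1.eq_of_src _ _, h2.eq_of_src _ _⟩

/-- Biduality for a residue field with one dimensional dual. -/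
theorem isIso_ev_residue (m : Ideal A) [m.IsMaximal] [W.IsKInjective] [∀ i, Injective (W.X i)] (d : ℤ)
    (hvan : ∀ i, i ≠ d → Subsingleton ((dCx W (ModuleCat.of A (A ⧸ m))).homology i))
    (hk : Nonempty ((dCx W (ModuleCat.of A (A ⧸ m))).homology d ≃ₗ[A] (A ⧸ m))) (n : ℤ) :
    IsIso (HomologicalComplex.homologyMap (ev W (ModuleCat.of A (A ⧸ m))) n) := by
  obtain ⟨ψ⟩ := hk
  let N := ModuleCat.of A (A ⧸ m)
  let E := dCx W N
  obtain ⟨z0, hz0⟩ := dcls_surjective W N d (ψ.symm (Submodule.Quotient.mk 1))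
  have hgen : ∀ x : E.homology d, ∃ a : A, x = a • dcls W N d z0 := fun x => by
    obtain ⟨a, ha⟩ := Submodule.Quotient.mk_surjective m (ψ x)
    refine ⟨a, ψ.injective ?_⟩
    rw [hz0, map_smul, LinearEquiv.apply_symm_apply, ← ha, ← Submodule.Quotient.mk_smul, smul_eq_mul, mul_one]
  have hann : ∀ a : A, a • dcls W N d z0 = 0 → a ∈ m := fun a ha => by
    have h1 := congrArg ψ ha
    rwa [hz0, map_smul, LinearEquiv.apply_symm_apply, map_zero, ← Submodule.Quotient.mk_smul, smul_eq_mul, mul_one,
      Submodule.Quotient.mk_eq_zero] at h1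
  let Λ : N ⟶ E.X d := ModuleCat.ofHom (lam W m d z0.1)
  have hΛ : Λ ≫ E.d d (d + 1) = 0 := ModuleCat.hom_ext (LinearMap.ext (lam_cycle W m d z0))
  have hlam : ∀ a : A, lam W m d z0.1 (Submodule.Quotient.mk a) = a • z0.1 := fun a => LinearMap.ext fun s => by
    rw [lam_apply, LinearMap.smul_apply, ← map_smul]
    exact congrArg z0.1 (Algebra.smul_def a s).symm
  let L : (CochainComplex.singleFunctor (ModuleCat.{u} A) d).obj N ⟶ E :=
    HomologicalComplex.mkHomFromSingle Λ fun k hk => by
      obtain rfl : k = d + 1 := by have : d + 1 = k := hk; omega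
      exact hΛ
  have hLinj : Function.Injective (lam W m d z0.1) := (injective_iff_map_eq_zero _).2 fun t ht => by
    obtain ⟨a, rfl⟩ := Submodule.Quotient.mk_surjective m t
    rw [Submodule.Quotient.mk_eq_zero]
    refine hann a ?_
    rw [← map_smul]
    refine (congrArg (dcls W N d) (Subtype.ext ((hlam a).symm.trans ht))).trans (map_zero (dcls W N d))
  haveI : ∀ i, Mono (L.f i) := fun i => by
    by_cases hi : i = d
    · subst hi
      rw [HomologicalComplex.mkHomFromSingle_f]
      haveI : Mono Λ := (ModuleCat.mono_iff_injective _).2 hLinj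
      exact mono_comp _ Λ
    · exact (ModuleCat.mono_iff_injective _).2 fun x y _ => by
        haveI := ModuleCat.subsingleton_of_isZero (HomologicalComplex.isZero_single_obj_X (ComplexShape.up ℤ) d N i hi)
        exact Subsingleton.elim (α := ((HomologicalComplex.single (ModuleCat A) (ComplexShape.up ℤ) d).obj N).X i) _ _
  haveI : Mono L := HomologicalComplex.mono_of_mono_f L inferInstance
  have hiso : ∀ i, IsIso (HomologicalComplex.homologyMap L i) := fun i => by
    by_cases hi : i = d
    · subst hi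
      let S := (CochainComplex.singleFunctor (ModuleCat.{u} A) i).obj N
      refine (ConcreteCategory.isIso_iff_bijective _).2 ⟨(injective_iff_map_eq_zero _).2 fun x hx => ?_, fun x => ?_⟩
      · obtain ⟨⟨s, hs⟩, rfl⟩ := scCls_surjective (S.sc i) x
        obtain ⟨a, ha⟩ := Submodule.Quotient.mk_surjective m
          ((HomologicalComplex.singleObjXSelf (ComplexShape.up ℤ) i N).hom s)
        have h1 : dcls W N i (a • z0) = 0 := by
          refine Eq.trans ?_ hx
          refine (scCls_map ((HomologicalComplex.shortComplexFunctor _ _ i).map L) ⟨s, hs⟩ _ ?_).symm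
          show L.f i s = (a • z0).1
          rw [HomologicalComplex.mkHomFromSingle_f]
          show lam W m i z0.1 ((HomologicalComplex.singleObjXSelf (ComplexShape.up ℤ) i N).hom s) = _
          exact (congrArg (lam W m i z0.1) ha.symm).trans (hlam a)
        have h2 : (HomologicalComplex.singleObjXSelf (ComplexShape.up ℤ) i N).hom s = 0 := by
          rw [← ha, Submodule.Quotient.mk_eq_zero]
          exact hann a ((map_smul _ a z0).symm.trans h1)
        have h3 : (⟨s, hs⟩ : LinearMap.ker (S.sc i).g.hom) = 0 := Subtype.ext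
          ((HomologicalComplex.singleObjXSelf (ComplexShape.up ℤ) i N).toLinearEquiv.map_eq_zero_iff.1 h2)
        rw [h3]
        exact map_zero _
      · obtain ⟨a, rfl⟩ := hgen x
        let s : S.X i := (HomologicalComplex.singleObjXSelf (ComplexShape.up ℤ) i N).inv (Submodule.Quotient.mk a)
        have hs : (S.sc i).g s = 0 := by
          show (S.d i ((ComplexShape.up ℤ).next i)) s = 0
          rw [show S.d i ((ComplexShape.up ℤ).next i) = 0 from HomologicalComplex.single_obj_d ..]
          rfl
        refine ⟨scCls (S.sc i) ⟨s, hs⟩, Eq.trans ?_ (map_smul (dcls W N i) a z0)⟩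
        refine scCls_map ((HomologicalComplex.shortComplexFunctor _ _ i).map L) ⟨s, hs⟩ _ ?_
        show L.f i s = (a • z0).1
        rw [HomologicalComplex.mkHomFromSingle_f]
        show lam W m i z0.1 ((HomologicalComplex.singleObjXSelf (ComplexShape.up ℤ) i N).hom
          ((HomologicalComplex.singleObjXSelf (ComplexShape.up ℤ) i N).inv (Submodule.Quotient.mk a))) = _
        rw [Iso.inv_hom_id_apply]
        exact hlam a
    · have h1 : IsZero (((CochainComplex.singleFunctor (ModuleCat.{u} A) d).obj N).homology i) :=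
        ShortComplex.isZero_homology_of_isZero_X₂ _
          (HomologicalComplex.isZero_single_obj_X (ComplexShape.up ℤ) d N i hi)
      haveI := hvan i hi
      have h2 : IsZero (E.homology i) := ModuleCat.isZero_of_subsingleton _
      exact ⟨0, h1.eq_of_src _ _, h2.eq_of_src _ _⟩
  let C := ShortComplex.mk L (cokernel.π L) (cokernel.condition L)
  have hC : C.ShortExact :=
    { exact := C.exact_of_g_is_cokernel (cokernelIsCokernel L) }
  have hCzero : ∀ i, IsZero (C.X₃.homology i) := fun i => by
    haveI := hiso i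
    haveI := hiso (i + 1)
    refine (hC.homology_exact₃ i (i + 1) rfl).isZero_X₂ ?_ ?_
    · refine (cancel_epi (HomologicalComplex.homologyMap L i)).1 ?_
      rw [comp_zero, ← HomologicalComplex.homologyMap_comp, cokernel.condition, HomologicalComplex.homologyMap_zero]
    · exact (cancel_mono (HomologicalComplex.homologyMap L (i + 1))).1 ((hC.δ_comp i (i + 1) rfl).trans zero_comp.symm)
  have hQ : IsZero (DerivedCategory.Q.obj C.X₃) := isZero_of_homology_isZero _ fun i =>
    (hCzero i).of_iso ((DerivedCategory.homologyFunctorFactors (ModuleCat.{u} A) i).app C.X₃)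
  have key : ∀ (j k : ℤ) (hjk : d + k = j) (c : Cochain E W k) (hc : δ k (k + 1) c = 0)
      (y : N ⟶ W.X (j - 1)), Λ ≫ c.v d j hjk = y ≫ W.d (j - 1) j → hcls E W k c hc = 0 := by
    intro j k hjk c hc y hy
    haveI := subsingleton_homology_homCx W C.X₃ k ⟨fun f g => hQ.eq_of_src f g⟩
    have hinj : Function.Injective (HomologicalComplex.homologyMap (LocCohLib.homCxPre L W) k).hom := by
      refine (injective_iff_map_eq_zero _).2 fun v hv => ?_
      obtain ⟨w, hw⟩ := ((ShortComplex.ShortExact.moduleCat_exact_iff_function_exact _).1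
        ((homShortPre_shortExact hC W).homology_exact₂ k) v).1 hv
      rw [← hw, Subsingleton.elim (α := (LocCohLib.homCx C.X₃ W).homology k) w 0]
      exact map_zero _
    have hc' : δ k (k + 1) ((LocCohLib.homCxPre L W).f k c : Cochain _ W k) = 0 := by
      show δ k (k + 1) ((Cochain.ofHom L).comp c (zero_add k)) = 0
      rw [δ_ofHom_comp, hc, Cochain.comp_zero]
    refine hinj (Eq.trans ?_ (map_zero _).symm)
    refine (scCls_map ((HomologicalComplex.shortComplexFunctor _ _ k).map (LocCohLib.homCxPre L W)) _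
      ⟨(LocCohLib.homCxPre L W).f k c, by
        show (LocCohLib.homCx _ W).d k ((ComplexShape.up ℤ).next k) _ = 0
        rw [CochainComplex.next]; exact hc'⟩ rfl).trans ?_
    show hcls _ W k ((LocCohLib.homCxPre L W).f k c) hc' = 0
    rw [← one_smul A (hcls _ W k _ hc'), hcls_smul_eq_zero_iff, one_smul]
    refine ⟨Cochain.fromSingleMk y (show d + (k - 1) = j - 1 by omega), ?_⟩
    rw [Cochain.δ_fromSingleMk _ _ _ j hjk]
    refine Cochain.ext _ _ fun p q hpq => ?_
    by_cases hp : p = d
    · subst hp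
      obtain rfl : q = j := by omega
      rw [Cochain.fromSingleMk_v, ← hy]
      refine Eq.trans ?_ (homCxPre_apply L W k c p q hpq).symm
      rw [HomologicalComplex.mkHomFromSingle_f]
      exact (Category.assoc _ _ _).symm
    · exact (HomologicalComplex.isZero_single_obj_X (ComplexShape.up ℤ) d N p hp).eq_of_src _ _
  have hcyc : ∀ (j k : ℤ) (hjk : d + k = j) (c : Cochain E W k) (hc : δ k (k + 1) c = 0),
      (Λ ≫ c.v d j hjk) ≫ W.d j (j + 1) = 0 := by
    intro j k hjk c hc
    have h := congrArg (fun γ : Cochain E W (k + 1) => Λ ≫ γ.v d (j + 1) (by omega)) hc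
    simp only [Cochain.zero_v, comp_zero] at h
    rw [δ_v k (k + 1) rfl c d (j + 1) (by omega) j (d + 1) (by omega) rfl, Preadditive.comp_add,
      Linear.comp_units_smul, ← Category.assoc Λ (E.d d (d + 1)), hΛ, zero_comp, smul_zero, add_zero] at h
    exact (Category.assoc _ _ _).trans h
  by_cases hn : n = 0
  · subst hn
    refine isIso_ev_zero W N (fun t ht => ?_) (fun c hc => ?_)
    · obtain ⟨a, rfl⟩ := Submodule.Quotient.mk_surjective m t
      obtain ⟨β, hβ⟩ := exists_δ_of_hcls_eq_zero ht
      rw [Submodule.Quotient.mk_eq_zero]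
      refine hann a ?_
      rw [← map_smul]
      refine (dcls_eq_zero_iff W N d _).2 ⟨(Λ ≫ β.v d (d - 1) (by omega)).hom, fun v => ?_⟩
      have h := congrArg (fun γ : Cochain E W 0 => Λ ≫ γ.v d d (add_zero d)) hβ
      simp only [Cochain.ofHom_v] at h
      rw [δ_v (0 - 1) 0 (by omega) β d d (add_zero d) (d - 1) (d + 1) rfl rfl, Preadditive.comp_add,
        Linear.comp_units_smul, ← Category.assoc Λ (E.d d (d + 1)), hΛ, zero_comp, smul_zero, add_zero,
        ← Category.assoc] at h
      refine Eq.trans ?_ (ConcreteCategory.congr_hom h v).symm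
      show (a • z0.1) v = lam W m d z0.1 v (Submodule.Quotient.mk a)
      rw [← hlam a, lam_apply, lam_apply, mul_comm]
    · let z : cyc W d N := ⟨(Λ ≫ c.v d d (add_zero d)).hom, congrArg ModuleCat.Hom.hom (hcyc d 0 (add_zero d) c hc)⟩
      obtain ⟨a, ha⟩ := hgen (dcls W N d z)
      refine ⟨Submodule.Quotient.mk a, ?_⟩
      rw [← sub_eq_zero, ← map_smul, ← map_sub] at ha
      obtain ⟨w, hw⟩ := (dcls_eq_zero_iff W N d _).1 ha
      rw [← sub_eq_zero, ← sub_hcls _ _ hc (δ_ofHom _)]
      refine key d 0 (add_zero d) _ _ (ModuleCat.ofHom w) ?_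
      refine ModuleCat.hom_ext (LinearMap.ext fun v => Eq.trans ?_ (hw v))
      rw [Cochain.sub_v, Preadditive.comp_sub, Cochain.ofHom_v]
      show z.1 v - lam W m d z0.1 v (Submodule.Quotient.mk a) = z.1 v - (a • z0.1) v
      rw [← hlam a, lam_apply, lam_apply, mul_comm]
  · refine isIso_ev_of_ne N n hn fun c hc => ?_
    let z : cyc W (d + n) N := ⟨(Λ ≫ c.v d (d + n) rfl).hom, congrArg ModuleCat.Hom.hom (hcyc (d + n) n rfl c hc)⟩
    haveI := hvan (d + n) (by omega)
    obtain ⟨w, hw⟩ := (dcls_eq_zero_iff W N (d + n) z).1 (Subsingleton.elim (α := E.homology (d + n)) _ 0)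
    exact key (d + n) n rfl c hc (ModuleCat.ofHom w) (ModuleCat.hom_ext (LinearMap.ext hw))

end Groth.Agent.DualCx
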