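import Groth.Agent.DualCx.TopAss

/-!
# The dualizing module of a local ring
-/

set_option autoImplicit false
set_option linter.style.haveILetI false

open CategoryTheory CategoryTheory.Limits

universe u

attribute [local instance] HasDerivedCategory.standard

namespace Groth.Agent.DualCx

open Groth.Agent.RGamma

variable {A : Type u} [CommRing A] [IsLocalRing A] [IsNoetherianRing A]

theorem dualizing_module_props {ω : Dual.D A} (hω : Dual.IsDualizing A ω) (hn : Dual.IsNormalized A ω) (d : ℕ)
    (hd : ringKrullDim A = d) :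
    Module.support A (Dual.HD A ω (-(d : ℤ))) =
        {p : PrimeSpectrum A | ∃ q ∈ minimalPrimes A, q ≤ p.asIdeal ∧ ringKrullDim (A ⧸ q) = d} ∧
      LocCoh.HasSk 2 A (Dual.HD A ω (-(d : ℤ))) := by
  obtain ⟨W, a, b, hK, hW, hzero, ⟨e⟩, -⟩ := exists_residual' hω hn
  haveI := hK
  haveI := hW.injective
  let H := Dual.HD A ω (-(d : ℤ))
  haveI : Module.Finite A H := hω.finite_cohomology _
  have hdA : Module.supportDim A A = d := (Module.supportDim_self_eq_ringKrullDim (R := A)).trans hd
  obtain ⟨h1, h2⟩ := associatedPrimes_top hω a b hzero e hW A d hdA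
  let gH : EH W A (-(d : ℤ)) ≃ₗ[A] H := ((HomologicalComplex.homologyFunctor _ _ _).mapIso (dSelfIso W) ≪≫
    ((DerivedCategory.homologyFunctorFactors (ModuleCat.{u} A) _).app W).symm ≪≫
    (DerivedCategory.homologyFunctor (ModuleCat.{u} A) _).mapIso e).toLinearEquiv
  haveI : Module.Finite A (EH W A (-(d : ℤ))) := hW.finite (ModuleCat.of A A) _
  refine ⟨?_, fun p _ => ?_⟩
  · rw [← gH.support_eq]
    refine Set.ext fun p => ⟨fun hp => ?_, fun ⟨q, hq, hqp, he⟩ => ?_⟩
    · obtain ⟨q, hq, hqp⟩ := DepthLib.exists_associatedPrime_le_of_mem_support hp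
      rw [h2] at hq
      haveI := hq.1.1
      obtain ⟨q0, hq0, hle⟩ := Ideal.exists_minimalPrimes_le (show (⊥ : Ideal A) ≤ q from bot_le)
      haveI := hq0.1.1
      have : q0 = q := eq_of_dim_quotient_le hle d hq.2
        (((Module.supportDim_quotient_eq_ringKrullDim q0).symm.trans_le (Module.supportDim_le_of_surjective
          (Submodule.mkQ q0) (Submodule.mkQ_surjective q0))).trans hdA.le)
      subst this
      exact ⟨q0, hq0, hqp, hq.2⟩
    · haveI := hq.1.1
      have h := hW.top_mem_support A d hdA.le ⟨q, hq.1.1⟩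
        (Module.mem_support_iff_of_finite.2 (le_of_eq_of_le (Module.annihilator_eq_bot.2 inferInstance) bot_le)) he
      rw [zero_sub] at h
      exact Module.mem_support_mono (show (⟨q, hq.1.1⟩ : PrimeSpectrum A) ≤ p from hqp) h
  · let B := Localization.AtPrime p
    let V := WAt W p
    let T := LocalizedModule p.primeCompl H
    haveI : IsNoetherianRing B := IsLocalization.isNoetherianRing p.primeCompl _ inferInstance
    haveI : Module.Finite B T :=
      Module.Finite.of_isLocalizedModule p.primeCompl (LocalizedModule.mkLinearMap p.primeCompl H)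
    rcases subsingleton_or_nontrivial T with hT | hT
    · rw [Module.supportDim_eq_bot_of_subsingleton, min_bot_right]
      exact bot_le
    obtain ⟨gl⟩ := nonempty_locIso p H
    let eT : T ≃ₗ[B] EH V B (-(d : ℤ)) := (gl.symm ≪≫ (extM (algebraMap A B)).mapIso
      ((DerivedCategory.homologyFunctor (ModuleCat.{u} A) (-(d : ℤ))).mapIso e.symm ≪≫
        (DerivedCategory.homologyFunctorFactors (ModuleCat.{u} A) (-(d : ℤ))).app W) ≪≫
      (homologyWAt W p (-(d : ℤ))).symm ≪≫
      ((HomologicalComplex.homologyFunctor _ _ (-(d : ℤ))).mapIso (dSelfIso V)).symm).toLinearEquiv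
    haveI : Nontrivial (A ⧸ p) := Ideal.Quotient.nontrivial_iff.2 (Ideal.IsPrime.ne_top ‹p.IsPrime›)
    obtain ⟨ep, hep⟩ := DepthLib.exists_nat_supportDim (R := A) (A ⧸ p)
    rw [Module.supportDim_quotient_eq_ringKrullDim] at hep
    obtain ⟨dB, hdB⟩ := DepthLib.exists_nat_supportDim (R := B) B
    obtain ⟨c, hres, -, -⟩ := exists_residual_at a b hω hzero e p
    obtain rfl := residual_degree_eq hW p hres hep
    have hntD : Nontrivial (EH V B (-(d : ℤ))) := eT.toEquiv.nontrivial_congr.1 hT
    have hsum : (d : ℤ) = ep + dB := by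
      refine le_antisymm ?_ ?_
      · by_contra hlt
        haveI := hres.lower B dB hdB.le (-(d : ℤ)) (by omega)
        exact not_nontrivial _ hntD
      · by_contra hlt
        have hnt := (nontrivial_EH_self_iff (W := W) p (-(ep : ℤ) - dB)).1 (hres.nontrivial_top B dB hdB)
        haveI : Subsingleton ((HomologicalComplex.homologyFunctor (ModuleCat.{u} A) (ComplexShape.up ℤ) (-(ep : ℤ) - dB)).obj
            (dCx W (ModuleCat.of A A))) := hW.lower A d hdA.le (-(ep : ℤ) - dB) (by omega)
        haveI : Subsingleton (W.homology (-(ep : ℤ) - dB)) := ((HomologicalComplex.homologyFunctor _ _ _).mapIso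
          (dSelfIso W)).toLinearEquiv.symm.toEquiv.subsingleton
        exact not_nontrivial _ hnt
    rw [Module.supportDim_eq_of_equiv eT, DepthLib.depth_congr eT]
    have hdep := depth_top_dual hres B dB hdB.le
    have hle := hres.supportDim_le B (-(d : ℤ))
    rw [show -(ep : ℤ) - dB = -(d : ℤ) by omega] at hdep
    rw [show (-(ep : ℤ) - -(d : ℤ)).toNat = dB by omega] at hle
    refine le_trans (le_trans (min_le_min_left _ hle) (le_of_eq ?_)) (WithBot.coe_le_coe.2 hdep)
    exact (Nat.mono_cast.map_min (a := 2) (b := dB)).symm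

end Groth.Agent.DualCx
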