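import Groth.Agent.DualCx.Basic

/-!
# The long exact sequence of `Hom(-, W)`
-/

set_option autoImplicit false
set_option linter.style.haveILetI false

open CategoryTheory CategoryTheory.Limits

universe u

attribute [local instance] HasDerivedCategory.standard

namespace Groth.Agent.DualCx

variable {A : Type u} [CommRing A] (W : DRing.Cx A)

/-- Functoriality on cohomology. -/
noncomputable abbrev hmap {N N' : ModuleCat.{u} A} (f : N ⟶ N') (i : ℤ) :
    (dCx W N').homology i →ₗ[A] (dCx W N).homology i :=
  (HomologicalComplex.homologyMap (dmap W f) i).hom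

theorem hmap_comp {N N' N'' : ModuleCat.{u} A} (f : N ⟶ N') (g : N' ⟶ N'') (i : ℤ) :
    hmap W (f ≫ g) i = hmap W f i ∘ₗ hmap W g i := by
  unfold hmap
  rw [dmap_comp, HomologicalComplex.homologyMap_comp]
  rfl

theorem hmap_dcls {N N' : ModuleCat.{u} A} (f : N ⟶ N') (i : ℤ) (z : RGamma.cyc W i N') :
    hmap W f i (dcls W N' i z) = dcls W N i (RGamma.cycComp W i f z) :=
  LocCohLib.scCls_map ((HomologicalComplex.shortComplexFunctor _ _ i).map (dmap W f)) _ _ rfl

theorem hmap_smul_id (N : ModuleCat.{u} A) (a : A) (i : ℤ) (x : (dCx W N).homology i) :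
    hmap W (a • 𝟙 N) i x = a • x := smul_homologyMap_dmap W N a i x

variable [∀ i, Injective (W.X i)] {C : ShortComplex (ModuleCat.{u} A)} (hC : C.ShortExact)

/-- The connecting map. -/
noncomputable abbrev hδ (i j : ℤ) (h : i + 1 = j) :
    (dCx W C.X₁).homology i →ₗ[A] (dCx W C.X₃).homology j :=
  ((dShort_shortExact W hC).δ i j h).hom

include hC in
theorem exact_mid (i : ℤ) : Function.Exact (hmap W C.g i) (hmap W C.f i) :=
  (ShortComplex.ShortExact.moduleCat_exact_iff_function_exact _).1 ((dShort_shortExact W hC).homology_exact₂ i)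

theorem exact_δ (i j : ℤ) (h : i + 1 = j) : Function.Exact (hmap W C.f i) (hδ W hC i j h) :=
  (ShortComplex.ShortExact.moduleCat_exact_iff_function_exact _).1 ((dShort_shortExact W hC).homology_exact₃ i j h)

theorem δ_exact (i j : ℤ) (h : i + 1 = j) : Function.Exact (hδ W hC i j h) (hmap W C.g j) :=
  (ShortComplex.ShortExact.moduleCat_exact_iff_function_exact _).1 ((dShort_shortExact W hC).homology_exact₁ i j h)

omit [∀ i, Injective (W.X i)] in
/-- The short complex of a pair of linear maps. -/
theorem shortExact_mk {N₁ N₂ N₃ : Type u} [AddCommGroup N₁] [AddCommGroup N₂] [AddCommGroup N₃] [Module A N₁]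
    [Module A N₂] [Module A N₃] {f : N₁ →ₗ[A] N₂} {g : N₂ →ₗ[A] N₃} (hf : Function.Injective f)
    (hg : Function.Surjective g) (h : Function.Exact f g) :
    (ShortComplex.mk (ModuleCat.ofHom f) (ModuleCat.ofHom g)
      (ModuleCat.hom_ext h.linearMap_comp_eq_zero)).ShortExact :=
  { exact := (ShortComplex.ShortExact.moduleCat_exact_iff_function_exact _).2 h
    mono_f := (ModuleCat.mono_iff_injective _).2 hf
    epi_g := (ModuleCat.epi_iff_surjective _).2 hg }

/-- Congruence in the module. -/
noncomputable def homologyCongr {N N' : ModuleCat.{u} A} (e : N ≅ N') (i : ℤ) :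
    (dCx W N').homology i ≃ₗ[A] (dCx W N).homology i :=
  LinearEquiv.ofLinear (hmap W e.hom i) (hmap W e.inv i)
    (by rw [← hmap_comp, e.hom_inv_id, hmap, dmap_id, HomologicalComplex.homologyMap_id]; rfl)
    (by rw [← hmap_comp, e.inv_hom_id, hmap, dmap_id, HomologicalComplex.homologyMap_id]; rfl)

omit [∀ i, Injective (W.X i)] in
theorem subsingleton_of_subsingleton (N : ModuleCat.{u} A) [Subsingleton N] (i : ℤ) :
    Subsingleton ((dCx W N).homology i) :=
  subsingleton_of_forall_eq 0 fun x => by
    have := smul_eq_zero_of_killed W N (a := 1) (fun y => Subsingleton.elim _ _) i x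
    rwa [one_smul] at this

end Groth.Agent.DualCx
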