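import Groth.Agent.DualCx.PrimesApps
import Groth.Agent.DepthLib.Basic

/-!
# Duals and localization
-/

set_option autoImplicit false
set_option linter.style.haveILetI false

open CategoryTheory CategoryTheory.Limits

universe u

attribute [local instance] HasDerivedCategory.standard

namespace Groth.Agent.DualCx

open Groth.Agent.LocCohLib Groth.Agent.RGamma

variable {A : Type u} [CommRing A]

section hom

variable {B : Type u} [CommRing B] {φ : A →+* B} {S : Submonoid A}

theorem IsLocHom.isUnit_map (h : IsLocHom φ S) {s : A} (hs : s ∈ S) : IsUnit (φ s) := by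
  letI := φ.toAlgebra
  haveI := h.isLocalization
  exact IsLocalization.map_units B ⟨s, hs⟩

/-- Maps from finite modules lift up to a denominator. -/
theorem IsLocHom.exists_map_finite [IsNoetherianRing A] (h : IsLocHom φ S) {N M : ModuleCat.{u} A} [Module.Finite A N]
    (g : (extM φ).obj N ⟶ (extM φ).obj M) : ∃ s ∈ S, ∃ f : N ⟶ M, φ s • g = (extM φ).map f := by
  obtain ⟨r, p, hp⟩ := Module.Finite.exists_fin' A N
  let π : ModuleCat.of A (Fin r → A) ⟶ N := ModuleCat.ofHom p
  obtain ⟨s, hs, f0, hf0⟩ := h.exists_map ((extM φ).map π ≫ g)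
  let K := ModuleCat.of A (LinearMap.ker p)
  let incl : K ⟶ ModuleCat.of A (Fin r → A) := ModuleCat.ofHom (LinearMap.ker p).subtype
  haveI : Module.Finite A K := inferInstanceAs (Module.Finite A (LinearMap.ker p))
  have hK : (extM φ).map (incl ≫ f0) = 0 := by
    rw [Functor.map_comp, ← hf0, Linear.comp_smul, ← Category.assoc, ← Functor.map_comp,
      show incl ≫ π = 0 from ModuleCat.hom_ext (LinearMap.ext fun x => x.2), Functor.map_zero, zero_comp, smul_zero]
  obtain ⟨t, ht, ht0⟩ := h.exists_kill _ hK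
  let f : N →ₗ[A] M := Submodule.liftQ (LinearMap.ker p) (t • f0.hom) (fun x hx => by
    have := ConcreteCategory.congr_hom ht0 (⟨x, hx⟩ : LinearMap.ker p)
    exact this) ∘ₗ (LinearMap.quotKerEquivOfSurjective p hp).symm.toLinearMap
  have hf : ∀ x, f (p x) = t • f0.hom x := fun x => by
    simp only [f, LinearMap.comp_apply, LinearEquiv.coe_coe]
    rw [show (LinearMap.quotKerEquivOfSurjective p hp).symm (p x) = Submodule.Quotient.mk x by
      rw [LinearEquiv.symm_apply_eq]; rfl]
    rfl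
  refine ⟨t * s, S.mul_mem ht hs, ModuleCat.ofHom f, hom_ext_one' φ fun m => ?_⟩
  obtain ⟨x, rfl⟩ := hp m
  rw [ModuleCat.hom_smul, LinearMap.smul_apply, map_one', map_mul, mul_smul]
  show φ t • φ s • g.hom (one' φ (p x)) = one' φ (f (p x))
  rw [hf, one'_smul, ← map_one' φ f0, ← hf0]
  rfl

variable (φ) in
/-- The local image of a cycle. -/
noncomputable def locCyc {W : DRing.Cx A} {N : ModuleCat.{u} A} {i : ℤ} (z : cyc W i N) :
    cyc ((extC φ).obj W) i ((extM φ).obj N) :=
  ⟨((extM φ).map (ModuleCat.ofHom z.1)).hom, by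
    have h : (extM φ).map (ModuleCat.ofHom z.1 ≫ W.d i (i + 1)) = 0 := by
      rw [show ModuleCat.ofHom z.1 ≫ W.d i (i + 1) = 0 from ModuleCat.hom_ext (LinearMap.ext fun v => cyc_apply W i z v),
        Functor.map_zero]
    rw [Functor.map_comp] at h
    exact LinearMap.ext fun v => ConcreteCategory.congr_hom h v⟩

theorem locCyc_eq_zero_iff [IsNoetherianRing A] (h : IsLocHom φ S) {W : DRing.Cx A} {N : ModuleCat.{u} A}
    [Module.Finite A N] {i : ℤ} (z : cyc W i N) :
    dcls ((extC φ).obj W) _ i (locCyc φ z) = 0 ↔ ∃ s ∈ S, s • dcls W N i z = 0 := by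
  rw [dcls_eq_zero_iff]
  constructor
  · rintro ⟨w, hw⟩
    obtain ⟨w', hw'⟩ : ∃ w' : (extM φ).obj N ⟶ (extM φ).obj (W.X (i - 1)), w'.hom = w := ⟨ConcreteCategory.ofHom (C := ModuleCat.{u} B) w, rfl⟩
    obtain ⟨s, hs, w0, hw0⟩ := h.exists_map_finite (M := W.X (i - 1)) w'
    have h0 : (extM φ).map (s • ModuleCat.ofHom z.1 - w0 ≫ W.d (i - 1) i) = 0 := by
      rw [Functor.map_sub, map_smul_loc, Functor.map_comp, ← hw0, Linear.smul_comp, sub_eq_zero]
      refine congrArg (φ s • ·) (ModuleCat.hom_ext (LinearMap.ext fun v => ?_))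
      subst hw'
      exact hw v
    obtain ⟨t, ht, ht0⟩ := h.exists_kill _ h0
    refine ⟨t * s, S.mul_mem ht hs, ?_⟩
    rw [← map_smul, dcls_eq_zero_iff]
    refine ⟨t • w0.hom, fun v => ?_⟩
    have h1 := ConcreteCategory.congr_hom ht0 v
    rw [smul_sub, sub_eq_zero] at ht0
    show (t * s) • z.1 v = (W.d (i - 1) i).hom (t • w0.hom v)
    rw [map_smul, mul_smul]
    exact ConcreteCategory.congr_hom ht0 v
  · rintro ⟨s, hs, h0⟩
    rw [← map_smul, dcls_eq_zero_iff] at h0
    obtain ⟨w, hw⟩ := h0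
    obtain ⟨u, hu⟩ := h.isUnit_map hs
    refine ⟨(↑u⁻¹ : B) • ((extM φ).map (ModuleCat.ofHom w)).hom, fun v => ?_⟩
    have h1 : φ s • (extM φ).map (ModuleCat.ofHom z.1) = (extM φ).map (ModuleCat.ofHom w ≫ W.d (i - 1) i) := by
      rw [← map_smul_loc]
      exact congrArg _ (ModuleCat.hom_ext (LinearMap.ext fun v => hw v))
    rw [Functor.map_comp] at h1
    show ((extM φ).map (ModuleCat.ofHom z.1)).hom v = ((extM φ).map (W.d (i - 1) i)).hom
      ((↑u⁻¹ : B) • ((extM φ).map (ModuleCat.ofHom w)).hom v)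
    rw [map_smul]
    refine Eq.trans ?_ (congrArg ((↑u⁻¹ : B) • ·) (ConcreteCategory.congr_hom h1 v))
    refine Eq.trans ?_ (congrArg ((↑u⁻¹ : B) • ·) (Eq.refl (φ s • ((extM φ).map (ModuleCat.ofHom z.1)).hom v)))
    rw [smul_smul, ← hu, Units.inv_mul, one_smul]

theorem exists_locCyc [IsNoetherianRing A] (h : IsLocHom φ S) {W : DRing.Cx A} {N : ModuleCat.{u} A}
    [Module.Finite A N] {i : ℤ} (y : cyc ((extC φ).obj W) i ((extM φ).obj N)) :
    ∃ s ∈ S, ∃ z : cyc W i N, φ s • y = locCyc φ z := by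
  obtain ⟨y', hy'⟩ : ∃ y' : (extM φ).obj N ⟶ (extM φ).obj (W.X i), y'.hom = y.1 := ⟨ConcreteCategory.ofHom (C := ModuleCat.{u} B) y.1, rfl⟩
  obtain ⟨s, hs, g, hg⟩ := h.exists_map_finite (M := W.X i) y'
  have h0 : (extM φ).map (g ≫ W.d i (i + 1)) = 0 := by
    rw [Functor.map_comp, ← hg, Linear.smul_comp]
    refine (congrArg (φ s • ·) ?_).trans (smul_zero _)
    exact ModuleCat.hom_ext (LinearMap.ext fun v => (congrArg (fun k => ((extM φ).map (W.d i (i + 1))).hom (k v)) hy').trans (cyc_apply ((extC φ).obj W) i y v))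
  obtain ⟨t, ht, ht0⟩ := h.exists_kill _ h0
  refine ⟨t * s, S.mul_mem ht hs, ⟨(t • g).hom, LinearMap.ext fun v => ?_⟩, Subtype.ext ?_⟩
  · show (W.d i (i + 1)).hom (t • g.hom v) = 0
    rw [map_smul]
    exact ConcreteCategory.congr_hom ht0 v
  · show φ (t * s) • y.1 = ((extM φ).map (t • g)).hom
    rw [map_smul_loc, ← hg, map_mul, mul_smul, ← hy']
    rfl

theorem nontrivial_EH_loc_iff [IsNoetherianRing A] (h : IsLocHom φ S) (W : DRing.Cx A) (N : ModuleCat.{u} A)
    [Module.Finite A N] (i : ℤ) :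
    Nontrivial ((dCx ((extC φ).obj W) ((extM φ).obj N)).homology i) ↔
      ∃ v : (dCx W N).homology i, ∀ s ∈ S, s • v ≠ 0 := by
  constructor
  · intro hnt
    obtain ⟨x, hx⟩ := exists_ne (0 : (dCx ((extC φ).obj W) ((extM φ).obj N)).homology i)
    obtain ⟨y, rfl⟩ := dcls_surjective _ _ i x
    obtain ⟨s, hs, z, hz⟩ := exists_locCyc h y
    refine ⟨dcls W N i z, fun t ht h0 => hx ?_⟩
    have h1 := (locCyc_eq_zero_iff h z).2 ⟨t, ht, h0⟩
    rw [← hz, map_smul] at h1
    exact (h.isUnit_map hs).smul_eq_zero.1 h1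
  · rintro ⟨v, hv⟩
    obtain ⟨z, rfl⟩ := dcls_surjective W N i v
    refine ⟨⟨dcls _ _ i (locCyc φ z), 0, fun h0 => ?_⟩⟩
    obtain ⟨s, hs, hs0⟩ := (locCyc_eq_zero_iff h z).1 h0
    exact hv s hs hs0

end hom

theorem EH_congr {B : Type u} [CommRing B] (V : DRing.Cx B) {N N' : ModuleCat.{u} B} (e : N ≅ N') (i : ℤ) :
    Nonempty ((dCx V N).homology i ≅ (dCx V N').homology i) :=
  ⟨(HomologicalComplex.homologyFunctor _ _ i).mapIso
    { hom := dmap V e.inv, inv := dmap V e.hom
      hom_inv_id := by rw [← dmap_comp, e.hom_inv_id, dmap_id]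
      inv_hom_id := by rw [← dmap_comp, e.inv_hom_id, dmap_id] }⟩

/-- The comparison with the localized module. -/
theorem nonempty_locIso (p : Ideal A) [p.IsPrime] (N : Type u) [AddCommGroup N] [Module A N] :
    Nonempty ((extM (algebraMap A (Localization.AtPrime p))).obj (ModuleCat.of A N) ≅
      ModuleCat.of (Localization.AtPrime p) (LocalizedModule p.primeCompl N)) := by
  let φ := algebraMap A (Localization.AtPrime p)
  have hB := isLocHom_prime p
  let T := ModuleCat.of (Localization.AtPrime p) (LocalizedModule p.primeCompl N)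
  let g : ModuleCat.of A N ⟶ (ModuleCat.restrictScalars φ).obj T := ModuleCat.ofHom
    (Y := (ModuleCat.restrictScalars φ).obj T)
    { toFun := fun x => LocalizedModule.mkLinearMap p.primeCompl N x
      map_add' := fun x y => map_add (LocalizedModule.mkLinearMap p.primeCompl N) x y
      map_smul' := fun a x => (map_smul (LocalizedModule.mkLinearMap p.primeCompl N) a x).trans
        (algebraMap_smul (Localization.AtPrime p) a (LocalizedModule.mkLinearMap p.primeCompl N x)).symm }
  let G := ((ModuleCat.extendRestrictScalarsAdj.{u, u, u} φ).homEquiv _ T).symm g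
  have hG : ∀ x, G.hom (one' φ x) = LocalizedModule.mkLinearMap p.primeCompl N x := fun x => by
    have h := ((ModuleCat.extendRestrictScalarsAdj.{u, u, u} φ).homEquiv _ T).apply_symm_apply g
    rw [Adjunction.homEquiv_unit] at h
    exact ConcreteCategory.congr_hom h x
  haveI : IsIso G := (ConcreteCategory.isIso_iff_bijective G).2 ⟨(injective_iff_map_eq_zero G.hom).2 fun v hv => by
    obtain ⟨s, hs, m, hm⟩ := hB.exists_one' v
    have h0 : LocalizedModule.mkLinearMap p.primeCompl N m = 0 := by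
      rw [← hG, ← hm, map_smul]
      exact (congrArg (φ s • ·) hv).trans (smul_zero _)
    obtain ⟨t, ht⟩ := (IsLocalizedModule.eq_zero_iff p.primeCompl (LocalizedModule.mkLinearMap p.primeCompl N)).1 h0
    refine (hB.isUnit_map hs).smul_eq_zero.1 ((hB.isUnit_map t.2).smul_eq_zero.1 ?_)
    rw [hm, ← one'_smul]
    exact (congrArg (one' φ) ht).trans (one'_zero φ), fun y => by
    obtain ⟨⟨m, s⟩, hm⟩ := IsLocalizedModule.surj p.primeCompl (LocalizedModule.mkLinearMap p.primeCompl N) y
    obtain ⟨u, hu⟩ := hB.isUnit_map s.2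
    refine ⟨(↑u⁻¹ : Localization.AtPrime p) • one' φ m, ?_⟩
    show G.hom _ = y
    rw [map_smul, hG, ← hm, show s • y = φ s.1 • y from (algebraMap_smul (Localization.AtPrime p) s.1 y).symm,
      smul_smul, ← hu, Units.inv_mul, one_smul]⟩
  exact ⟨asIso G⟩

/-- Supports of duals. -/
theorem mem_support_EH_iff [IsNoetherianRing A] (W : DRing.Cx A) (N : Type u) [AddCommGroup N] [Module A N]
    [Module.Finite A N] (p : PrimeSpectrum A) (i : ℤ) :
    p ∈ Module.support A (EH W N i) ↔
      Nontrivial (EH (WAt W p.asIdeal) (LocalizedModule p.asIdeal.primeCompl N) i) := by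
  obtain ⟨e⟩ := nonempty_locIso p.asIdeal N
  obtain ⟨g⟩ := EH_congr (WAt W p.asIdeal) e i
  rw [← g.toLinearEquiv.toEquiv.nontrivial_congr, nontrivial_EH_loc_iff (isLocHom_prime p.asIdeal),
    Module.mem_support_iff']
  rfl

/-- The residual degree at a prime of a normalized dualizing complex. -/
theorem residual_degree_eq [IsLocalRing A] [IsNoetherianRing A] {W : DRing.Cx A} (hres : IsResidual W 0) (p : Ideal A)
    [p.IsPrime] {n : ℤ} (hn : IsResidual (WAt W p) n) {e : ℕ} (he : ringKrullDim (A ⧸ p) = e) : n = -(e : ℤ) := by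
  have hq : (⟨p, inferInstance⟩ : PrimeSpectrum A) ∈ Module.support A (A ⧸ p) := by
    rw [Module.mem_support_iff_of_finite, Ideal.annihilator_quotient]
  have h := hres.top_mem_support (A ⧸ p) e ((Module.supportDim_quotient_eq_ringKrullDim p).trans he).le _ hq he
  rw [zero_sub] at h
  have hnt := nontrivial_residue_at (W := W) p _ h
  by_contra hne
  haveI := hn.residue (-(e : ℤ)) (Ne.symm hne)
  exact not_nontrivial _ hnt

end Groth.Agent.DualCx
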