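import Groth.Agent.DualCx.FiniteAdj
import Groth.Agent.DualCx.LocEH
import Groth.Agent.DualCx.Pointwise

/-!
# Coinduction along finite maps preserves dualizing complexes
-/

set_option autoImplicit false
set_option linter.style.haveILetI false

open CategoryTheory CategoryTheory.Limits

universe u

attribute [local instance] HasDerivedCategory.standard

namespace Groth.Agent.DualCx

open Groth.Agent.LocCohLib Groth.Agent.RGamma

variable {A : Type u} [CommRing A]

/-- A residual bounded injective complex in any degree is dualizing. -/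
theorem isDualizing_of_residual_deg [IsLocalRing A] [IsNoetherianRing A] {W : DRing.Cx A} [W.IsKInjective] {c : ℤ}
    (hW : IsResidual W c)
    (hk : Nonempty ((dCx W (ModuleCat.of A (A ⧸ IsLocalRing.maximalIdeal A))).homology c ≃ₗ[A]
      (A ⧸ IsLocalRing.maximalIdeal A)))
    (a b : ℤ) (hzero : ∀ i, (i < a ∨ b < i) → IsZero (W.X i))
    (hfin : ∀ i : ℤ, Module.Finite A (Dual.HD A (DerivedCategory.Q.obj W) i)) :
    Dual.IsDualizing A (DerivedCategory.Q.obj W) := by
  haveI := hW.injective
  let W' := (CategoryTheory.shiftFunctor (DRing.Cx A) c).obj W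
  let K := DerivedCategory.Q.obj W
  haveI : W'.IsKInjective := inferInstanceAs (CochainComplex.IsKInjective ((CategoryTheory.shiftFunctor _ c).obj W))
  haveI hinj' : ∀ i, Injective (W'.X i) := fun i => hW.injective (i + c)
  let e : DerivedCategory.Q.obj W' ≅ K⟦c⟧ := (DerivedCategory.Q.commShiftIso c).app W
  have g : ∀ (N : ModuleCat.{u} A) (i : ℤ), Nonempty ((dCx W' N).homology i ≃ₗ[A] (dCx W N).homology (c + i)) :=
    fun N i => ⟨(homIso W' e N i).symm ≪≫ₗ Linear.homCongr A (Iso.refl _)
      (((CategoryTheory.shiftFunctorAdd (Dual.D A) c i).app K).symm) ≪≫ₗ homIso W (Iso.refl K) N (c + i)⟩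
  have hzero' : ∀ i, (i < a - c ∨ b - c < i) → IsZero (W'.X i) := fun i hi => hzero (i + c) (by omega)
  have hW' : IsResidual W' 0 :=
    { injective := hinj'
      finite := fun N _ i => by
        haveI := hW.finite N (c + i)
        exact Module.Finite.equiv (g N i).some.symm
      residue := fun i hi => by
        haveI := hW.residue (c + i) (by omega)
        exact (g _ i).some.toEquiv.subsingleton
      nontrivial := by
        haveI : Nontrivial ((dCx W (ModuleCat.of A (A ⧸ IsLocalRing.maximalIdeal A))).homology (c + 0)) := by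
          rw [add_zero]; exact hW.nontrivial
        exact (g _ 0).some.toEquiv.nontrivial }
  obtain ⟨k⟩ := hk
  have hk' : Nonempty ((dCx W' (ModuleCat.of A (A ⧸ IsLocalRing.maximalIdeal A))).homology 0 ≃ₗ[A]
      (A ⧸ IsLocalRing.maximalIdeal A)) := by
    have g0 := g (ModuleCat.of A (A ⧸ IsLocalRing.maximalIdeal A)) 0
    rw [add_zero] at g0
    exact ⟨g0.some ≪≫ₗ k⟩
  have hfin' : ∀ i, Module.Finite A (Dual.HD A (K⟦c⟧) i) := fun i => by
    haveI := hfin (c + i)
    let g : (DerivedCategory.homologyFunctor (ModuleCat.{u} A) i).obj (K⟦c⟧) ≅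
        (DerivedCategory.homologyFunctor (ModuleCat.{u} A) (c + i)).obj K :=
      ((DerivedCategory.homologyFunctor (ModuleCat.{u} A) 0).shiftIso c i (c + i) rfl).app K
    exact Module.Finite.equiv g.toLinearEquiv.symm
  obtain ⟨h, -⟩ := isDualizing_of_residual e hW' hk' (a - c) (b - c) hzero' hfin'
  exact isDualizing_of_iso ((shiftEquiv (Dual.D A) c).unitIso.app K).symm (isDualizing_shift h (-c))

/-- Duals of modules killed by a maximal ideal. -/
theorem dual_killed [IsNoetherianRing A] {W : DRing.Cx A} [W.IsKInjective] {ω : Dual.D A}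
    (e : DerivedCategory.Q.obj W ≅ ω) (m : Ideal A) [m.IsMaximal] (c : ℤ)
    (h1 : ∀ i, i ≠ c → Subsingleton ((dCx W (ModuleCat.of A (A ⧸ m))).homology i))
    (g : (dCx W (ModuleCat.of A (A ⧸ m))).homology c ≃ₗ[A] (A ⧸ m))
    (N : ModuleCat.{u} A) [Module.Finite A N] [Nontrivial N] (hN : ∀ x ∈ m, ∀ v : N, x • v = 0) :
    (∀ i, i ≠ c → Subsingleton ((dCx W N).homology i)) ∧ Nontrivial ((dCx W N).homology c) ∧
      Module.length A ((dCx W N).homology c) ≤ Module.length A N ∧ Module.length A N ≠ ⊤ := by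
  classical
  letI : Field (A ⧸ m) := Ideal.Quotient.field m
  letI : Module (A ⧸ m) N := Module.IsTorsionBySet.module (I := m) fun v x => hN x.1 x.2 v
  haveI : IsScalarTower A (A ⧸ m) N := ⟨fun a q v => by
    obtain ⟨r, rfl⟩ := Ideal.Quotient.mk_surjective q
    show Ideal.Quotient.mk m (a * r) • v = a • (Ideal.Quotient.mk m r • v)
    show (a * r) • v = a • r • v
    rw [mul_smul]⟩
  haveI : Module.Finite (A ⧸ m) N := Module.Finite.of_restrictScalars_finite A (A ⧸ m) N
  let r := Module.finrank (A ⧸ m) N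
  let bN : N ≃ₗ[A] (Fin r → A ⧸ m) := (Module.finBasis (A ⧸ m) N).equivFun.restrictScalars A
  let F := DerivedCategory.singleFunctor (ModuleCat.{u} A) 0
  let ι : Fin r → (F.obj (ModuleCat.of A (A ⧸ m)) ⟶ F.obj N) := fun t =>
    F.map (ModuleCat.ofHom (Y := N) (bN.symm.toLinearMap ∘ₗ LinearMap.single A (fun _ => A ⧸ m) t))
  let π : Fin r → (F.obj N ⟶ F.obj (ModuleCat.of A (A ⧸ m))) := fun t =>
    F.map (ModuleCat.ofHom (X := N) (LinearMap.proj t ∘ₗ bN.toLinearMap))
  have htot : ∑ t, π t ≫ ι t = 𝟙 (F.obj N) := by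
    simp only [π, ι, ← Functor.map_comp]
    rw [← F.map_sum, ← F.map_id]
    refine congrArg F.map (ModuleCat.hom_ext (LinearMap.ext fun v => bN.injective ?_))
    simp only [ModuleCat.hom_sum, ModuleCat.hom_comp, ModuleCat.hom_ofHom, ModuleCat.hom_id, LinearMap.sum_apply,
      LinearMap.comp_apply, LinearEquiv.coe_coe, LinearMap.proj_apply, map_sum, LinearEquiv.apply_symm_apply,
      LinearMap.id_apply, LinearMap.coe_single]
    exact Finset.univ_sum_single (bN v)
  have hdec : ∀ {i : ℤ} (x : F.obj N ⟶ ω⟦i⟧), x = ∑ t, π t ≫ ι t ≫ x := fun x => by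
    conv_lhs => rw [← Category.id_comp x, ← htot, Preadditive.sum_comp]
    simp
  refine ⟨fun i hi => ?_, ?_, ?_, ?_⟩
  · haveI : Subsingleton (F.obj (ModuleCat.of A (A ⧸ m)) ⟶ ω⟦i⟧) :=
      haveI := h1 i hi
      (homIso W e (ModuleCat.of A (A ⧸ m)) i).toEquiv.subsingleton
    haveI : Subsingleton (F.obj N ⟶ ω⟦i⟧) := subsingleton_of_forall_eq 0 fun x => by
      rw [hdec x]
      exact Finset.sum_eq_zero fun t _ => by rw [Subsingleton.elim (ι t ≫ x) 0, comp_zero]
    exact (homIso W e N i).symm.toEquiv.subsingleton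
  · have hr : 0 < r := Module.finrank_pos
    obtain ⟨g0, hg0⟩ : ∃ g0 : F.obj (ModuleCat.of A (A ⧸ m)) ⟶ ω⟦c⟧, g0 ≠ 0 := by
      haveI : Nontrivial (A ⧸ m) := Ideal.Quotient.nontrivial_iff.2 ‹m.IsMaximal›.ne_top
      haveI := (homIso W e (ModuleCat.of A (A ⧸ m)) c ≪≫ₗ g).toEquiv.nontrivial
      exact exists_ne 0
    refine ((homIso W e N c).toEquiv.nontrivial_congr).1 ⟨⟨π ⟨0, hr⟩ ≫ g0, 0, fun h => hg0 ?_⟩⟩
    have h2 : ι ⟨0, hr⟩ ≫ π ⟨0, hr⟩ = 𝟙 _ := by
      simp only [π, ι, ← Functor.map_comp]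
      rw [← F.map_id]
      refine congrArg F.map (ModuleCat.hom_ext (LinearMap.ext fun v => ?_))
      simp
    rw [← Category.id_comp g0, ← h2, Category.assoc, h, comp_zero]
  · let Φ : (F.obj N ⟶ ω⟦c⟧) →ₗ[A] (Fin r → A ⧸ m) := LinearMap.pi fun t =>
      (homIso W e (ModuleCat.of A (A ⧸ m)) c ≪≫ₗ g).toLinearMap ∘ₗ Linear.leftComp A _ (ι t)
    have hΦ : Function.Injective Φ := (injective_iff_map_eq_zero Φ).2 fun x hx => by
      rw [hdec x]
      refine Finset.sum_eq_zero fun t _ => ?_
      have h0 : ι t ≫ x = 0 := (homIso W e (ModuleCat.of A (A ⧸ m)) c ≪≫ₗ g).map_eq_zero_iff.1 (congrFun hx t)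
      rw [h0, comp_zero]
    exact Module.length_le_of_injective (bN.symm.toLinearMap ∘ₗ Φ ∘ₗ (homIso W e N c).symm.toLinearMap)
      (bN.symm.injective.comp (hΦ.comp (homIso W e N c).symm.injective))
  · rw [bN.length_eq, Module.length_ne_top_iff]
    haveI : IsSimpleModule A (A ⧸ m) := isSimpleModule_iff_isCoatom.2 (Ideal.isMaximal_def.1 inferInstance)
    exact isFiniteLength_iff_isNoetherian_isArtinian.2 ⟨inferInstance, inferInstance⟩

variable {B : Type u} [CommRing B] [IsNoetherianRing A] [IsNoetherianRing B] {φ : A →+* B}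

/-- Finite maps preserve dualizing complexes. -/
theorem isDualizing_coC_global (hφ : φ.Finite) {ω : Dual.D A} (hω : Dual.IsDualizing A ω) {W : DRing.Cx A}
    [W.IsKInjective] [∀ i, Injective (W.X i)]
    (a b : ℤ) (hzero : ∀ i, (i < a ∨ b < i) → IsZero (W.X i)) (e : DerivedCategory.Q.obj W ≅ ω) :
    Dual.IsDualizing B (DerivedCategory.Q.obj ((coC φ).obj W)) := by
  let V := (coC φ).obj W
  have hfin := finite_homology_model e hω.finite_cohomology
  have hzero' : ∀ i, (i < a ∨ b < i) → IsZero (V.X i) := fun i hi => Functor.map_isZero (coM φ) (hzero i hi)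
  haveI : ∀ i, Injective (V.X i) := coC_injective φ W
  haveI : V.IsStrictlyGE a := (CochainComplex.isStrictlyGE_iff _ _).2 fun i hi => hzero' i (Or.inl hi)
  haveI : V.IsKInjective := CochainComplex.isKInjective_of_injective V a
  have hVfin : ∀ i, Module.Finite B (Dual.HD B (DerivedCategory.Q.obj V) i) := fun i => by
    haveI : Module.Finite B ((HomologicalComplex.homologyFunctor (ModuleCat.{u} B) (ComplexShape.up ℤ) i).obj
        (dCx V (ModuleCat.of B B))) := finite_dual_coC hφ a (fun j hj => hzero j (Or.inl hj)) hfin (ModuleCat.of B B) i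
    exact Module.Finite.equiv (((HomologicalComplex.homologyFunctor _ _ i).mapIso (dSelfIso V)) ≪≫
      ((DerivedCategory.homologyFunctorFactors (ModuleCat.{u} B) i).app V).symm).toLinearEquiv
  refine isDualizing_of_local a b hzero' (Iso.refl _) hVfin fun n _ => ?_
  let m := n.comap φ
  haveI : m.IsMaximal := by
    letI := φ.toAlgebra
    haveI : Module.Finite A B := hφ
    exact Ideal.isMaximal_comap_of_isIntegral_of_isMaximal (R := A) n
  obtain ⟨c, h1, ⟨g⟩⟩ := exists_degree W m a b hzero e hω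
  let K := ModuleCat.of B (B ⧸ n)
  let N := (resM φ).obj K
  haveI : Module.Finite A N := finite_resM hφ K
  haveI : Nontrivial N := Ideal.Quotient.nontrivial_iff.2 ‹n.IsMaximal›.ne_top
  obtain ⟨hvan, hnt, hle, htop⟩ := dual_killed e m c h1 g N fun x hx v => by
    obtain ⟨r, rfl⟩ := Submodule.Quotient.mk_surjective n v
    exact (Submodule.Quotient.mk_eq_zero n).2 (Ideal.mul_mem_right r n hx)
  obtain ⟨T, hT⟩ := exists_coT (φ := φ) W K c
  haveI : Nontrivial ((dCx V K).homology c) := T.toEquiv.nontrivial_congr.2 hnt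
  obtain ⟨x0, hx0⟩ := exists_ne (0 : (dCx V K).homology c)
  have hkill : ∀ s ∈ n, ∀ x : (dCx V K).homology c, s • x = 0 := fun s hs x =>
    smul_eq_zero_of_killed V K (fun v => by
      obtain ⟨r, rfl⟩ := Submodule.Quotient.mk_surjective n v
      exact (Submodule.Quotient.mk_eq_zero n).2 (Ideal.mul_mem_right r n hs)) c x
  have hunit : ∀ s ∉ n, ∀ x : (dCx V K).homology c, s • x = 0 → x = 0 := fun s hs x hx => by
    obtain ⟨y, q, hq, hyq⟩ := ‹n.IsMaximal›.exists_inv hs
    have h := congrArg (· • x) hyq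
    simp only [add_smul, mul_smul, hx, smul_zero, zero_add, one_smul] at h
    exact h.symm.trans (hkill q hq x)
  let θA : N →ₗ[A] (dCx W N).homology c :=
    { toFun := fun v => T (Submodule.liftQ n (LinearMap.toSpanSingleton B _ x0) (fun s hs => hkill s hs x0) v)
      map_add' := fun v w => (congrArg T (map_add _ v w)).trans (map_add T _ _)
      map_smul' := fun s v => by
        refine (congrArg T ?_).trans (hT s _)
        exact map_smul _ (φ s) v }
  have hθ : Function.Injective θA := (injective_iff_map_eq_zero θA).2 fun v hv => by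
    obtain ⟨r, rfl⟩ := Submodule.Quotient.mk_surjective n v
    refine (Submodule.Quotient.mk_eq_zero n).2 (by_contra fun hr => hx0 (hunit r hr x0 ?_))
    exact T.map_eq_zero_iff.1 hv
  have hgenx : ∀ x : (dCx V K).homology c, ∃ r : B, r • x0 = x := fun x => by
    have hlen : Module.length A N = Module.length A ((dCx W N).homology c) :=
      le_antisymm (Module.length_le_of_injective θA hθ) hle
    obtain ⟨v, hv⟩ := (MatlisLib.bijective_of_injective_of_length_eq θA hθ hlen (hlen ▸ htop)).2 (T x)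
    obtain ⟨r, rfl⟩ := Submodule.Quotient.mk_surjective n v
    exact ⟨r, T.injective hv⟩
  -- localize
  let C := Localization.AtPrime n
  let ψ := algebraMap B C
  have hC := isLocHom_prime n
  haveI : IsNoetherianRing C := IsLocalization.isNoetherianRing n.primeCompl _ inferInstance
  let V' := WAt V n
  have hzC : ∀ i, (i < a ∨ b < i) → IsZero (V'.X i) := fun i hi => Functor.map_isZero (extM ψ) (hzero' i hi)
  haveI hinjC : ∀ i, Injective (V'.X i) := fun i => hC.injective_ext (V.X i)
  haveI : V'.IsStrictlyGE a := (CochainComplex.isStrictlyGE_iff _ _).2 fun i hi => hzC i (Or.inl hi)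
  haveI : V'.IsKInjective := CochainComplex.isKInjective_of_injective V' a
  obtain ⟨q⟩ := nonempty_extM_quot ψ n
  have hmap : n.map ψ = IsLocalRing.maximalIdeal C := IsLocalization.AtPrime.map_eq_maximalIdeal n C
  let q' : (extM ψ).obj K ≅ ModuleCat.of C (C ⧸ IsLocalRing.maximalIdeal C) :=
    q ≪≫ (Submodule.quotEquivOfEq _ _ hmap).toModuleIso
  have hfinC : ∀ i, Module.Finite C (Dual.HD C (DerivedCategory.Q.obj V') i) := fun i => by
    haveI : Module.Finite B (V.homology i) := finite_homology_model (Iso.refl _) hVfin i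
    haveI : Module.Finite C ((extM ψ).obj (V.homology i)) := by
      obtain ⟨g⟩ := nonempty_locIso n (V.homology i)
      haveI : Module.Finite C (LocalizedModule n.primeCompl (V.homology i)) :=
        Module.Finite.of_isLocalizedModule n.primeCompl (LocalizedModule.mkLinearMap n.primeCompl (V.homology i))
      exact Module.Finite.equiv g.toLinearEquiv.symm
    exact Module.Finite.equiv ((homologyWAt V n i).symm ≪≫
      ((DerivedCategory.homologyFunctorFactors (ModuleCat.{u} C) i).app V').symm).toLinearEquiv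
  have hfinV' := finite_homology_model (Iso.refl _) hfinC
  have hresid : ∀ i, i ≠ c → Subsingleton (EH V' (C ⧸ IsLocalRing.maximalIdeal C) i) := fun i hi => by
    obtain ⟨g'⟩ := EH_congr V' q' i
    refine g'.toLinearEquiv.toEquiv.subsingleton_congr.1 (not_nontrivial_iff_subsingleton.1 fun hnt' => ?_)
    obtain ⟨v, hv⟩ := (nontrivial_EH_loc_iff hC V K i).1 hnt'
    obtain ⟨T', -⟩ := exists_coT (φ := φ) W K i
    haveI : Subsingleton ((dCx V K).homology i) := T'.toEquiv.subsingleton_congr.2 (hvan i hi)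
    exact hv 1 n.primeCompl.one_mem (by rw [one_smul]; exact Subsingleton.elim v 0)
  haveI hntC : Nontrivial ((dCx V' ((extM ψ).obj K)).homology c) :=
    (nontrivial_EH_loc_iff hC V K c).2 ⟨x0, fun s hs h => hx0 (hunit s hs x0 h)⟩
  obtain ⟨z0, hz0⟩ := dcls_surjective V K c x0
  let y0 := dcls V' ((extM ψ).obj K) c (locCyc ψ z0)
  have hgenC : ∀ y : (dCx V' ((extM ψ).obj K)).homology c, ∃ r : C, r • y0 = y := fun y => by
    obtain ⟨y, rfl⟩ := dcls_surjective V' _ c y
    obtain ⟨s, hs, z, hz⟩ := exists_locCyc hC y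
    obtain ⟨r, hr⟩ := hgenx (dcls V K c z)
    have h0 : dcls V' ((extM ψ).obj K) c (locCyc ψ (z - r • z0)) = 0 :=
      (locCyc_eq_zero_iff hC _).2 ⟨1, n.primeCompl.one_mem, by rw [one_smul, map_sub, map_smul, hz0, hr, sub_self]⟩
    have hlin : locCyc ψ (z - r • z0) = locCyc ψ z - ψ r • locCyc ψ z0 := by
      refine Subtype.ext ?_
      show ((extM ψ).map (ModuleCat.ofHom (z.1 - r • z0.1))).hom = _
      rw [show ModuleCat.ofHom (z.1 - r • z0.1) = ModuleCat.ofHom z.1 - r • ModuleCat.ofHom z0.1 from rfl,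
        Functor.map_sub, map_smul_loc]
      rfl
    rw [hlin, map_sub, map_smul, sub_eq_zero, ← hz, map_smul] at h0
    obtain ⟨u, hu⟩ := hC.isUnit_map hs
    refine ⟨(↑u⁻¹ : C) * ψ r, ?_⟩
    rw [mul_smul, ← h0, smul_smul, ← hu, Units.inv_mul, one_smul]
  have hk : Nonempty ((dCx V' (ModuleCat.of C (C ⧸ IsLocalRing.maximalIdeal C))).homology c ≃ₗ[C]
      (C ⧸ IsLocalRing.maximalIdeal C)) := by
    obtain ⟨g'⟩ := EH_congr V' q' c
    have hkill' : IsLocalRing.maximalIdeal C ≤ LinearMap.ker (LinearMap.toSpanSingleton C _ (g'.hom y0)) := fun r hr =>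
      smul_eq_zero_of_killed V' _ (fun v => by
        obtain ⟨t, rfl⟩ := Submodule.Quotient.mk_surjective (IsLocalRing.maximalIdeal C) v
        exact (Submodule.Quotient.mk_eq_zero _).2 (Ideal.mul_mem_right t _ hr)) c _
    let θ := Submodule.liftQ _ (LinearMap.toSpanSingleton C _ (g'.hom y0)) hkill'
    have hsur : Function.Surjective θ := fun y => by
      obtain ⟨r, hr⟩ := hgenC (g'.inv y)
      refine ⟨Submodule.Quotient.mk r, ?_⟩
      show r • g'.hom y0 = y
      rw [← map_smul, hr]
      exact g'.toLinearEquiv.apply_symm_apply y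
    refine ⟨(LinearEquiv.ofBijective θ ⟨(injective_iff_map_eq_zero θ).2 fun v hv => ?_, hsur⟩).symm⟩
    obtain ⟨r, rfl⟩ := Submodule.Quotient.mk_surjective (IsLocalRing.maximalIdeal C) v
    refine (Submodule.Quotient.mk_eq_zero _).2 ((IsLocalRing.mem_maximalIdeal r).2 fun hu => ?_)
    have hy0 : g'.hom y0 = 0 := hu.smul_eq_zero.1 hv
    haveI := g'.toLinearEquiv.toEquiv.nontrivial_congr.1 hntC
    obtain ⟨y, hy⟩ := exists_ne (0 : (dCx V' (ModuleCat.of C (C ⧸ IsLocalRing.maximalIdeal C))).homology c)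
    obtain ⟨v, rfl⟩ := hsur y
    obtain ⟨t, rfl⟩ := Submodule.Quotient.mk_surjective (IsLocalRing.maximalIdeal C) v
    exact hy (show t • g'.hom y0 = 0 by rw [hy0, smul_zero])
  obtain ⟨k⟩ := hk
  have hres : IsResidual V' c :=
    { injective := hinjC
      finite := fun M _ i => finite_dual a (fun j hj => hzC j (Or.inl hj)) hfinV' M i
      residue := hresid
      nontrivial := by
        haveI : Nontrivial (C ⧸ IsLocalRing.maximalIdeal C) :=
          Ideal.Quotient.nontrivial_iff.2 (IsLocalRing.maximalIdeal.isMaximal C).ne_top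
        exact k.toEquiv.nontrivial }
  exact ⟨_, ⟨Iso.refl _⟩, isDualizing_of_residual_deg hres ⟨k⟩ a b hzC hfinC⟩

/-- The finite case for a right adjoint of restriction. -/
theorem isDualizing_rightAdjoint (hφ : φ.Finite) (R : Dual.D A ⥤ Dual.D B) (adj : DRing.restrictD φ ⊣ R)
    {ω : Dual.D A} (hω : Dual.IsDualizing A ω) : Dual.IsDualizing B (R.obj ω) := by
  obtain ⟨W, a, b, hW, hinj, hzero, ⟨e⟩⟩ := exists_model hω.finite_injective_dimension
  haveI := hW
  haveI := hinj
  obtain ⟨g⟩ := nonempty_coC_iso_rightAdjoint φ R adj W e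
  exact isDualizing_of_iso g (isDualizing_coC_global hφ hω a b hzero e)

end Groth.Agent.DualCx
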