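import Groth.Agent.DualCx.Exact
import Groth.Agent.DualCx.Biduality
import Mathlib.Algebra.Homology.HomotopyCategory.HomComplexSingle

/-!
# The dual of a residue field
-/

set_option autoImplicit false
set_option linter.style.haveILetI false

open CategoryTheory CategoryTheory.Limits CochainComplex CochainComplex.HomComplex

universe u

attribute [local instance] HasDerivedCategory.standard

namespace Groth.Agent.DualCx

open Groth.Agent.LocCohLib Groth.Agent.RGamma

variable {A : Type u} [CommRing A] (W : DRing.Cx A)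

local notation "sgl" => HomologicalComplex.single (ModuleCat A) (ComplexShape.up ℤ) 0

/-- A functional on a vector space over the residue field. -/
theorem exists_functional (m : Ideal A) [m.IsMaximal] {Q : Type u} [AddCommGroup Q] [Module A Q]
    (hQ : ∀ a ∈ m, ∀ x : Q, a • x = 0) (q : Q) (hq : q ≠ 0) : ∃ r : Q →ₗ[A] A ⧸ m, r q = 1 := by
  letI := Ideal.Quotient.field m
  have ht : Module.IsTorsionBySet A Q (m : Set A) := fun x a => hQ a a.2 x
  letI := ht.module
  haveI : IsScalarTower A (A ⧸ m) Q := Module.IsTorsionBySet.isScalarTower ht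
  obtain ⟨g, hg⟩ := LinearMap.exists_leftInverse_of_injective (LinearMap.toSpanSingleton (A ⧸ m) Q q)
    (LinearMap.ker_eq_bot.2 (smul_left_injective (A ⧸ m) hq))
  refine ⟨g.restrictScalars A, ?_⟩
  have h := LinearMap.congr_fun hg 1
  rw [LinearMap.comp_apply, LinearMap.toSpanSingleton_apply, one_smul] at h
  exact h

theorem homology_sgl_isZero (N : ModuleCat.{u} A) (n : ℤ) (hn : n ≠ 0) : IsZero (((sgl).obj N).homology n) :=
  ShortComplex.isZero_homology_of_isZero_X₂ _ (HomologicalComplex.isZero_single_obj_X (ComplexShape.up ℤ) 0 _ n hn)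

/-- Classes in nonzero degree vanish. -/
theorem hcls_eq_zero (N : ModuleCat.{u} A) (n : ℤ) (hn : n ≠ 0)
    (h : IsIso (HomologicalComplex.homologyMap (ev W N) n)) (z : Cochain (dCx W N) W n) (hz : δ n (n + 1) z = 0) :
    hcls (dCx W N) W n z hz = 0 := by
  haveI := h
  haveI := ModuleCat.subsingleton_of_isZero
    ((homology_sgl_isZero N n hn).of_iso (asIso (HomologicalComplex.homologyMap (ev W N) n)).symm)
  exact Subsingleton.elim _ _

/-- Classes in degree zero are evaluations. -/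
theorem exists_hcls_evHom (N : ModuleCat.{u} A) (h : IsIso (HomologicalComplex.homologyMap (ev W N) 0))
    (z : Cochain (dCx W N) W 0) (hz : δ 0 (0 + 1) z = 0) :
    ∃ t : N, hcls (dCx W N) W 0 z hz = hcls (dCx W N) W 0 (Cochain.ofHom (evHom W N t)) (δ_ofHom _) := by
  obtain ⟨x, hx⟩ := ((ConcreteCategory.isIso_iff_bijective _).1 h).2 (hcls (dCx W N) W 0 z hz)
  obtain ⟨s, rfl⟩ := scCls_surjective (((sgl).obj N).sc 0) x
  refine ⟨(HomologicalComplex.singleObjXSelf (ComplexShape.up ℤ) 0 N).hom s.1, hx.symm.trans ?_⟩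
  refine scCls_map ((HomologicalComplex.shortComplexFunctor _ _ 0).map (ev W N)) s _ ?_
  show (ev W N).f 0 s.1 = _
  rw [ev, HomologicalComplex.mkHomFromSingle_f]
  rfl

theorem exists_δ_of_hcls_eq_zero {X L : DRing.Cx A} {n : ℤ} {z : Cochain X L n} {hz : δ n (n + 1) z = 0}
    (h : hcls X L n z hz = 0) : ∃ β : Cochain X L (n - 1), δ (n - 1) n β = z := by
  rw [← one_smul A (hcls X L n z hz), hcls_smul_eq_zero_iff, one_smul] at h
  exact h

section

variable (m : Ideal A)

/-- Translates of an element of `Hom(A/m, W)`. -/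
noncomputable def lam (i : ℤ) (z0 : (A ⧸ m) →ₗ[A] W.X i) : (A ⧸ m) →ₗ[A] (A ⧸ m) →ₗ[A] W.X i :=
  (LinearMap.llcomp A _ _ _ z0) ∘ₗ LinearMap.mul A (A ⧸ m)

theorem lam_apply (i : ℤ) (z0 : (A ⧸ m) →ₗ[A] W.X i) (t s : A ⧸ m) : lam W m i z0 t s = z0 (t * s) := rfl

theorem lam_cycle (i : ℤ) (z0 : cyc W i (ModuleCat.of A (A ⧸ m))) (t : A ⧸ m) :
    (dCx W (ModuleCat.of A (A ⧸ m))).d i (i + 1) (lam W m i z0.1 t) = 0 :=
  LinearMap.ext fun s => cyc_apply W i z0 (t * s)

/-- Every class is a multiple of a given nonzero one. -/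
theorem generated [m.IsMaximal] (hev : ∀ n : ℤ, IsIso (HomologicalComplex.homologyMap (ev W (ModuleCat.of A (A ⧸ m))) n))
    (i : ℤ) (z0 : cyc W i (ModuleCat.of A (A ⧸ m))) (h0 : dcls W (ModuleCat.of A (A ⧸ m)) i z0 ≠ 0) :
    (∀ j : ℤ, j ≠ i → Subsingleton ((dCx W (ModuleCat.of A (A ⧸ m))).homology j)) ∧
      ∀ x : (dCx W (ModuleCat.of A (A ⧸ m))).homology i, ∃ a : A, x = a • dcls W (ModuleCat.of A (A ⧸ m)) i z0 := by
  let N := ModuleCat.of A (A ⧸ m)
  let E := dCx W N
  let B : Submodule A (N →ₗ[A] W.X i) := LinearMap.range (E.d (i - 1) i).hom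
  have hq : B.mkQ z0.1 ≠ 0 := fun h => by
    obtain ⟨w, hw⟩ := (Submodule.Quotient.mk_eq_zero B).1 h
    exact h0 ((dcls_eq_zero_iff W N i z0).2 ⟨w, fun x => (LinearMap.congr_fun hw x).symm⟩)
  have hkill : ∀ a ∈ m, ∀ x : (N →ₗ[A] W.X i) ⧸ B, a • x = 0 := fun a ha x => by
    obtain ⟨y, rfl⟩ := Submodule.Quotient.mk_surjective B x
    rw [← Submodule.Quotient.mk_smul]
    refine (congrArg Submodule.Quotient.mk (LinearMap.ext fun v => ?_)).trans (Submodule.Quotient.mk_zero B)
    obtain ⟨b, rfl⟩ := Submodule.Quotient.mk_surjective m v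
    rw [LinearMap.smul_apply, ← map_smul, ← Submodule.Quotient.mk_smul, smul_eq_mul,
      (Submodule.Quotient.mk_eq_zero m).2 (Ideal.mul_mem_right b m ha), map_zero]
    rfl
  obtain ⟨r, hr⟩ := exists_functional m hkill _ hq
  let R : E ⟶ (CochainComplex.singleFunctor (ModuleCat.{u} A) i).obj N :=
    HomologicalComplex.mkHomToSingle (ModuleCat.ofHom (r ∘ₗ B.mkQ)) fun j hj => by
      obtain rfl : j = i - 1 := by have : j + 1 = i := hj; omega
      refine ModuleCat.hom_ext (LinearMap.ext fun w => ?_)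
      show r (B.mkQ ((E.d (i - 1) i).hom w)) = 0
      exact (congrArg r ((Submodule.Quotient.mk_eq_zero B).2 ⟨w, rfl⟩)).trans (map_zero r)
  have hlam : ∀ t : A ⧸ m, r (B.mkQ (lam W m i z0.1 t)) = t := by
    intro t
    obtain ⟨a, rfl⟩ := Ideal.Quotient.mk_surjective t
    have h1 : (Ideal.Quotient.mk m a) = a • (1 : A ⧸ m) := by
      rw [← Ideal.Quotient.algebraMap_eq, Algebra.algebraMap_eq_smul_one]
    rw [h1, map_smul, map_smul, map_smul]
    congr 1
    refine Eq.trans (congrArg (fun v => r (B.mkQ v)) (LinearMap.ext fun s => ?_)) hr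
    rw [lam_apply, one_mul]
  let Λ : N ⟶ E.X i := ModuleCat.ofHom (lam W m i z0.1)
  have hΛ : Λ ≫ E.d i (i + 1) = 0 := ModuleCat.hom_ext (LinearMap.ext (lam_cycle W m i z0))
  let c : ∀ (j n : ℤ), i + n = j → cyc W j N → Cochain E W n := fun j n hij z =>
    (Cochain.ofHom R).comp (Cochain.fromSingleMk (ModuleCat.ofHom z.1) hij) (zero_add n)
  have hc : ∀ (j n : ℤ) (hij : i + n = j) (z : cyc W j N), δ n (n + 1) (c j n hij z) = 0 := by
    intro j n hij z
    simp only [c]
    rw [δ_ofHom_comp, Cochain.δ_fromSingleMk _ _ _ (j + 1) (by omega),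
      show ModuleCat.ofHom z.1 ≫ W.d j (j + 1) = 0 from ModuleCat.hom_ext z.2]
    simp
  have hcv : ∀ (j n : ℤ) (hij : i + n = j) (z : cyc W j N), Λ ≫ (c j n hij z).v i j hij = ModuleCat.ofHom z.1 := by
    intro j n hij z
    simp only [c]
    rw [Cochain.zero_cochain_comp_v, Cochain.ofHom_v, Cochain.fromSingleMk_v,
      HomologicalComplex.mkHomToSingle_f]
    refine ModuleCat.hom_ext (LinearMap.ext fun t => ?_)
    show z.1 ((HomologicalComplex.singleObjXSelf (ComplexShape.up ℤ) i N).hom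
      ((HomologicalComplex.singleObjXSelf (ComplexShape.up ℤ) i N).inv (r (B.mkQ (lam W m i z0.1 t))))) = z.1 t
    rw [Iso.inv_hom_id_apply, hlam]
  have hδ : ∀ (j n : ℤ) (hij : i + n = j) (β : Cochain E W (n - 1)),
      Λ ≫ (δ (n - 1) n β).v i j hij = (Λ ≫ β.v i (j - 1) (by omega)) ≫ W.d (j - 1) j := by
    intro j n hij β
    rw [δ_v (n - 1) n (by omega) β i j hij (j - 1) (i + 1) (by omega) rfl, Preadditive.comp_add,
      Linear.comp_units_smul, ← Category.assoc, ← Category.assoc Λ (E.d i (i + 1)), hΛ, zero_comp, smul_zero,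
      add_zero, Category.assoc]
  refine ⟨fun j hj => subsingleton_of_forall_eq 0 fun x => ?_, fun x => ?_⟩
  · obtain ⟨z, rfl⟩ := dcls_surjective W N j x
    have hij : i + (j - i) = j := by omega
    obtain ⟨β, hβ⟩ := exists_δ_of_hcls_eq_zero
      (hcls_eq_zero W N (j - i) (by omega) (hev _) (c j (j - i) hij z) (hc j _ hij z))
    refine (dcls_eq_zero_iff W N j z).2 ⟨(Λ ≫ β.v i (j - 1) (by omega)).hom, fun t => ?_⟩
    have h := (hcv j (j - i) hij z).symm.trans ((congrArg (fun γ : Cochain E W (j - i) => Λ ≫ γ.v i j hij) hβ.symm).trans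
      (hδ j _ hij β))
    exact ConcreteCategory.congr_hom h t
  · obtain ⟨z, rfl⟩ := dcls_surjective W N i x
    have hij : i + 0 = i := add_zero i
    obtain ⟨t, ht⟩ := exists_hcls_evHom W N (hev 0) (c i 0 hij z) (hc i 0 hij z)
    obtain ⟨a, rfl⟩ := Submodule.Quotient.mk_surjective m t
    refine ⟨a, ?_⟩
    rw [← sub_eq_zero, ← map_smul, ← map_sub]
    have hsub : δ 0 (0 + 1) (c i 0 hij z - Cochain.ofHom (evHom W N (Submodule.Quotient.mk a))) = 0 := by
      rw [δ_sub, hc, δ_ofHom, sub_zero]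
    obtain ⟨β, hβ⟩ := exists_δ_of_hcls_eq_zero (z := c i 0 hij z - Cochain.ofHom (evHom W N (Submodule.Quotient.mk a)))
      (hz := hsub) ((map_sub (scCls ((LocCohLib.homCx E W).sc 0)) _ _).trans (sub_eq_zero.2 ht))
    refine (dcls_eq_zero_iff W N i _).2 ⟨(Λ ≫ β.v i (i - 1) (by omega)).hom, fun v => ?_⟩
    have h := (congrArg (fun γ : Cochain E W 0 => Λ ≫ γ.v i i hij) hβ.symm).trans (hδ i 0 hij β)
    simp only [Cochain.sub_v, Preadditive.comp_sub, Cochain.ofHom_v, hcv] at h
    refine Eq.trans ?_ (ConcreteCategory.congr_hom h v)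
    show z.1 v - a • z0.1 v = z.1 v - lam W m i z0.1 v (Submodule.Quotient.mk a)
    rw [lam_apply, ← map_smul]
    congr 2
    rw [mul_comm]
    exact Algebra.smul_def a v

/-- The dual of a residue field lives in one degree and is one dimensional. -/
theorem exists_degree [m.IsMaximal] [IsNoetherianRing A] [W.IsKInjective] [∀ i, Injective (W.X i)] (a b : ℤ)
    (hzero : ∀ i, (i < a ∨ b < i) → IsZero (W.X i)) {ω : Dual.D A} (e : DerivedCategory.Q.obj W ≅ ω)
    (hω : Dual.IsDualizing A ω) :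
    ∃ n : ℤ, (∀ i, i ≠ n → Subsingleton ((dCx W (ModuleCat.of A (A ⧸ m))).homology i)) ∧
      Nonempty ((dCx W (ModuleCat.of A (A ⧸ m))).homology n ≃ₗ[A] (A ⧸ m)) := by
  let N := ModuleCat.of A (A ⧸ m)
  have hev := fun n => isIso_ev W a b hzero e hω N n
  obtain ⟨n, hn⟩ : ∃ n, Nontrivial ((dCx W N).homology n) := by
    by_contra hcon
    simp only [not_exists, not_nontrivial_iff_subsingleton] at hcon
    haveI : QuasiIso (0 : dCx W N ⟶ (sgl).obj (ModuleCat.of A PUnit)) := by
      refine (quasiIso_iff _).2 fun i => (quasiIsoAt_iff_isIso_homologyMap _ _).2 ?_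
      have h1 : IsZero ((dCx W N).homology i) := @ModuleCat.isZero_of_subsingleton _ _ _ (hcon i)
      have h2 : IsZero (((sgl).obj (ModuleCat.of A PUnit.{u + 1})).homology i) :=
        ShortComplex.isZero_homology_of_isZero_X₂ _ (by
          by_cases hi : i = 0
          · subst hi
            exact (ModuleCat.isZero_of_subsingleton (ModuleCat.of A PUnit.{u + 1})).of_iso
              (HomologicalComplex.singleObjXSelf (ComplexShape.up ℤ) 0 _)
          · exact HomologicalComplex.isZero_single_obj_X (ComplexShape.up ℤ) 0 _ i hi)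
      exact ⟨0, h1.eq_of_src _ _, h2.eq_of_src _ _⟩
    have hQ : IsZero (DerivedCategory.Q.obj (dCx W N)) :=
      (Functor.map_isZero DerivedCategory.Q (Functor.map_isZero (sgl) (ModuleCat.isZero_of_subsingleton _))).of_iso
        (asIso (DerivedCategory.Q.map (0 : dCx W N ⟶ (sgl).obj (ModuleCat.of A PUnit))))
    haveI := subsingleton_homology_homCx W (dCx W N) 0 ⟨fun f g => hQ.eq_of_src f g⟩
    haveI := hev 0
    haveI : Subsingleton (((sgl).obj N).homology 0) :=
      (asIso (HomologicalComplex.homologyMap (ev W N) 0)).toLinearEquiv.toEquiv.subsingleton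
    haveI : Subsingleton (A ⧸ m) :=
      (HomologicalComplex.singleObjHomologySelfIso (ComplexShape.up ℤ) 0 N).toLinearEquiv.symm.toEquiv.subsingleton
    exact not_subsingleton (A ⧸ m) inferInstance
  obtain ⟨x, hx⟩ := exists_ne (0 : (dCx W N).homology n)
  obtain ⟨z0, rfl⟩ := dcls_surjective W N n x
  obtain ⟨h1, h2⟩ := generated W m hev n z0 hx
  refine ⟨n, h1, ⟨?_⟩⟩
  let φ := Submodule.liftQ m (LinearMap.toSpanSingleton A _ (dcls W N n z0)) fun c hc => by
    rw [LinearMap.mem_ker, LinearMap.toSpanSingleton_apply]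
    exact smul_eq_zero_of_killed W N (fun y => by
      obtain ⟨y, rfl⟩ := Submodule.Quotient.mk_surjective m y
      rw [← Submodule.Quotient.mk_smul, Submodule.Quotient.mk_eq_zero]
      exact Ideal.mul_mem_right y m hc) n _
  refine (LinearEquiv.ofBijective φ ⟨(injective_iff_map_eq_zero φ).2 fun v hv => ?_, fun y => ?_⟩).symm
  · obtain ⟨c, rfl⟩ := Submodule.Quotient.mk_surjective m v
    by_contra hc
    rw [Submodule.Quotient.mk_eq_zero] at hc
    obtain ⟨d, y, hy, he⟩ := ‹m.IsMaximal›.exists_inv hc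
    refine hx ?_
    have h3 : c • dcls W N n z0 = 0 := hv
    have h4 : y • dcls W N n z0 = 0 := smul_eq_zero_of_killed W N (fun v => by
      obtain ⟨v, rfl⟩ := Submodule.Quotient.mk_surjective m v
      rw [← Submodule.Quotient.mk_smul, Submodule.Quotient.mk_eq_zero]
      exact Ideal.mul_mem_right v m hy) n _
    have := congrArg (fun t => t • dcls W N n z0) he
    simpa [add_smul, mul_smul, h3, h4] using this.symm
  · obtain ⟨c, rfl⟩ := h2 y
    exact ⟨Submodule.Quotient.mk c, rfl⟩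

end

end Groth.Agent.DualCx
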