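import Groth.Agent.DualCx.LocHom
import Groth.Agent.DualCx.Biduality
import Groth.Agent.DualCx.Residue
import Groth.Agent.DualCx.Setup
import Groth.Agent.DRingPC.Module
import Groth.Agent.DRingPC.LBCProps
import Groth.Agent.LBC.Basic

/-!
# Localization of dualizing complexes
-/

set_option autoImplicit false
set_option linter.style.haveILetI false

open CategoryTheory CategoryTheory.Limits CochainComplex CochainComplex.HomComplex

universe u

attribute [local instance] HasDerivedCategory.standard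

namespace Groth.Agent.DualCx

open Groth.Agent.LocCohLib Groth.Agent.RGamma Groth.Agent.PCohLib

variable {A : Type u} [CommRing A]

/-- A bounded above resolution by finite free modules. -/
theorem exists_free_resolution [IsNoetherianRing A] {W : DRing.Cx A} [W.IsKInjective] (b : ℤ)
    (hzero : ∀ i, b < i → IsZero (W.X i)) (hfin : ∀ i, Module.Finite A (W.homology i)) :
    ∃ (P : DRing.Cx A) (π : P ⟶ W), P.IsKProjective ∧ (∀ i, Module.Finite A (P.X i) ∧ Module.Free A (P.X i)) ∧
      QuasiIso π := by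
  let K : Dual.D A := DerivedCategory.Q.obj W
  have hK : ∀ i, Module.Finite A (Dual.HD A K i) := fun i => by
    haveI : Module.Finite A ((HomologicalComplex.homologyFunctor (ModuleCat.{u} A) (ComplexShape.up ℤ) i).obj W) := hfin i
    exact Module.Finite.equiv ((DerivedCategory.homologyFunctorFactors (ModuleCat.{u} A) i).app W).toLinearEquiv.symm
  have hb : ∀ i, b < i → Subsingleton (Dual.HD A K i) := fun i hi => ModuleCat.subsingleton_of_isZero
    ((ShortComplex.isZero_homology_of_isZero_X₂ _ (hzero i hi)).of_iso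
      ((DerivedCategory.homologyFunctorFactors (ModuleCat.{u} A) i).app W))
  have hpc : DRing.IsPseudoCoherent' A K := (DRingPC.isPC'_iff A K).2 fun m =>
    (DRingPC.NPC_iff_finite_of_noetherian m K).2 ⟨⟨b, hb⟩, fun i _ => hK i⟩
  obtain ⟨P, c, hz, hP, ⟨e⟩⟩ := hpc
  haveI : P.IsKProjective := isKProjective_of_mem (P := DRingPC.FPj A) (DRingPC.FPj.lift A) P
    (fun j => DRingPC.FF.toFPj A (hP j)) c hz
  obtain ⟨π, hπ⟩ := (RHomCx.good W W).lift P e.hom
  refine ⟨P, π, inferInstance, hP, ?_⟩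
  rw [← DerivedCategory.isIso_Q_map_iff_quasiIso, hπ]
  exact inferInstanceAs (IsIso e.hom)

section

variable {W P : DRing.Cx A} [W.IsKInjective] (π : P ⟶ W) [QuasiIso π] {ω : Dual.D A}
  (e : DerivedCategory.Q.obj W ≅ ω)

include π e in
theorem exists_δ_of_ext_vanish (n : ℤ) (h : Subsingleton (ω ⟶ ω⟦n⟧)) (c : Cochain P W n)
    (hc : δ n (n + 1) c = 0) : ∃ β : Cochain P W (n - 1), δ (n - 1) n β = c := by
  haveI := h
  haveI : Subsingleton (DerivedCategory.Q.obj P ⟶ (DerivedCategory.Q.obj W)⟦n⟧) :=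
    ((asIso (DerivedCategory.Q.map π) ≪≫ e).homCongr
      ((CategoryTheory.shiftFunctor (Dual.D A) n).mapIso e)).subsingleton
  haveI := subsingleton_homology_homCx W P n inferInstance
  exact exists_δ_of_hcls_eq_zero (Subsingleton.elim (α := (LocCohLib.homCx P W).homology n) (hcls P W n c hc) 0)

theorem exists_smul_π (hend : Function.Bijective (fun a : A => a • 𝟙 ω)) (e : DerivedCategory.Q.obj W ≅ ω)
    (c : Cochain P W 0) (hc : δ 0 (0 + 1) c = 0) :
    ∃ (a : A) (β : Cochain P W (-1)), δ (-1) 0 β = c - a • Cochain.ofHom π := by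
  let f := Cocycle.homOf (Cocycle.mk c (0 + 1) rfl hc)
  let d := asIso (DerivedCategory.Q.map π)
  obtain ⟨a, ha⟩ := hend.2 (e.inv ≫ d.inv ≫ DerivedCategory.Q.map f ≫ e.hom)
  simp only at ha
  have hQ : DerivedCategory.Q.map (f - a • π) = 0 := by
    rw [Functor.map_sub, sub_eq_zero, Functor.map_smul]
    refine (cancel_mono e.hom).1 ((cancel_epi d.inv).1 ((cancel_epi e.inv).1 ?_))
    rw [Linear.smul_comp, Linear.comp_smul, Linear.comp_smul]
    refine ha.symm.trans (congrArg (a • ·) ?_)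
    rw [show DerivedCategory.Q.map π = d.hom from rfl, Iso.inv_hom_id_assoc, Iso.inv_hom_id]
  obtain ⟨H⟩ := (TriH.Q_map_eq_zero_iff_of_isKInjective _).1 hQ
  obtain ⟨β, hβ⟩ := Cochain.equivHomotopy _ 0 H
  rw [Cochain.ofHom_zero, add_zero, Cochain.ofHom_sub, Cocycle.cochain_ofHom_homOf_eq_coe] at hβ
  refine ⟨a, β, hβ.symm.trans (congrArg (c - ·) (Cochain.ext _ _ fun p q hpq => ?_))⟩
  obtain rfl : p = q := by omega
  rw [Cochain.smul_v, Cochain.ofHom_v, Cochain.ofHom_v]
  rfl

theorem eq_zero_of_smul_π (hend : Function.Bijective (fun a : A => a • 𝟙 ω)) (e : DerivedCategory.Q.obj W ≅ ω)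
    (a : A) (β : Cochain P W (-1)) (hβ : δ (-1) 0 β = a • Cochain.ofHom π) : a = 0 := by
  have H : Homotopy (a • π) 0 := (Cochain.equivHomotopy _ 0).symm ⟨β, by
    rw [Cochain.ofHom_zero, add_zero, hβ]
    refine Cochain.ext _ _ fun p q hpq => ?_
    obtain rfl : p = q := by omega
    rw [Cochain.smul_v, Cochain.ofHom_v, Cochain.ofHom_v]
    rfl⟩
  have hQ := (TriH.Q_map_eq_zero_iff_of_isKInjective _).2 ⟨H⟩
  let d := asIso (DerivedCategory.Q.map π)
  rw [Functor.map_smul] at hQ
  refine hend.1 (show a • 𝟙 ω = (0 : A) • 𝟙 ω from ?_)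
  have h2 := congrArg (fun t => e.inv ≫ d.inv ≫ t ≫ e.hom) hQ
  simp only [Linear.smul_comp, Linear.comp_smul, zero_comp, comp_zero] at h2
  rw [zero_smul]
  refine Eq.trans (congrArg (a • ·) ?_) h2
  rw [show DerivedCategory.Q.map π = d.hom from rfl, Iso.inv_hom_id_assoc, Iso.inv_hom_id]

end

/-- Localization of a bounded injective model of a dualizing complex. -/
theorem isDualizing_extC [IsNoetherianRing A] {B : Type u} [CommRing B] {φ : A →+* B} {S : Submonoid A}
    (h : IsLocHom φ S) {ω : Dual.D A} (hω : Dual.IsDualizing A ω) {W : DRing.Cx A} [W.IsKInjective]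
    [∀ i, Injective (W.X i)] (a b : ℤ) (hzero : ∀ i, (i < a ∨ b < i) → IsZero (W.X i))
    (e : DerivedCategory.Q.obj W ≅ ω) {ω' : Dual.D B} (e' : DerivedCategory.Q.obj ((extC φ).obj W) ≅ ω') :
    Dual.IsDualizing B ω' := by
  have hfin := finite_homology_model e hω.finite_cohomology
  obtain ⟨P, π, hP, hPff, hπ⟩ := exists_free_resolution b (fun i hi => hzero i (Or.inr hi)) hfin
  haveI := hP
  haveI := hπ
  haveI : PreservesFiniteLimits (extM φ) := ModuleCat.preservesFiniteLimits_extendScalars_of_flat.{u} h.flat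
  haveI : PreservesFiniteColimits (extM φ) :=
    haveI : PreservesColimitsOfSize.{0, 0} (extM φ) :=
      (ModuleCat.extendRestrictScalarsAdj.{u, u, u} φ).leftAdjoint_preservesColimits
    inferInstance
  let W' := (extC φ).obj W
  let P' := (extC φ).obj P
  let π' : P' ⟶ W' := (extC φ).map π
  haveI : QuasiIso π' := inferInstanceAs (QuasiIso ((extC φ).map π))
  haveI hinj' : ∀ i, Injective (W'.X i) := fun i => h.injective_ext (W.X i)
  have hzero' : ∀ i, (i < a ∨ b < i) → IsZero (W'.X i) := fun i hi => Functor.map_isZero (extM φ) (hzero i hi)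
  haveI : W'.IsStrictlyGE a := (CochainComplex.isStrictlyGE_iff _ _).2 fun i hi => hzero' i (Or.inl hi)
  haveI : W'.IsKInjective := CochainComplex.isKInjective_of_injective W' a
  let d := asIso (DerivedCategory.Q.map π')
  have hloc : ∀ (n : ℤ) (c' : Cochain P' W' n), δ n (n + 1) c' = 0 →
      ∃ s ∈ S, ∃ c : Cochain P W n, δ n (n + 1) c = 0 ∧ φ s • c' = cloc c := by
    intro n c' hc'
    obtain ⟨s, hs, c, hc⟩ := h.exists_cloc a b hzero hPff c'
    have h0 : cloc (φ := φ) (δ n (n + 1) c) = 0 := by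
      rw [cloc_δ n (n + 1) rfl c, ← hc, δ_smul, hc', smul_zero]
    obtain ⟨t, ht, ht0⟩ := h.exists_kill_cochain a b hzero (fun i => (hPff i).1) _ h0
    exact ⟨t * s, S.mul_mem ht hs, t • c, by rw [δ_smul, ht0], by rw [cloc_smul, map_mul, mul_smul, hc]⟩
  haveI : IsNoetherianRing B := by
    letI := φ.toAlgebra
    haveI := h.isLocalization
    exact IsLocalization.isNoetherianRing S B inferInstance
  refine
    { isNoetherianRing := inferInstance
      finite_injective_dimension := ⟨a, b, fun M _ _ i hi => ?_⟩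
      finite_cohomology := fun i => ?_
      toEnd_bijective := ⟨fun x y hxy => ?_, fun α => ?_⟩
      ext_self_subsingleton := fun n hn => ?_ }
  · haveI : Subsingleton ((dCx W' (ModuleCat.of B M)).homology i) := ModuleCat.subsingleton_of_isZero
      (ShortComplex.isZero_homology_of_isZero_X₂ _ (@ModuleCat.isZero_of_subsingleton _ _ _
        (haveI := ModuleCat.subsingleton_of_isZero (hzero' i hi)
        inferInstanceAs (Subsingleton (M →ₗ[B] W'.X i)))))
    exact (homIso W' e' (ModuleCat.of B M) i).toEquiv.subsingleton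
  · haveI := hfin i
    haveI : Module.Finite B ((extM φ).obj (W.sc i).homology) := by
      letI := φ.toAlgebra
      exact inferInstanceAs (Module.Finite B (TensorProduct A B (W.homology i)))
    exact Module.Finite.equiv (((DerivedCategory.homologyFunctor (ModuleCat.{u} B) i).mapIso e'.symm ≪≫
      (DerivedCategory.homologyFunctorFactors (ModuleCat.{u} B) i).app W' ≪≫
        (W.sc i).mapHomologyIso (extM φ)).toLinearEquiv).symm
  · rw [← sub_eq_zero]
    obtain ⟨r, s, hs, he⟩ := h.surj (x - y)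
    have hQ : DerivedCategory.Q.map (φ r • π') = 0 := by
      have h0 : (x - y) • 𝟙 ω' = 0 := by rw [sub_smul, sub_eq_zero]; exact hxy
      rw [Functor.map_smul, ← he]
      refine (cancel_mono e'.hom).1 ?_
      rw [zero_comp, Linear.smul_comp, mul_comm, mul_smul,
        ← Category.comp_id (DerivedCategory.Q.map π' ≫ e'.hom), ← Linear.comp_smul, h0, comp_zero, smul_zero]
    obtain ⟨H⟩ := (TriH.Q_map_eq_zero_iff_of_isKInjective _).1 hQ
    obtain ⟨β', hβ'⟩ := Cochain.equivHomotopy _ 0 H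
    rw [Cochain.ofHom_zero, add_zero] at hβ'
    obtain ⟨t, ht, β, hβ⟩ := h.exists_cloc a b hzero hPff β'
    have h0 : cloc (φ := φ) ((t * r) • Cochain.ofHom π - δ (-1) 0 β) = 0 := by
      rw [cloc_sub, cloc_smul, cloc_δ _ _ (by omega), ← hβ, δ_smul, cloc_ofHom, map_mul, mul_smul, ← smul_sub,
        sub_eq_zero.2 ?_, smul_zero]
      refine Eq.trans ?_ hβ'
      refine Cochain.ext _ _ fun p q hpq => ?_
      obtain rfl : p = q := by omega
      rw [Cochain.smul_v, Cochain.ofHom_v, Cochain.ofHom_v]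
      rfl
    obtain ⟨v, hv, hv0⟩ := h.exists_kill_cochain a b hzero (fun i => (hPff i).1) _ h0
    have ha0 : v * (t * r) = 0 := eq_zero_of_smul_π π hω.toEnd_bijective e _ (v • β) (by
      rw [smul_sub, sub_eq_zero, smul_smul] at hv0
      rw [δ_smul, ← hv0])
    have h1 : φ v * (φ t * ((x - y) * φ s)) = 0 := by rw [he, ← map_mul, ← map_mul, ha0, map_zero]
    exact (h.isUnit s hs).mul_left_eq_zero.1 ((h.isUnit t ht).mul_right_eq_zero.1 ((h.isUnit v hv).mul_right_eq_zero.1 h1))
  · obtain ⟨f, hf⟩ := (RHomCx.good W' W').lift P' (d.hom ≫ e'.hom ≫ α ≫ e'.inv)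
    obtain ⟨s, hs, c, hc, hcf⟩ := hloc 0 (Cochain.ofHom f) (δ_ofHom f)
    obtain ⟨a₀, β, hβ⟩ := exists_smul_π π hω.toEnd_bijective e c hc
    obtain ⟨u, hu⟩ := h.isUnit s hs
    refine ⟨(↑u⁻¹ : B) * φ a₀, ?_⟩
    have H : Homotopy (φ s • f - φ a₀ • π') 0 := (Cochain.equivHomotopy _ 0).symm ⟨cloc β, by
      rw [Cochain.ofHom_zero, add_zero, ← cloc_δ _ _ (by omega), hβ, cloc_sub, cloc_smul, cloc_ofHom, ← hcf,
        Cochain.ofHom_sub]
      refine Cochain.ext _ _ fun p q hpq => ?_
      obtain rfl : p = q := by omega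
      simp only [Cochain.sub_v, Cochain.smul_v, Cochain.ofHom_v]
      rfl⟩
    have hQ := (TriH.Q_map_eq_zero_iff_of_isKInjective _).2 ⟨H⟩
    rw [Functor.map_sub, Functor.map_smul, Functor.map_smul, sub_eq_zero, hf] at hQ
    show ((↑u⁻¹ : B) * φ a₀) • 𝟙 ω' = α
    refine (cancel_epi (d.hom ≫ e'.hom)).1 ((cancel_mono e'.inv).1 ?_)
    simp only [Category.assoc, Linear.smul_comp, Linear.comp_smul, Category.id_comp, Iso.hom_inv_id, Category.comp_id]
    rw [mul_smul]
    refine (congrArg ((↑u⁻¹ : B) • ·) hQ).symm.trans ?_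
    rw [← hu, smul_smul, Units.inv_mul, one_smul]
  · refine subsingleton_of_forall_eq 0 fun α => ?_
    let Φ := (DerivedCategory.Q.commShiftIso n).app W'
    obtain ⟨m, hm⟩ := (RHomCx.good W' ((CategoryTheory.shiftFunctor (DRing.Cx B) n).obj W')).lift P'
      (d.hom ≫ e'.hom ≫ α ≫ (CategoryTheory.shiftFunctor (Dual.D B) n).map e'.inv ≫ Φ.inv)
    let c' := Cocycle.equivHomShift m
    obtain ⟨s, hs, c, hc, hcf⟩ := hloc n (c' : Cochain P' W' n) (c'.δ_eq_zero (n + 1))
    obtain ⟨β, hβ⟩ := exists_δ_of_ext_vanish π e n (hω.ext_self_subsingleton n hn) c hc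
    obtain ⟨u, hu⟩ := h.isUnit s hs
    have hmem : c' ∈ coboundaries P' W' n := (mem_coboundaries_iff _ (n - 1) (by omega)).2
      ⟨(↑u⁻¹ : B) • cloc β, by
        rw [δ_smul, ← cloc_δ _ _ (by omega), hβ, ← hcf, ← hu, smul_smul, Units.inv_mul, one_smul]⟩
    have h2 := (CohomologyClass.toHom_mk_eq_zero_iff c').2 hmem
    rw [CohomologyClass.toHom_mk, AddEquiv.symm_apply_apply, HomotopyCategory.quotient_map_eq_zero_iff] at h2
    have hQ : DerivedCategory.Q.map m = 0 := (TriH.Q_map_eq_zero_iff_of_isKInjective m).2 h2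
    rw [hm, Preadditive.IsIso.comp_left_eq_zero, Preadditive.IsIso.comp_left_eq_zero] at hQ
    refine (cancel_mono ((CategoryTheory.shiftFunctor (Dual.D B) n).map e'.inv ≫ Φ.inv)).1 ?_
    rw [zero_comp]
    exact hQ


/-- A localization of a dualizing complex is dualizing. -/
theorem isDualizing_loc [IsNoetherianRing A] {B : Type u} [CommRing B] {φ : A →+* B} {S : Submonoid A}
    (h : IsLocHom φ S) [DRing.HasLBaseChange φ] {ω : Dual.D A} (hω : Dual.IsDualizing A ω) :
    Dual.IsDualizing B ((DRing.LBaseChange φ).obj ω) := by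
  obtain ⟨W, a, b, hW, hinj, hzero, ⟨e⟩⟩ := exists_model hω.finite_injective_dimension
  haveI := hW
  haveI := hinj
  obtain ⟨P, π, hP, -, hπ⟩ := exists_free_resolution b (fun i hi => hzero i (Or.inr hi))
    (finite_homology_model e hω.finite_cohomology)
  haveI := hP
  haveI := hπ
  haveI : PreservesFiniteLimits (extM φ) := ModuleCat.preservesFiniteLimits_extendScalars_of_flat.{u} h.flat
  haveI : PreservesFiniteColimits (extM φ) :=
    haveI : PreservesColimitsOfSize.{0, 0} (extM φ) :=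
      (ModuleCat.extendRestrictScalarsAdj.{u, u, u} φ).leftAdjoint_preservesColimits
    inferInstance
  haveI : QuasiIso ((extC φ).map π) := inferInstance
  exact isDualizing_extC h hω a b hzero e ((asIso (DerivedCategory.Q.map ((extC φ).map π))).symm ≪≫
    (LBC.valueIso φ P).symm ≪≫ (DRing.LBaseChange φ).mapIso (asIso (DerivedCategory.Q.map π) ≪≫ e))

end Groth.Agent.DualCx
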