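import Groth.Agent.DualCx.Polynomial
import Groth.Agent.DualCx.FiniteGlobal
import Groth.Agent.DualCx.DimFun
import Groth.Agent.DualCx.Localization
import Mathlib.RingTheory.EssentialFiniteness
import Mathlib.RingTheory.FiniteType
import Groth.Prelude.Def_Found

/-!
# Existence of dualizing complexes and universal catenarity
-/

set_option autoImplicit false
set_option linter.style.haveILetI false

open CategoryTheory CategoryTheory.Limits
open scoped Polynomial

universe u

attribute [local instance] HasDerivedCategory.standard

namespace Groth.Agent.DualCx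

open Groth.Agent.LocCohLib Groth.Agent.RGamma

variable {A B : Type u} [CommRing A] [CommRing B]

/-- Existence of a dualizing complex. -/
def HasDC (A : Type u) [CommRing A] : Prop := ∃ ω : Dual.D A, Dual.IsDualizing A ω

theorem HasDC.isNoetherianRing (h : HasDC A) : IsNoetherianRing A := h.choose_spec.isNoetherianRing

theorem HasDC.of_surjective (h : HasDC A) {φ : A →+* B} (hs : Function.Surjective φ) : HasDC B := by
  haveI := h.isNoetherianRing
  haveI : IsNoetherianRing B := isNoetherianRing_of_surjective A B φ hs
  obtain ⟨ω, hω⟩ := h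
  obtain ⟨W, a, b, hW, hinj, hzero, ⟨e⟩⟩ := exists_model hω.finite_injective_dimension
  haveI := hW
  haveI := hinj
  exact ⟨_, isDualizing_coC_global (RingHom.Finite.of_surjective φ hs) hω a b hzero e⟩

theorem HasDC.polynomial (h : HasDC A) : HasDC A[X] := by
  haveI := h.isNoetherianRing
  obtain ⟨ω, hω⟩ := h
  obtain ⟨W, a, b, hW, hinj, hzero, ⟨e⟩⟩ := exists_model hω.finite_injective_dimension
  haveI := hW
  haveI := hinj
  exact ⟨_, isDualizing_polynomial hω a b hzero e (Iso.refl _)⟩

theorem HasDC.mvPolynomial (h : HasDC A) : ∀ n : ℕ, HasDC (MvPolynomial (Fin n) A)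
  | 0 => h.of_surjective (φ := (MvPolynomial.isEmptyAlgEquiv A (Fin 0)).symm.toRingHom)
      (MvPolynomial.isEmptyAlgEquiv A (Fin 0)).symm.surjective
  | n + 1 => (HasDC.mvPolynomial h n).polynomial.of_surjective (φ := (MvPolynomial.finSuccEquiv A n).symm.toRingHom)
      (MvPolynomial.finSuccEquiv A n).symm.surjective

theorem HasDC.of_finiteType (h : HasDC A) [Algebra A B] [Algebra.FiniteType A B] : HasDC B := by
  obtain ⟨n, f, hf⟩ := Algebra.FiniteType.iff_quotient_mvPolynomial''.1 (inferInstance : Algebra.FiniteType A B)
  exact (h.mvPolynomial n).of_surjective (φ := f.toRingHom) hf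

theorem HasDC.localization (h : HasDC A) (S : Submonoid A) [Algebra A B] [IsLocalization S B] : HasDC B := by
  haveI := h.isNoetherianRing
  obtain ⟨ω, hω⟩ := h
  obtain ⟨W, a, b, hW, hinj, hzero, ⟨e⟩⟩ := exists_model hω.finite_injective_dimension
  haveI := hW
  haveI := hinj
  exact ⟨_, isDualizing_extC (isLocHom_algebraMap S B) hω a b hzero e (Iso.refl _)⟩

theorem HasDC.of_essFiniteType (h : HasDC A) [Algebra A B] [Algebra.EssFiniteType A B] : HasDC B :=
  haveI := (inferInstance : IsLocalization (Algebra.EssFiniteType.submonoid A B) B)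
  (h.of_finiteType (B := Algebra.EssFiniteType.subalgebra A B)).localization (Algebra.EssFiniteType.submonoid A B)

/-- Rings with dualizing complexes are catenary. -/
theorem HasDC.isCatenary (h : HasDC A) : CAlg.IsCatenary A := by
  haveI := h.isNoetherianRing
  obtain ⟨ω, hω⟩ := h
  obtain ⟨W, a, b, hW, hinj, hzero, ⟨e⟩⟩ := exists_model hω.finite_injective_dimension
  haveI := hW
  haveI := hinj
  choose δ hδ using fun p : PrimeSpectrum A => exists_residual_at a b hω hzero e p.asIdeal
  constructor
  · intro p q _
    haveI : q.asIdeal.FiniteHeight := inferInstance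
    refine ⟨q.asIdeal.height.toNat, fun s _ hs => ?_⟩
    have h1 : (s.length : ℕ∞) ≤ q.asIdeal.height := by
      rw [PrimeSpectrum.height_eq_orderHeight]
      exact Order.length_le_height (by rw [hs])
    rw [← ENat.natCast_toNat (Ideal.height_ne_top q.2.ne_top)] at h1
    exact_mod_cast h1
  · intro s t hh hl hs ht
    have key : ∀ (s : LTSeries (PrimeSpectrum A)), (∀ i : Fin s.length, s (Fin.castSucc i) ⋖ s (Fin.succ i)) →
        δ s.last = δ s.head + s.length := fun s hs => by
      have : ∀ (k : ℕ) (hk : k ≤ s.length), δ (s ⟨k, by omega⟩) = δ s.head + k := by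
        intro k
        induction k with
        | zero => intro _; simp [RelSeries.head]
        | succ k ih =>
          intro hk
          have hc := hs ⟨k, by omega⟩
          have := degree_covBy (W := W) (p := (s ⟨k, by omega⟩).asIdeal) (q := (s ⟨k + 1, by omega⟩).asIdeal)
            hc.lt (fun r hr h1 h2 => by
              by_contra hne
              exact hc.2 (c := ⟨r, hr⟩) h1 (lt_of_le_of_ne h2 fun he => hne (congrArg PrimeSpectrum.asIdeal he))) (hδ _).1 (hδ _).1
          rw [ih (by omega)] at this
          push_cast
          omega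
      exact this s.length le_rfl
    have h1 := key s hs
    have h2 := key t ht
    rw [hh, hl] at h1
    omega

end Groth.Agent.DualCx
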