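import Groth.Agent.DualCx.GorFibres
import Groth.Agent.FlatSerre.Invariants
import Groth.Agent.ArtinFlat.HB
import Groth.Agent.GorLib.FieldExt
import Groth.Agent.S0543
import Mathlib.RingTheory.AdicCompletion.AsTensorProduct

/-!
# Fibres of flat maps compatible with dualizing complexes
-/

set_option autoImplicit false
set_option linter.style.haveILetI false

open CategoryTheory CategoryTheory.Limits TensorProduct

universe u

attribute [local instance] HasDerivedCategory.standard

namespace Groth.Agent.DualCx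

open Groth.Agent.LocCohLib Groth.Agent.RGamma

variable {A B : Type u} [CommRing A] [CommRing B] [Algebra A B] [IsNoetherianRing A] [IsNoetherianRing B]

/-- The dualizing complex induced on the closed fibre. -/
theorem fibre_dualizing [Module.Flat A B] {W : DRing.Cx A} [∀ i, Injective (W.X i)] {E : DRing.Cx B} [E.IsKInjective]
    [∀ i, Injective (E.X i)] (a b : ℤ) (hW : ∀ i, i < a → IsZero (W.X i))
    (hE : ∀ i, (i < a ∨ b < i) → IsZero (E.X i)) {R : Dual.D B} (hR : Dual.IsDualizing B R)
    (eE : DerivedCategory.Q.obj E ≅ R) (f : (extC (algebraMap A B)).obj W ⟶ E) [QuasiIso f] (n : Ideal B) [n.IsPrime] :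
    let V' := (coC (Ideal.Quotient.mk ((n.comap (algebraMap A B)).map (algebraMap A (Localization.AtPrime n))))).obj (WAt E n)
    Dual.IsDualizing _ (DerivedCategory.Q.obj V') ∧
      ∀ (i : ℤ) (r : ℕ), Nonempty (EH (WAt W (n.comap (algebraMap A B)))
          (Localization.AtPrime (n.comap (algebraMap A B)) ⧸
            IsLocalRing.maximalIdeal (Localization.AtPrime (n.comap (algebraMap A B)))) i
          ≃ₗ[Localization.AtPrime (n.comap (algebraMap A B))] (Fin r → Localization.AtPrime (n.comap (algebraMap A B)) ⧸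
            IsLocalRing.maximalIdeal (Localization.AtPrime (n.comap (algebraMap A B))))) →
        Nonempty (V'.homology i ≅ ModuleCat.of (EGA4.FibLocRing A B n) (Fin r → EGA4.FibLocRing A B n)) := by
  intro V'
  let φ := algebraMap A B
  let p := n.comap φ
  let C := Localization.AtPrime n
  let Ap := Localization.AtPrime p
  let χ := algebraMap B C
  have hχ := isLocHom_prime n
  haveI := preservesLimits_extM hχ.flat
  haveI : PreservesFiniteColimits (extM χ) :=
    haveI : PreservesColimitsOfSize.{0, 0} (extM χ) :=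
      (ModuleCat.extendRestrictScalarsAdj.{u, u, u} χ).leftAdjoint_preservesColimits
    inferInstance
  haveI : ∀ i, Injective ((WAt E n).X i) := fun i => hχ.injective_ext (E.X i)
  have hEn : ∀ i, (i < a ∨ b < i) → IsZero ((WAt E n).X i) := fun i hi => (extM χ).map_isZero (hE i hi)
  haveI : CochainComplex.IsStrictlyGE (WAt E n) a :=
    (CochainComplex.isStrictlyGE_iff _ _).2 fun i hi => hEn i (Or.inl hi)
  haveI : (WAt E n).IsKInjective := CochainComplex.isKInjective_of_injective _ a
  haveI : QuasiIso ((extC χ).map f) := inferInstance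
  let f₂ : (extC (χ.comp φ)).obj W ⟶ WAt E n := (DTen.extCompCx φ χ).inv.app W ≫ (extC χ).map f
  haveI : QuasiIso f₂ := inferInstance
  obtain ⟨ψ, hψ, -, hmax, hdual⟩ := exists_fibre_duals a hW n (fun i hi => hEn i (Or.inl hi)) f₂
  haveI : IsNoetherianRing C := IsLocalization.isNoetherianRing n.primeCompl _ inferInstance
  haveI : IsNoetherianRing Ap := IsLocalization.isNoetherianRing p.primeCompl _ inferInstance
  let P := p.map (algebraMap A C)
  let π := Ideal.Quotient.mk P
  have hE' := isDualizing_extC hχ hR a b hE eE (Iso.refl (DerivedCategory.Q.obj (WAt E n)))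
  refine ⟨isDualizing_coC_global (φ := π) (RingHom.Finite.of_surjective π Ideal.Quotient.mk_surjective) hE' a b hEn
    (Iso.refl _), fun i r ⟨er⟩ => ?_⟩
  let FF := ModuleCat.of (C ⧸ P) (C ⧸ P)
  obtain ⟨eF⟩ : Nonempty ((resM π).obj FF ≅ ModuleCat.of C (C ⧸ P)) :=
    ⟨(LinearEquiv.mk (M := (resM π).obj FF) (M₂ := C ⧸ P)
      { toFun := fun x => x, map_add' := fun _ _ => rfl, map_smul' := fun c x => (Algebra.smul_def c (show C ⧸ P from x)).symm }
      (fun x => x) (fun _ => rfl) (fun _ => rfl)).toModuleIso⟩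
  letI := ψ.toAlgebra
  let kC : C ⊗[Ap] (Ap ⧸ IsLocalRing.maximalIdeal Ap) ≃ₗ[C] C ⧸ P :=
    (Algebra.TensorProduct.quotIdealMapEquivTensorQuot C (IsLocalRing.maximalIdeal Ap)).symm.toLinearEquiv ≪≫ₗ
      Submodule.quotEquivOfEq _ _ hmax
  let epi : EH (WAt E n) (C ⧸ P) i ≃ₗ[C] (Fin r → C ⧸ P) :=
    (hdual i).some ≪≫ₗ er.baseChange Ap C ≪≫ₗ
      TensorProduct.piRight Ap C C (fun _ : Fin r => Ap ⧸ IsLocalRing.maximalIdeal Ap) ≪≫ₗ
      LinearEquiv.piCongrRight fun _ : Fin r => kC
  obtain ⟨T, hT⟩ := exists_coT (φ := π) (WAt E n) FF i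
  let Ee := (EH_congr (WAt E n) eF i).some.toLinearEquiv
  let g : (dCx V' FF).homology i ≃+ (Fin r → C ⧸ P) := T.trans (Ee.toAddEquiv.trans epi.toAddEquiv)
  refine ⟨((HomologicalComplex.homologyFunctor _ _ i).mapIso (dSelfIso V')).symm ≪≫
    LinearEquiv.toModuleIso (X₁ := (dCx V' FF).homology i) (g.toLinearEquiv (R := C ⧸ P) fun x v => ?_)⟩
  obtain ⟨c, rfl⟩ := Ideal.Quotient.mk_surjective x
  show epi (Ee (T (π c • v))) = π c • epi (Ee (T v))
  refine (congrArg (fun z => epi (Ee z)) (hT c v)).trans ?_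
  refine (congrArg epi (map_smul Ee c (T v))).trans ((map_smul epi _ _).trans ?_)
  exact funext fun j => Algebra.smul_def (A := C ⧸ P) c ((epi (Ee (T v))) j)

/-- Flat maps carrying a dualizing complex to a dualizing complex have Gorenstein fibres. -/
theorem gorenstein_fibLocRing_of_dualizing [Module.Flat A B] {ω : Dual.D A} (hω : Dual.IsDualizing A ω)
    {W : DRing.Cx A} [W.IsKInjective] [∀ i, Injective (W.X i)] (a b : ℤ)
    (hzero : ∀ i, (i < a ∨ b < i) → IsZero (W.X i)) (e : DerivedCategory.Q.obj W ≅ ω)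
    (hR : Dual.IsDualizing B (DerivedCategory.Q.obj ((extC (algebraMap A B)).obj W))) (n : Ideal B) [n.IsPrime] :
    LocCoh.IsGorensteinLocalRing (EGA4.FibLocRing A B n) := by
  obtain ⟨E, aE, bE, hEK, hEinj, hEzero, ⟨eE⟩⟩ := exists_model hR.finite_injective_dimension
  haveI := hEK
  haveI := hEinj
  obtain ⟨f', hf'⟩ := (CochainComplex.IsKInjective.Qh_map_bijective
    ((HomotopyCategory.quotient _ _).obj ((extC (algebraMap A B)).obj W)) E).surjective
    ((DerivedCategory.quotientCompQhIso _).hom.app _ ≫ eE.inv ≫ (DerivedCategory.quotientCompQhIso _).inv.app E)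
  obtain ⟨f, rfl⟩ := (HomotopyCategory.quotient _ _).map_surjective f'
  haveI : IsIso (DerivedCategory.Q.map f) := by
    have h1 : DerivedCategory.Q.map f = eE.inv := by
      have h2 := (DerivedCategory.quotientCompQhIso (ModuleCat.{u} B)).hom.naturality f
      rw [Functor.comp_map, hf'] at h2
      simpa using h2.symm
    rw [h1]; infer_instance
  haveI : QuasiIso f := (DerivedCategory.isIso_Q_map_iff_quasiIso _ _).1 inferInstance
  obtain ⟨hV, hhom⟩ := fibre_dualizing (min a aE) (max b bE) (fun i hi => hzero i (Or.inl (by omega)))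
    (fun i hi => hEzero i (by omega)) hR eE f n
  let p := n.comap (algebraMap A B)
  let Ap := Localization.AtPrime p
  have hl := isLocHom_prime p
  haveI : IsNoetherianRing Ap := IsLocalization.isNoetherianRing p.primeCompl _ inferInstance
  haveI : ∀ i, Injective ((WAt W p).X i) := fun i => hl.injective_ext (W.X i)
  have hzero' : ∀ i, (i < a ∨ b < i) → IsZero ((WAt W p).X i) := fun i hi => (extM _).map_isZero (hzero i hi)
  haveI : CochainComplex.IsStrictlyGE (WAt W p) a :=
    (CochainComplex.isStrictlyGE_iff _ _).2 fun i hi => hzero' i (Or.inl hi)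
  haveI : (WAt W p).IsKInjective := CochainComplex.isKInjective_of_injective _ a
  have hωp := isDualizing_extC hl hω a b hzero e (Iso.refl (DerivedCategory.Q.obj (WAt W p)))
  obtain ⟨d, hd, ⟨gd⟩⟩ := exists_degree (WAt W p) (IsLocalRing.maximalIdeal Ap) a b hzero' (Iso.refl _) hωp
  haveI : IsNoetherianRing (Localization.AtPrime n) := IsLocalization.isNoetherianRing n.primeCompl _ inferInstance
  let F := EGA4.FibLocRing A B n
  haveI : Nontrivial F := Ideal.Quotient.nontrivial_iff.2 fun htop =>
    (IsLocalRing.maximalIdeal.isMaximal (Localization.AtPrime n)).ne_top (top_le_iff.1 (htop ▸ (by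
      rw [← Localization.AtPrime.map_eq_maximalIdeal, IsScalarTower.algebraMap_eq A B (Localization.AtPrime n), ← Ideal.map_map]
      exact Ideal.map_mono Ideal.map_comap_le)))
  haveI : IsLocalRing F := IsLocalRing.of_surjective' (Ideal.Quotient.mk _) Ideal.Quotient.mk_surjective
  have hz : ∀ i, i ≠ d → IsZero (((coC (Ideal.Quotient.mk _)).obj (WAt E n)).homology i) := fun i hi => by
    haveI := hd i hi
    obtain ⟨g⟩ := hhom i 0 ⟨LinearEquiv.ofSubsingleton _ _⟩
    exact (ModuleCat.isZero_of_subsingleton _).of_iso g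
  obtain ⟨g⟩ := hhom d 1 ⟨gd ≪≫ₗ (LinearEquiv.funUnique (Fin 1) Ap _).symm⟩
  obtain ⟨gs⟩ := nonempty_iso_single _ d hz
  exact (gorenstein_iff_single hV).2 ⟨d, ⟨gs ≪≫ (DerivedCategory.singleFunctor (ModuleCat.{u} F) d).mapIso
    (g ≪≫ (LinearEquiv.funUnique (Fin 1) F F).toModuleIso)⟩⟩

/-- A dualizing complex with free cohomology over an artinian local ring. -/
theorem free_homology_artinian {F : Type u} [CommRing F] [IsLocalRing F] [IsArtinianRing F] {V : DRing.Cx F}
    (hV : Dual.IsDualizing F (DerivedCategory.Q.obj V)) (r : ℤ → ℕ)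
    (hr : ∀ i, Nonempty (V.homology i ≅ ModuleCat.of F (Fin (r i) → F))) :
    ∃ c : ℤ, r c = 1 ∧ ∀ i, i ≠ c → r i = 0 := by
  obtain ⟨W, a, b, hW, hinj, hzero, ⟨e⟩⟩ := exists_model hV.finite_injective_dimension
  haveI := hW
  haveI := hinj
  obtain ⟨c, h1, ⟨g⟩⟩ := exists_degree W (IsLocalRing.maximalIdeal F) a b hzero e hV
  have hres : IsResidual W c := ⟨inferInstance, fun N _ i => finite_dual a (fun j hj => hzero j (Or.inl hj))
    (finite_homology_model e hV.finite_cohomology) N i, h1, g.toEquiv.nontrivial⟩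
  have hdim : Module.supportDim F F ≤ (0 : ℕ) :=
    (Module.supportDim_le_ringKrullDim F F).trans (Ring.krullDimLE_iff.1 (inferInstance : Ring.KrullDimLE 0 F))
  have hz : ∀ i, i ≠ c → IsZero (V.homology i) := fun i hi => by
    haveI : Subsingleton ((HomologicalComplex.homologyFunctor (ModuleCat.{u} F) (ComplexShape.up ℤ) i).obj
        (dCx W (ModuleCat.of F F))) := by
      rcases lt_or_gt_of_ne hi with h | h
      · exact hres.lower F 0 hdim i (by omega)
      · exact hres.upper F i h
    exact (ModuleCat.isZero_of_subsingleton _).of_iso (((DerivedCategory.homologyFunctorFactors (ModuleCat.{u} F) i).app V).symm ≪≫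
      (DerivedCategory.homologyFunctor (ModuleCat.{u} F) i).mapIso e.symm ≪≫
      (DerivedCategory.homologyFunctorFactors (ModuleCat.{u} F) i).app W ≪≫
      (HomologicalComplex.homologyFunctor _ _ i).mapIso (dSelfIso W).symm)
  have hzero' : ∀ i, i ≠ c → r i = 0 := fun i hi => by
    by_contra h
    haveI : Nonempty (Fin (r i)) := ⟨⟨0, Nat.pos_of_ne_zero h⟩⟩
    haveI := ModuleCat.subsingleton_of_isZero ((hz i hi).of_iso (hr i).some.symm)
    exact not_nontrivial (Fin (r i) → F) inferInstance
  refine ⟨c, ?_, hzero'⟩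
  obtain ⟨gs⟩ := nonempty_iso_single V c hz
  let M := ModuleCat.of F (Fin (r c) → F)
  let K := DerivedCategory.Q.obj V
  let gK : K ≅ (DerivedCategory.singleFunctor (ModuleCat.{u} F) c).obj M :=
    gs ≪≫ (DerivedCategory.singleFunctor (ModuleCat.{u} F) c).mapIso (hr c).some
  let l1 : F →ₗ[F] (K ⟶ K) := LinearMap.toSpanSingleton F (K ⟶ K) (𝟙 K)
  let e1 : F ≃ₗ[F] (K ⟶ K) := LinearEquiv.ofBijective l1 hV.toEnd_bijective
  let e2 : (M ⟶ M) ≃ₗ[F] ((DerivedCategory.singleFunctor (ModuleCat.{u} F) c).obj M ⟶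
      (DerivedCategory.singleFunctor (ModuleCat.{u} F) c).obj M) :=
    LinearEquiv.ofBijective ((DerivedCategory.singleFunctor (ModuleCat.{u} F) c).mapLinearMap F)
      ⟨(DerivedCategory.singleFunctor (ModuleCat.{u} F) c).map_injective,
        (DerivedCategory.singleFunctor (ModuleCat.{u} F) c).map_surjective⟩
  let e3 : F ≃ₗ[F] ((Fin (r c) → F) →ₗ[F] (Fin (r c) → F)) :=
    e1 ≪≫ₗ Linear.homCongr F gK gK ≪≫ₗ e2.symm ≪≫ₗ ModuleCat.homLinearEquiv (S := F)
  have h := e3.finrank_eq
  rw [Module.finrank_self, Module.finrank_linearMap, Module.finrank_fin_fun] at h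
  exact (mul_eq_one.1 h.symm).1

/-- Faithfully flat descent of dualizing complexes. -/
theorem isDualizing_descent' [Module.FaithfullyFlat A B] [DRing.HasLBaseChange (algebraMap A B)] {K : Dual.D A}
    (hR : Dual.IsDualizing B ((DRing.LBaseChange (algebraMap A B)).obj K)) : Dual.IsDualizing A K := by
  let φ := algebraMap A B
  set R := (DRing.LBaseChange φ).obj K
  have hflat : φ.Flat := RingHom.flat_algebraMap_iff.2 inferInstance
  have hff : φ.FaithfullyFlat := RingHom.faithfullyFlat_algebraMap_iff.2 inferInstance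
  haveI := preservesLimits_extM hflat
  haveI : PreservesFiniteColimits (extM φ) :=
    haveI : PreservesColimitsOfSize.{0, 0} (extM φ) :=
      (ModuleCat.extendRestrictScalarsAdj.{u, u, u} φ).leftAdjoint_preservesColimits
    inferInstance
  obtain ⟨E, aE, bE, hEK, hEinj, hEzero, ⟨eE⟩⟩ := exists_model hR.finite_injective_dimension
  haveI := hEK
  haveI := hEinj
  let W0 := (DerivedCategory.Q (C := ModuleCat.{u} A)).objPreimage K
  let e0 : DerivedCategory.Q.obj W0 ≅ K := (DerivedCategory.Q (C := ModuleCat.{u} A)).objObjPreimageIso K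
  obtain ⟨eW0⟩ := nonempty_extC_iso_LBC_flat hflat W0 e0
  have hH : ∀ i, Nonempty ((DerivedCategory.homologyFunctor (ModuleCat.{u} B) i).obj R ≅
      (extM φ).obj (ModuleCat.of A (Dual.HD A K i))) := fun i =>
    ⟨(DerivedCategory.homologyFunctor (ModuleCat.{u} B) i).mapIso eW0.symm ≪≫
      (DerivedCategory.homologyFunctorFactors (ModuleCat.{u} B) i).app ((extC φ).obj W0) ≪≫
      (W0.sc i).mapHomologyIso (extM φ) ≪≫ (extM φ).mapIso
        (((DerivedCategory.homologyFunctorFactors (ModuleCat.{u} A) i).app W0).symm ≪≫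
          (DerivedCategory.homologyFunctor (ModuleCat.{u} A) i).mapIso e0)⟩
  have hfin : ∀ i, Module.Finite A (Dual.HD A K i) := fun i => by
    haveI : Module.Finite B ((DerivedCategory.homologyFunctor (ModuleCat.{u} B) i).obj R) := hR.finite_cohomology i
    exact finite_of_extM hff _ (Module.Finite.equiv (hH i).some.toLinearEquiv)
  have hlow : ∀ i, i < aE → Subsingleton (Dual.HD A K i) := fun i hi => by
    haveI := ModuleCat.subsingleton_of_isZero (((E.sc i).isZero_homology_of_isZero_X₂ (hEzero i (Or.inl hi))))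
    have hs : Subsingleton ((DerivedCategory.homologyFunctor (ModuleCat.{u} B) i).obj R) :=
      (((DerivedCategory.homologyFunctor (ModuleCat.{u} B) i).mapIso eE.symm ≪≫
        (DerivedCategory.homologyFunctorFactors (ModuleCat.{u} B) i).app E).toLinearEquiv.toEquiv.subsingleton_congr).2 ‹_›
    exact subsingleton_of_extM hff _ ((hH i).some.toLinearEquiv.toEquiv.subsingleton_congr.1 hs)
  obtain ⟨W, hWK, hWinj, hW, ⟨eW⟩⟩ := exists_model_below aE hlow
  haveI := hWK
  haveI := hWinj
  have qis : ∀ (W : DRing.Cx A), (DerivedCategory.Q.obj W ≅ K) →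
      ∃ f : (extC φ).obj W ⟶ E, QuasiIso f := fun W eW => by
    obtain ⟨eB⟩ := nonempty_extC_iso_LBC_flat hflat W eW
    obtain ⟨f', hf'⟩ := (CochainComplex.IsKInjective.Qh_map_bijective
      ((HomotopyCategory.quotient _ _).obj ((extC φ).obj W)) E).surjective
      ((DerivedCategory.quotientCompQhIso _).hom.app _ ≫ (eB ≪≫ eE.symm).hom ≫
        (DerivedCategory.quotientCompQhIso _).inv.app E)
    obtain ⟨f, rfl⟩ := (HomotopyCategory.quotient _ _).map_surjective f'
    haveI : IsIso (DerivedCategory.Q.map f) := by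
      have h1 : DerivedCategory.Q.map f = (eB ≪≫ eE.symm).hom := by
        have h2 := (DerivedCategory.quotientCompQhIso (ModuleCat.{u} B)).hom.naturality f
        rw [Functor.comp_map, hf'] at h2
        simpa using h2.symm
      rw [h1]; infer_instance
    exact ⟨f, (DerivedCategory.isIso_Q_map_iff_quasiIso _ _).1 inferInstance⟩
  obtain ⟨f, hf⟩ := qis W eW
  obtain ⟨V, hvan, hVinj, ⟨eV⟩⟩ := DRingPC.injAmp_of_extD (A := A) (K := K) aE bE fun I i hi => by
    refine (homIso W eW (ModuleCat.of A (A ⧸ I)) i).toEquiv.subsingleton_congr.2 ?_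
    rcases hi with hi | hi
    · exact subsingleton_dual_of_isZero (hW i hi) _
    · haveI : Module.FinitePresentation A (ModuleCat.of A (A ⧸ I)) := Module.finitePresentation_of_finite A _
      obtain ⟨g⟩ := nonempty_dual_ext hflat aE hW (fun j hj => hEzero j (Or.inl hj)) f (ModuleCat.of A (A ⧸ I)) i
      haveI := subsingleton_dual_of_isZero (hEzero i (Or.inr hi)) ((extM φ).obj (ModuleCat.of A (A ⧸ I)))
      exact subsingleton_of_extM hff _ g.symm.toEquiv.subsingleton
  haveI : ∀ i, Injective (V.X i) := fun i => by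
    haveI := hVinj i
    exact (Module.injective_iff_injective_object A (V.X i)).1 (hVinj i)
  haveI : V.IsStrictlyGE aE := (CochainComplex.isStrictlyGE_iff _ _).2 fun i hi => hvan i (Or.inl hi)
  haveI : V.IsKInjective := CochainComplex.isKInjective_of_injective V aE
  obtain ⟨fV, hfV⟩ := qis V eV
  refine isDualizing_of_local aE bE hvan eV hfin fun m hm => ?_
  obtain ⟨⟨n₀, hn₀⟩, hnm⟩ := PrimeSpectrum.comap_surjective_of_faithfullyFlat (A := A) (B := B) ⟨m, hm.isPrime⟩
  have hnm' : n₀.comap φ = m := congrArg PrimeSpectrum.asIdeal hnm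
  obtain ⟨n, hn, hle⟩ := Ideal.exists_minimalPrimes_le (I := m.map φ) (J := n₀)
    (Ideal.map_le_iff_le_comap.2 hnm'.ge)
  haveI := hn.1.1
  have hnm2 : n.comap φ = m := le_antisymm ((Ideal.comap_mono hle).trans hnm'.le) (Ideal.map_le_iff_le_comap.1 hn.1.2)
  clear hnm hle hnm'
  subst hnm2
  obtain ⟨hV, hhom⟩ := fibre_dualizing aE bE (fun i hi => hvan i (Or.inl hi)) hEzero hR eE fV n
  let p := n.comap φ
  let Ap := Localization.AtPrime p
  let C := Localization.AtPrime n
  let F := EGA4.FibLocRing A B n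
  haveI : IsNoetherianRing C := IsLocalization.isNoetherianRing n.primeCompl _ inferInstance
  haveI : IsNoetherianRing Ap := IsLocalization.isNoetherianRing p.primeCompl _ inferInstance
  have hmaxF : p.map (algebraMap A C) ≤ IsLocalRing.maximalIdeal C := by
    rw [← Localization.AtPrime.map_eq_maximalIdeal, IsScalarTower.algebraMap_eq A B C, ← Ideal.map_map]
    exact Ideal.map_mono Ideal.map_comap_le
  haveI : Nontrivial F := Ideal.Quotient.nontrivial_iff.2 fun htop =>
    (IsLocalRing.maximalIdeal.isMaximal C).ne_top (top_le_iff.1 (htop ▸ hmaxF))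
  haveI : IsLocalRing F := IsLocalRing.of_surjective' (Ideal.Quotient.mk _) Ideal.Quotient.mk_surjective
  haveI : IsArtinianRing F := by
    have hQ : ∀ Q : Ideal F, Q.IsPrime → Q.IsMaximal := fun Q hQ => by
      let Q' := Q.comap (Ideal.Quotient.mk (p.map (algebraMap A C)))
      haveI : Q'.IsPrime := Ideal.comap_isPrime _ Q
      let q := Q'.comap (algebraMap B C)
      have h1 : q ≤ n := by
        intro x hx
        by_contra hxn
        exact (Ideal.IsPrime.ne_top (I := Q') inferInstance) (Q'.eq_top_of_isUnit_mem hx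
          (IsLocalization.map_units C (⟨x, hxn⟩ : n.primeCompl)))
      have h2 : p.map φ ≤ q := by
        rw [Ideal.map_le_iff_le_comap]
        intro x hx
        show Ideal.Quotient.mk (p.map (algebraMap A C)) (algebraMap B C (φ x)) ∈ Q
        rw [show algebraMap B C (φ x) = algebraMap A C x from (IsScalarTower.algebraMap_apply A B C x).symm,
          Ideal.Quotient.eq_zero_iff_mem.2 (Ideal.mem_map_of_mem _ hx)]
        exact zero_mem _
      have h3 : q = n := le_antisymm h1 (hn.2 ⟨Ideal.comap_isPrime _ Q', h2⟩ h1)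
      have h4 : IsLocalRing.maximalIdeal C ≤ Q' := by
        rw [← Localization.AtPrime.map_eq_maximalIdeal]
        exact (Ideal.map_mono h3.ge).trans Ideal.map_comap_le
      have h5 : IsLocalRing.maximalIdeal F ≤ Q := fun x hx => by
        obtain ⟨y, rfl⟩ := Ideal.Quotient.mk_surjective x
        exact h4 fun hy => hx (hy.map _)
      rw [← (IsLocalRing.maximalIdeal.isMaximal F).eq_of_le hQ.ne_top h5]
      infer_instance
    haveI : Ring.KrullDimLE 0 F := Ring.krullDimLE_zero_iff.2 hQ
    exact IsNoetherianRing.isArtinianRing_of_krullDimLE_zero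
  have hl := isLocHom_prime p
  haveI : ∀ i, Injective ((WAt V p).X i) := fun i => hl.injective_ext (V.X i)
  have hVp : ∀ i, (i < aE ∨ bE < i) → IsZero ((WAt V p).X i) := fun i hi => (extM _).map_isZero (hvan i hi)
  haveI : CochainComplex.IsStrictlyGE (WAt V p) aE :=
    (CochainComplex.isStrictlyGE_iff _ _).2 fun i hi => hVp i (Or.inl hi)
  haveI : (WAt V p).IsKInjective := CochainComplex.isKInjective_of_injective _ aE
  have hfinH : ∀ i, Module.Finite Ap ((WAt V p).homology i) := fun i => by
    haveI : Module.Finite A (V.sc i).homology := finite_homology_model eV hfin i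
    haveI := preservesLimits_extM hl.flat
    haveI : PreservesFiniteColimits (extM (algebraMap A Ap)) :=
      haveI : PreservesColimitsOfSize.{0, 0} (extM (algebraMap A Ap)) :=
        (ModuleCat.extendRestrictScalarsAdj.{u, u, u} (algebraMap A Ap)).leftAdjoint_preservesColimits
      inferInstance
    haveI := finite_extM (algebraMap A Ap) (V.sc i).homology
    exact Module.Finite.equiv ((V.sc i).mapHomologyIso (extM (algebraMap A Ap))).toLinearEquiv.symm
  have hH' : ∀ i, ∃ r : ℕ, Nonempty (EH (WAt V p) (Ap ⧸ IsLocalRing.maximalIdeal Ap) i ≃ₗ[Ap]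
      (Fin r → Ap ⧸ IsLocalRing.maximalIdeal Ap)) := fun i => by
    haveI : Module.Finite Ap (EH (WAt V p) (Ap ⧸ IsLocalRing.maximalIdeal Ap) i) :=
      finite_dual aE (fun j hj => hVp j (Or.inl hj)) hfinH _ i
    exact exists_equiv_pi_residue _ fun c hc x =>
      smul_eq_zero_of_killed (WAt V p) (ModuleCat.of Ap (Ap ⧸ IsLocalRing.maximalIdeal Ap))
        (fun y => by
          obtain ⟨z, rfl⟩ := Ideal.Quotient.mk_surjective y
          exact Ideal.Quotient.eq_zero_iff_mem.2 (Ideal.mul_mem_right _ _ hc)) i x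
  choose r er using hH'
  obtain ⟨c, hc1, hc0⟩ := free_homology_artinian (F := F) hV r fun i => hhom i (r i) (er i)
  refine ⟨_, ⟨Iso.refl _⟩, isDualizing_of_residue _ (fun i => ?_) ⟨aE, fun i hi => ?_⟩ c (fun i hi => ?_) ?_⟩
  · haveI : Module.Finite Ap ((HomologicalComplex.homologyFunctor (ModuleCat.{u} Ap) (ComplexShape.up ℤ) i).obj (WAt V p)) :=
      hfinH i
    exact Module.Finite.equiv
      ((DerivedCategory.homologyFunctorFactors (ModuleCat.{u} Ap) i).app (WAt V p)).toLinearEquiv.symm
  · haveI := ModuleCat.subsingleton_of_isZero ((WAt V p).sc i |>.isZero_homology_of_isZero_X₂ (hVp i (Or.inl hi)))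
    exact (((DerivedCategory.homologyFunctorFactors (ModuleCat.{u} Ap) i).app (WAt V p)).toLinearEquiv.toEquiv.subsingleton_congr).2 ‹_›
  · haveI : IsEmpty (Fin (r i)) := by rw [hc0 i hi]; infer_instance
    haveI : Subsingleton (EH (WAt V p) (Ap ⧸ IsLocalRing.maximalIdeal Ap) i) := (er i).some.toEquiv.subsingleton
    exact (homIso (WAt V p) (Iso.refl _) (ModuleCat.of Ap (Ap ⧸ IsLocalRing.maximalIdeal Ap)) i).toEquiv.subsingleton
  · exact ⟨homIso (WAt V p) (Iso.refl _) (ModuleCat.of Ap (Ap ⧸ IsLocalRing.maximalIdeal Ap)) c ≪≫ₗ (er c).some ≪≫ₗ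
      LinearEquiv.funCongrLeft Ap _ (finCongr hc1.symm) ≪≫ₗ LinearEquiv.funUnique (Fin 1) Ap _⟩

/-- Formal fibres of a local ring with a dualizing complex are Gorenstein. -/
theorem gorenstein_formalFibre {A : Type u} [CommRing A] [IsLocalRing A] [IsNoetherianRing A]
    (h : HasDC A) (p : Ideal A) [p.IsPrime] : LocCoh.IsGorensteinRing (EGA4.formalFibre A p) := by
  obtain ⟨ω, hω⟩ := h
  obtain ⟨W, a, b, hW, hinj, hzero, ⟨e⟩⟩ := exists_model hω.finite_injective_dimension
  haveI := hW
  haveI := hinj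
  let Ah := AdicCompletion (IsLocalRing.maximalIdeal A) A
  haveI : IsNoetherianRing Ah := Groth.Agent.S0543.result A _
  haveI : IsLocalRing Ah := AdicCompletion.isLocalRing_of_fg (IsNoetherian.noetherian _)
  let φ := algebraMap A Ah
  have hflat : φ.Flat := RingHom.flat_algebraMap_iff.2 inferInstance
  let M := (IsLocalRing.maximalIdeal A).map φ
  haveI : M.IsMaximal := AdicCompletion.isMaximal_map_of_le _ _ le_rfl (IsNoetherian.noetherian _)
  have hM : M = IsLocalRing.maximalIdeal Ah := IsLocalRing.eq_maximalIdeal ‹_›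
  have hR : Dual.IsDualizing Ah (DerivedCategory.Q.obj ((extC φ).obj W)) := by
    refine isDualizing_LBC_of_points hflat hω a b (fun i hi => hzero i (Or.inl hi)) e (Iso.refl _) fun n hn V _ hV g₂ _ => ?_
    have hnM : n = M := by rw [hM]; exact IsLocalRing.eq_maximalIdeal hn
    obtain ⟨ψ, hψ, -, hmax, hdual⟩ := exists_fibre_duals a (fun i hi => hzero i (Or.inl hi)) n hV g₂
    let q := n.comap φ
    let Aq := Localization.AtPrime q
    have hl := isLocHom_prime q
    haveI : IsNoetherianRing Aq := IsLocalization.isNoetherianRing q.primeCompl _ inferInstance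
    haveI : ∀ i, Injective ((WAt W q).X i) := fun i => hl.injective_ext (W.X i)
    have hzero' : ∀ i, (i < a ∨ b < i) → IsZero ((WAt W q).X i) := fun i hi => (extM _).map_isZero (hzero i hi)
    haveI : CochainComplex.IsStrictlyGE (WAt W q) a :=
      (CochainComplex.isStrictlyGE_iff _ _).2 fun i hi => hzero' i (Or.inl hi)
    haveI : (WAt W q).IsKInjective := CochainComplex.isKInjective_of_injective _ a
    have hωp := isDualizing_extC hl hω a b hzero e (Iso.refl (DerivedCategory.Q.obj (WAt W q)))
    obtain ⟨d, hd, ⟨gd⟩⟩ := exists_degree (WAt W q) (IsLocalRing.maximalIdeal Aq) a b hzero' (Iso.refl _) hωp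
    have hdb : d ≤ b := by
      by_contra hcon
      haveI := subsingleton_dual_of_isZero (hzero' d (Or.inr (not_le.1 hcon))) (ModuleCat.of Aq (Aq ⧸ IsLocalRing.maximalIdeal Aq))
      haveI := gd.symm.toEquiv.subsingleton
      exact not_nontrivial (Aq ⧸ IsLocalRing.maximalIdeal Aq) inferInstance
    have hPm : q.map (algebraMap A (Localization.AtPrime n)) = IsLocalRing.maximalIdeal (Localization.AtPrime n) := by
      rw [← Localization.AtPrime.map_eq_maximalIdeal, IsScalarTower.algebraMap_eq A Ah (Localization.AtPrime n), ← Ideal.map_map]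
      refine congrArg (Ideal.map _) (le_antisymm Ideal.map_comap_le ?_)
      calc n = M := hnM
        _ ≤ q.map φ := Ideal.map_mono (Ideal.map_le_iff_le_comap.1 hnM.ge)
    refine ⟨d, hdb, fun i hi => ?_, ?_⟩
    · haveI := hd i hi
      haveI := ModuleCat.subsingleton_of_isZero ((extM ψ).map_isZero
        (ModuleCat.isZero_of_subsingleton (EH (WAt W q) (Aq ⧸ IsLocalRing.maximalIdeal Aq) i)))
      rw [← hPm]
      exact (hdual i).some.toEquiv.subsingleton
    · letI := ψ.toAlgebra
      rw [← hPm]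
      exact ⟨(hdual d).some ≪≫ₗ ((extM ψ).mapIso gd.toModuleIso).toLinearEquiv ≪≫ₗ
        (Algebra.TensorProduct.quotIdealMapEquivTensorQuot (Localization.AtPrime n) (IsLocalRing.maximalIdeal Aq)).symm.toLinearEquiv ≪≫ₗ
        Submodule.quotEquivOfEq _ _ hmax⟩
  haveI := FlatSerre.isNoetherianRing_fiber (A := A) (B := Ah) p
  refine { isGorensteinLocalRing_localization := fun Q _ => ?_ }
  obtain ⟨r, _, -, ⟨e'⟩⟩ := FlatSerre.exists_fibLoc_of_fiber_prime p Q
  exact (GorLib.gorenstein_iff_of_ringEquiv e').2 (gorenstein_fibLocRing_of_dualizing hω a b hzero e hR r)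

/-- Smooth base change. -/
theorem isDualizing_smooth (A B : Type u) [CommRing A] [CommRing B] [Algebra A B] [IsNoetherianRing A]
    [Algebra.Smooth A B] [DRing.HasLBaseChange (algebraMap A B)] {ω : Dual.D A} (hω : Dual.IsDualizing A ω) :
    Dual.IsDualizing B ((DRing.LBaseChange (algebraMap A B)).obj ω) := by
  haveI : IsNoetherianRing B := Algebra.FiniteType.isNoetherianRing A B
  obtain ⟨ω', hω'⟩ := HasDC.of_finiteType (A := A) (B := B) ⟨ω, hω⟩
  obtain ⟨W, a, b, hW, hinj, hzero, ⟨e⟩⟩ := exists_model hω'.finite_injective_dimension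
  haveI := hW
  haveI := hinj
  refine isDualizing_of_gorenstein_fibres (fun q => ?_) (b - a).toNat
    ((ringKrullDim_le_iff_height_le _).2 fun I hI => ?_) hω
  · haveI := ArtinFlat.HB.isRegularRing_of_smooth q.asIdeal.ResidueField (q.asIdeal.ResidueField ⊗[A] B)
    haveI := GorLib.isGorensteinRing_of_isRegularRing (q.asIdeal.ResidueField ⊗[A] B)
    exact SegreOne.isGorensteinRing_of_ringEquiv (Algebra.TensorProduct.comm A q.asIdeal.ResidueField B).toRingEquiv
  · rw [← IsLocalization.AtPrime.ringKrullDim_eq_height I (Localization.AtPrime I)]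
    exact ringKrullDim_localization_le a b hω' hzero e I

end Groth.Agent.DualCx
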