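import Groth.Agent.DualCx.GorFibres
import Groth.Agent.GorLib.FieldExt
import Mathlib.FieldTheory.IntermediateField.Adjoin.Algebra

/-!
# Field extensions and dualizing complexes
-/

set_option autoImplicit false
set_option linter.style.haveILetI false

open CategoryTheory CategoryTheory.Limits TensorProduct

universe u

attribute [local instance] HasDerivedCategory.standard

namespace Groth.Agent.DualCx

/-- Base change to a field extension. -/
theorem isDualizing_fieldExtension (k K : Type u) [Field k] [Field K] [Algebra k K] (A : Type u) [CommRing A]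
    [Algebra k A] [Algebra.FiniteType k A]
    [DRing.HasLBaseChange (Algebra.TensorProduct.includeRight : A →ₐ[k] K ⊗[k] A).toRingHom] {ω : Dual.D A}
    (hω : Dual.IsDualizing A ω) :
    Dual.IsDualizing (K ⊗[k] A)
      ((DRing.LBaseChange (Algebra.TensorProduct.includeRight : A →ₐ[k] K ⊗[k] A).toRingHom).obj ω) := by
  letI alg : Algebra A (K ⊗[k] A) := Algebra.TensorProduct.rightAlgebra
  haveI : DRing.HasLBaseChange (algebraMap A (K ⊗[k] A)) := ‹_›
  haveI : IsNoetherianRing A := hω.isNoetherianRing
  haveI : Algebra.FiniteType K (K ⊗[k] A) := inferInstance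
  haveI : IsNoetherianRing (K ⊗[k] A) := Algebra.FiniteType.isNoetherianRing K _
  haveI hflat : Module.Flat A (K ⊗[k] A) := by
    let e : A ⊗[k] K ≃ₗ[A] K ⊗[k] A := { (Algebra.TensorProduct.comm k A K).toAddEquiv with
      map_smul' := fun a x => by
        induction x using TensorProduct.induction_on with
        | zero => simp
        | tmul b c =>
          show Algebra.TensorProduct.comm k A K ((a • b) ⊗ₜ[k] c) = a • (c ⊗ₜ[k] b)
          rw [Algebra.smul_def (R := A) (A := K ⊗[k] A), Algebra.TensorProduct.comm_tmul]
          simp [Algebra.TensorProduct.tmul_mul_tmul, RingHom.algebraMap_toAlgebra]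
        | add x y hx hy => simp_all [smul_add] }
    exact Module.Flat.of_linearEquiv e.symm
  have hkK : HasDC (K ⊗[k] A) := by
    haveI := GorLib.isGorensteinRing_field K
    haveI := GorLib.isGorensteinRing_field k
    have hK : HasDC K := ⟨_, isDualizing_self (n := 1) (by
      have : Injective (ModuleCat.of K K) := by
        haveI : Module.Injective K K := Module.Baer.injective fun I g => by
          rcases eq_or_ne I ⊥ with rfl | hI
          · exact ⟨0, fun x hx => by
              obtain rfl := (Submodule.mem_bot K).1 hx
              exact (map_zero g).symm⟩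
          · obtain rfl := (IsSimpleOrder.eq_bot_or_eq_top I).resolve_left hI
            exact ⟨g ∘ₗ LinearMap.codRestrict ⊤ LinearMap.id (fun _ => trivial), fun x hx => rfl⟩
        exact (Module.injective_iff_injective_object K K).1 inferInstance
      infer_instance)⟩
    exact hK.of_finiteType
  obtain ⟨ω', hω'⟩ := hkK
  obtain ⟨W, a, b, hW, hinj, hzero, ⟨e⟩⟩ := exists_model hω'.finite_injective_dimension
  haveI := hW
  haveI := hinj
  refine isDualizing_of_gorenstein_fibres (A := A) (B := K ⊗[k] A) (fun p => ?_) (b - a).toNat
    ((ringKrullDim_le_iff_height_le _).2 fun I hI => ?_) hω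
  · let L := p.asIdeal.ResidueField
    haveI := GorLib.isGorensteinRing_field K
    haveI : Algebra.EssFiniteType k L := Algebra.EssFiniteType.comp k A L
    obtain ⟨s, hs⟩ := (IntermediateField.fg_top_iff (F := k) (E := L)).2 inferInstance
    haveI : LocCoh.IsGorensteinRing (L ⊗[k] K) := GorLib.isGorensteinRing_tensor_fg k L K ⟨s, hs⟩
    let e : L ⊗[k] K ≃+* (K ⊗[k] A) ⊗[A] L := by
      exact ((Algebra.TensorProduct.cancelBaseChange k A A L K).symm.toRingEquiv.trans
        ((Algebra.TensorProduct.congr (R := A) (S := A) (AlgEquiv.refl : L ≃ₐ[A] L)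
          ({ (Algebra.TensorProduct.comm k A K).toRingEquiv with
             commutes' := fun a => by
               show Algebra.TensorProduct.comm k A K (a ⊗ₜ[k] (1 : K)) = _
               rw [Algebra.TensorProduct.comm_tmul]
               rfl } : A ⊗[k] K ≃ₐ[A] K ⊗[k] A)).toRingEquiv)).trans
        (Algebra.TensorProduct.comm A L (K ⊗[k] A)).toRingEquiv
    exact SegreOne.isGorensteinRing_of_ringEquiv e
  · rw [← IsLocalization.AtPrime.ringKrullDim_eq_height I (Localization.AtPrime I)]
    exact ringKrullDim_localization_le a b hω' hzero e I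

end Groth.Agent.DualCx
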