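import Groth.Agent.DualCx.Criterion
import Groth.Agent.MatlisLib.Coext

/-!
# Dualizing complexes and finite ring maps
-/

set_option autoImplicit false
set_option linter.style.haveILetI false

open CategoryTheory CategoryTheory.Limits

universe u

attribute [local instance] HasDerivedCategory.standard

namespace Groth.Agent.DualCx

open Groth.Agent.LocCohLib Groth.Agent.RGamma

variable {A B : Type u} [CommRing A] [CommRing B] (φ : A →+* B)

/-- Coinduction. -/
noncomputable abbrev coM : ModuleCat.{u} A ⥤ ModuleCat.{u} B := ModuleCat.coextendScalars.{u, u, u} φ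

/-- Restriction. -/
noncomputable abbrev resM : ModuleCat.{u} B ⥤ ModuleCat.{u} A := ModuleCat.restrictScalars.{u} φ

noncomputable instance coM_additive : (coM φ).Additive :=
  (ModuleCat.restrictCoextendScalarsAdj.{u, u, u} φ).right_adjoint_additive

/-- Coinduced complexes. -/
noncomputable abbrev coC : DRing.Cx A ⥤ DRing.Cx B := (coM φ).mapHomologicalComplex (ComplexShape.up ℤ)

theorem coC_injective (W : DRing.Cx A) [∀ i, Injective (W.X i)] (i : ℤ) : Injective (((coC φ).obj W).X i) :=
  Injective.injective_of_adjoint (ModuleCat.restrictCoextendScalarsAdj.{u, u, u} φ) (W.X i)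

/-- A map into a coinduced module as a map out of the restriction. -/
noncomputable def down {N : ModuleCat.{u} B} {X : ModuleCat.{u} A} :
    (N ⟶ (coM φ).obj X) ≃+ ((resM φ).obj N ⟶ X) :=
  ((ModuleCat.restrictCoextendScalarsAdj.{u, u, u} φ).homAddEquiv N X).symm

theorem down_comp {N : ModuleCat.{u} B} {X Y : ModuleCat.{u} A} (g : N ⟶ (coM φ).obj X) (f : X ⟶ Y) :
    down φ (g ≫ (coM φ).map f) = down φ g ≫ f :=
  (ModuleCat.restrictCoextendScalarsAdj.{u, u, u} φ).homEquiv_naturality_right_symm g f

theorem down_smul {N : ModuleCat.{u} B} {X : ModuleCat.{u} A} (a : A) (g : N ⟶ (coM φ).obj X) :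
    down φ (φ a • g) = a • down φ g := by
  have h1 : φ a • g = (φ a • 𝟙 N) ≫ g := by rw [Linear.smul_comp, Category.id_comp]
  have h2 : (resM φ).map (φ a • 𝟙 N) = a • 𝟙 ((resM φ).obj N) := ModuleCat.hom_ext (LinearMap.ext fun v => rfl)
  rw [h1]
  refine ((ModuleCat.restrictCoextendScalarsAdj.{u, u, u} φ).homEquiv_naturality_left_symm (φ a • 𝟙 N) g).trans ?_
  rw [h2, Linear.smul_comp, Category.id_comp]
  rfl

variable {φ}

/-- Duals into the coinduced complex. -/
theorem exists_coT (W : DRing.Cx A) (N : ModuleCat.{u} B) (i : ℤ) :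
    ∃ T : (dCx ((coC φ).obj W) N).homology i ≃+ (dCx W ((resM φ).obj N)).homology i,
      ∀ (a : A) (x : (dCx ((coC φ).obj W) N).homology i), T (φ a • x) = a • T x := by
  let V := (coC φ).obj W
  let dz : cyc V i N →+ cyc W i ((resM φ).obj N) := AddMonoidHom.mk' (fun z => ⟨(down φ (ModuleCat.ofHom z.1)).hom,
      LinearMap.ext fun v => by
        have h : ModuleCat.ofHom z.1 ≫ (coM φ).map (W.d i (i + 1)) = 0 :=
          ModuleCat.hom_ext (LinearMap.ext fun m => cyc_apply V i z m)
        have h2 := (down_comp φ (ModuleCat.ofHom z.1) (W.d i (i + 1))).symm.trans ((congrArg (down φ) h).trans (map_zero _))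
        exact ConcreteCategory.congr_hom h2 v⟩) fun z w => Subtype.ext (congrArg ModuleCat.Hom.hom
          (map_add (down φ) (ModuleCat.ofHom z.1) (ModuleCat.ofHom w.1)))
  let f : cyc V i N →+ (dCx W ((resM φ).obj N)).homology i := (dcls W _ i).toAddMonoidHom.comp dz
  have hf : Function.Surjective f := fun x => by
    obtain ⟨z, rfl⟩ := dcls_surjective W _ i x
    let z' : (resM φ).obj N ⟶ W.X i := ConcreteCategory.ofHom (C := ModuleCat.{u} A) z.1
    refine ⟨⟨((down φ).symm z').hom, LinearMap.ext fun m => ?_⟩, ?_⟩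
    · have h : z' ≫ W.d i (i + 1) = 0 :=
        ModuleCat.hom_ext (LinearMap.ext fun m => cyc_apply W i z m)
      have h2 : (down φ).symm z' ≫ (coM φ).map (W.d i (i + 1)) = 0 :=
        (down φ).injective ((down_comp φ _ _).trans
          ((congrArg (· ≫ W.d i (i + 1)) ((down φ).apply_symm_apply z')).trans (h.trans (map_zero _).symm)))
      exact ConcreteCategory.congr_hom h2 m
    · exact congrArg (dcls W _ i) (Subtype.ext (congrArg ModuleCat.Hom.hom ((down φ).apply_symm_apply z')))
  have hker : f.ker = (dcls V N i).toAddMonoidHom.ker := by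
    ext z
    rw [AddMonoidHom.mem_ker, AddMonoidHom.mem_ker]
    show dcls W _ i (dz z) = 0 ↔ dcls V N i z = 0
    rw [dcls_eq_zero_iff, dcls_eq_zero_iff]
    constructor
    · rintro ⟨w, hw⟩
      let w' : (resM φ).obj N ⟶ W.X (i - 1) := ConcreteCategory.ofHom (C := ModuleCat.{u} A) w
      refine ⟨((down φ).symm w').hom, fun m => ?_⟩
      have h : (down φ).symm w' ≫ (coM φ).map (W.d (i - 1) i) = ModuleCat.ofHom z.1 :=
        (down φ).injective ((down_comp φ _ _).trans
          ((congrArg (· ≫ W.d (i - 1) i) ((down φ).apply_symm_apply w')).trans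
            (ModuleCat.hom_ext (LinearMap.ext fun v => (hw v).symm))))
      exact (ConcreteCategory.congr_hom h m).symm
    · rintro ⟨w, hw⟩
      refine ⟨(down φ (ModuleCat.ofHom w)).hom, fun m => ?_⟩
      have h : ModuleCat.ofHom w ≫ (coM φ).map (W.d (i - 1) i) = ModuleCat.ofHom z.1 :=
        ModuleCat.hom_ext (LinearMap.ext fun v => (hw v).symm)
      have h2 := (down_comp φ (ModuleCat.ofHom w) (W.d (i - 1) i)).symm.trans (congrArg (down φ) h)
      exact (ConcreteCategory.congr_hom h2 m).symm
  let T := ((QuotientAddGroup.quotientKerEquivOfSurjective (dcls V N i).toAddMonoidHom (dcls_surjective V N i)).symm.trans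
    (QuotientAddGroup.quotientAddEquivOfEq hker.symm)).trans (QuotientAddGroup.quotientKerEquivOfSurjective f hf)
  have hT : ∀ z, T (dcls V N i z) = f z := fun z => by
    have h : (QuotientAddGroup.quotientKerEquivOfSurjective (dcls V N i).toAddMonoidHom (dcls_surjective V N i)).symm
        (dcls V N i z) = (z : cyc V i N ⧸ (dcls V N i).toAddMonoidHom.ker) := by
      rw [AddEquiv.symm_apply_eq]
      rfl
    simp only [T, AddEquiv.trans_apply, h]
    rfl
  refine ⟨T, fun a x => ?_⟩
  obtain ⟨z, rfl⟩ := dcls_surjective V N i x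
  rw [← map_smul, hT, hT]
  show dcls W _ i (dz (φ a • z)) = a • dcls W _ i (dz z)
  rw [← map_smul]
  exact congrArg (dcls W _ i) (Subtype.ext (congrArg ModuleCat.Hom.hom (down_smul φ a (ModuleCat.ofHom z.1))))

theorem finite_resM (hφ : φ.Finite) (N : ModuleCat.{u} B) [Module.Finite B N] :
    Module.Finite A ((resM φ).obj N) := by
  letI := φ.toAlgebra
  haveI : Module.Finite A B := hφ
  letI : Module A N := Module.compHom N φ
  haveI : IsScalarTower A B N := ⟨fun a b x => mul_smul (φ a) b x⟩
  exact (Module.Finite.trans B N : Module.Finite A N)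

variable [IsNoetherianRing A] [IsNoetherianRing B]

theorem finite_dual_coC (hφ : φ.Finite) {W : DRing.Cx A} [∀ i, Injective (W.X i)] (a : ℤ)
    (hzero : ∀ i, i < a → IsZero (W.X i)) (hW : ∀ i, Module.Finite A (W.homology i)) (N : ModuleCat.{u} B)
    [Module.Finite B N] (i : ℤ) : Module.Finite B ((dCx ((coC φ).obj W) N).homology i) := by
  obtain ⟨T, hT⟩ := exists_coT (φ := φ) W N i
  haveI := finite_resM hφ N
  haveI := finite_dual a hzero hW ((resM φ).obj N) i
  let H := (dCx ((coC φ).obj W) N).homology i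
  letI := φ.toAlgebra
  letI : Module A H := Module.compHom H φ
  haveI : IsScalarTower A B H := ⟨fun a b x => mul_smul (φ a) b x⟩
  let e : H ≃ₗ[A] (dCx W ((resM φ).obj N)).homology i := { T with map_smul' := hT }
  haveI : Module.Finite A H := Module.Finite.equiv e.symm
  exact Module.Finite.of_restrictScalars_finite A B H

/-- Finite maps of local rings preserve residual complexes. -/
theorem residual_coC [IsLocalRing A] [IsLocalRing B] [IsLocalHom φ] (hφ : φ.Finite) {W : DRing.Cx A}
    (hW : IsResidual W 0)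
    (hk : Nonempty ((dCx W (ModuleCat.of A (A ⧸ IsLocalRing.maximalIdeal A))).homology 0 ≃ₗ[A]
      (A ⧸ IsLocalRing.maximalIdeal A)))
    (a : ℤ) (hzero : ∀ i, i < a → IsZero (W.X i)) (hfin : ∀ i, Module.Finite A (W.homology i)) :
    IsResidual ((coC φ).obj W) 0 ∧
      Nonempty ((dCx ((coC φ).obj W) (ModuleCat.of B (B ⧸ IsLocalRing.maximalIdeal B))).homology 0 ≃ₗ[B]
        (B ⧸ IsLocalRing.maximalIdeal B)) := by
  haveI := hW.injective
  let K := ModuleCat.of B (B ⧸ IsLocalRing.maximalIdeal B)
  let N := (resM φ).obj K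
  haveI hNfin : Module.Finite A N := finite_resM hφ K
  have hkill : ∀ c ∈ IsLocalRing.maximalIdeal A ^ 1, ∀ x : N, c • x = 0 := fun c hc x => by
    rw [pow_one] at hc
    obtain ⟨r, rfl⟩ := Submodule.Quotient.mk_surjective (IsLocalRing.maximalIdeal B) x
    exact (Submodule.Quotient.mk_eq_zero (IsLocalRing.maximalIdeal B)).2
      (Ideal.mul_mem_right r _ (map_nonunit φ c hc))
  have hd : Module.supportDim A N ≤ ((0 : ℕ) : WithBot ℕ∞) := supportDim_le_iff.2 fun p hp => by
    rw [Module.mem_support_iff_of_finite] at hp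
    have hm : p.asIdeal = IsLocalRing.maximalIdeal A := le_antisymm (IsLocalRing.le_maximalIdeal p.2.ne_top)
      fun c hc => hp (Module.mem_annihilator.2 (hkill c (by rwa [pow_one])))
    rw [hm, ringKrullDim_eq_zero_of_isField ((Ideal.Quotient.maximal_ideal_iff_isField_quotient _).1 inferInstance)]
    exact le_rfl
  obtain ⟨E, _, _, fE, hfE⟩ := MatlisLib.exists_hull (R := A) (IsLocalRing.ResidueField A)
  obtain ⟨g3⟩ := hW.exists_hull hk fE hfE
  have hθ := hW.theta_bijective N hkill
  let e : (dCx W N).homology 0 ≃ₗ[A] (N →ₗ[A] E) :=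
    LinearEquiv.ofBijective _ hθ ≪≫ₗ LinearEquiv.congrRight g3
  have hfl : IsFiniteLength A N := by
    obtain ⟨r, p, hp⟩ := Module.Finite.exists_fin' A N
    haveI : IsSimpleModule A (A ⧸ IsLocalRing.maximalIdeal A) :=
      isSimpleModule_iff_isCoatom.2 (Ideal.isMaximal_def.1 inferInstance)
    let q : (Fin r → A ⧸ IsLocalRing.maximalIdeal A) →ₗ[A] N := ∑ t, (Submodule.liftQ _
      (LinearMap.toSpanSingleton A N (p (Pi.single t 1))) fun c hc => hkill c (by rwa [pow_one]) _) ∘ₗ LinearMap.proj t
    have hq : Function.Surjective q := fun v => by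
      obtain ⟨c, rfl⟩ := hp v
      refine ⟨fun t => Submodule.Quotient.mk (c t), ?_⟩
      rw [LinearMap.sum_apply]
      conv_rhs => rw [pi_eq_sum_univ' c, map_sum]
      exact Finset.sum_congr rfl fun t _ => (map_smul p (c t) _).symm
    haveI := isArtinian_of_surjective _ q hq
    exact isFiniteLength_iff_isNoetherian_isArtinian.2 ⟨inferInstance, inferInstance⟩
  have hlen : Module.length A ((dCx W N).homology 0) = Module.length A N := by
    rw [e.length_eq]
    exact MatlisLib.length_dual hfE hfl (fun x => ⟨1, fun c hc => hkill c hc x⟩)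
  haveI : Nontrivial N := Ideal.Quotient.nontrivial_iff.2 (IsLocalRing.maximalIdeal.isMaximal B).ne_top
  have hpos : Module.length A N ≠ 0 := fun h => not_subsingleton N (Module.length_eq_zero_iff.1 h)
  haveI hnt : Nontrivial ((dCx W N).homology 0) := by
    rw [← not_subsingleton_iff_nontrivial]
    exact fun h => hpos (hlen.symm.trans (Module.length_eq_zero_iff.2 h))
  have hnt' : Nontrivial ((dCx ((coC φ).obj W) K).homology 0) := by
    obtain ⟨T, -⟩ := exists_coT (φ := φ) W K 0
    exact T.toEquiv.nontrivial_congr.2 hnt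
  refine ⟨{ injective := coC_injective φ W
            finite := fun M _ i => finite_dual_coC hφ a hzero hfin M i
            residue := fun i hi => by
              obtain ⟨T, -⟩ := exists_coT (φ := φ) W K i
              refine T.toEquiv.subsingleton_congr.2 ?_
              rcases lt_or_gt_of_ne hi with h | h
              · exact hW.lower N 0 hd i (by omega)
              · exact hW.upper N i h
            nontrivial := hnt' }, ?_⟩
  obtain ⟨T, hT⟩ := exists_coT (φ := φ) W K 0
  let H := (dCx ((coC φ).obj W) K).homology 0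
  haveI : Nontrivial H := hnt'
  obtain ⟨x, hx⟩ := exists_ne (0 : H)
  have hxm : ∀ c ∈ IsLocalRing.maximalIdeal B, c • x = 0 := fun c hc =>
    smul_eq_zero_of_killed ((coC φ).obj W) K (fun v => by
      obtain ⟨r, rfl⟩ := Submodule.Quotient.mk_surjective (IsLocalRing.maximalIdeal B) v
      exact (Submodule.Quotient.mk_eq_zero (IsLocalRing.maximalIdeal B)).2 (Ideal.mul_mem_right r _ hc)) 0 x
  let θ : (B ⧸ IsLocalRing.maximalIdeal B) →ₗ[B] H :=
    Submodule.liftQ _ (LinearMap.toSpanSingleton B H x) fun c hc => hxm c hc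
  have hθinj : Function.Injective θ := (injective_iff_map_eq_zero θ).2 fun v hv => by
    obtain ⟨r, rfl⟩ := Submodule.Quotient.mk_surjective (IsLocalRing.maximalIdeal B) v
    refine (Submodule.Quotient.mk_eq_zero _).2 ((IsLocalRing.mem_maximalIdeal r).2 fun hu => hx ?_)
    exact hu.smul_eq_zero.1 hv
  let θA : N →ₗ[A] (dCx W N).homology 0 :=
    { toFun := fun v => T (θ v)
      map_add' := fun v w => (congrArg T (map_add θ v w)).trans (map_add T _ _)
      map_smul' := fun c v => by
        refine (congrArg T ?_).trans (hT c (θ v))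
        exact map_smul θ (φ c) v }
  have hfinlen : Module.length A N ≠ ⊤ := Module.length_ne_top_iff.2 hfl
  have hbij := MatlisLib.bijective_of_injective_of_length_eq θA (T.injective.comp hθinj) hlen.symm (hlen ▸ hfinlen)
  exact ⟨(LinearEquiv.ofBijective θ ⟨hθinj, fun y => by
    obtain ⟨v, hv⟩ := hbij.2 (T y)
    exact ⟨v, T.injective hv⟩⟩).symm⟩

/-- Coinduction along a finite local map preserves normalized dualizing complexes. -/
theorem isDualizing_coC [IsLocalRing A] [IsLocalRing B] [IsLocalHom φ] (hφ : φ.Finite) {ω : Dual.D A}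
    (hω : Dual.IsDualizing A ω) (hn : Dual.IsNormalized A ω) {W : DRing.Cx A} (hW : IsResidual W 0)
    (hk : Nonempty ((dCx W (ModuleCat.of A (A ⧸ IsLocalRing.maximalIdeal A))).homology 0 ≃ₗ[A]
      (A ⧸ IsLocalRing.maximalIdeal A)))
    (a b : ℤ) (hzero : ∀ i, (i < a ∨ b < i) → IsZero (W.X i)) (e : DerivedCategory.Q.obj W ≅ ω) :
    Dual.IsDualizing B (DerivedCategory.Q.obj ((coC φ).obj W)) ∧
      Dual.IsNormalized B (DerivedCategory.Q.obj ((coC φ).obj W)) := by
  haveI := hW.injective
  let V := (coC φ).obj W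
  have hfin := finite_homology_model e hω.finite_cohomology
  obtain ⟨hV, hkV⟩ := residual_coC (φ := φ) hφ hW hk a (fun i hi => hzero i (Or.inl hi)) hfin
  have hzero' : ∀ i, (i < a ∨ b < i) → IsZero (V.X i) := fun i hi => Functor.map_isZero (coM φ) (hzero i hi)
  haveI := hV.injective
  haveI : V.IsStrictlyGE a := (CochainComplex.isStrictlyGE_iff _ _).2 fun i hi => hzero' i (Or.inl hi)
  haveI : V.IsKInjective := CochainComplex.isKInjective_of_injective V a
  refine isDualizing_of_residual (Iso.refl _) hV hkV a b hzero' fun i => ?_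
  haveI : Module.Finite B ((HomologicalComplex.homologyFunctor (ModuleCat.{u} B) (ComplexShape.up ℤ) i).obj
      (dCx V (ModuleCat.of B B))) := hV.finite (ModuleCat.of B B) i
  exact Module.Finite.equiv (((HomologicalComplex.homologyFunctor _ _ i).mapIso (dSelfIso V)) ≪≫
    ((DerivedCategory.homologyFunctorFactors (ModuleCat.{u} B) i).app V).symm).toLinearEquiv

end Groth.Agent.DualCx
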