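import Groth.Agent.DualCx.Finite
import Groth.Agent.DComplete.Away

/-!
# Coinduction computes the right adjoint of restriction
-/

set_option autoImplicit false
set_option linter.style.haveILetI false

open CategoryTheory CategoryTheory.Limits

universe u

attribute [local instance] HasDerivedCategory.standard

namespace Groth.Agent.DualCx

variable {A B : Type u} [CommRing A] [CommRing B] (φ : A →+* B)

theorem nonempty_coC_iso_rightAdjoint (R : Dual.D A ⥤ Dual.D B) (adj : DRing.restrictD φ ⊣ R) (W : DRing.Cx A)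
    [W.IsKInjective] {ω : Dual.D A} (e : DerivedCategory.Q.obj W ≅ ω) :
    Nonempty (DerivedCategory.Q.obj ((coC φ).obj W) ≅ R.obj ω) := by
  have hK : ∀ K : CochainComplex (ModuleCat.{u} A) ℤ, ∃ (I : CochainComplex (ModuleCat.{u} A) ℤ)
      (f : K ⟶ I), I.IsKInjective ∧ QuasiIso f := fun K => by
    obtain ⟨I, f, h1, h2, -⟩ := TriH.exists_kInjective_resolution K
    exact ⟨I, f, h1, h2⟩
  let WA := HomotopyCategory.quasiIso (ModuleCat.{u} A) (ComplexShape.up ℤ)
  let P := (coM φ).mapHomotopyCategory (ComplexShape.up ℤ) ⋙ DerivedCategory.Qh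
  haveI := TriH.hasPointwiseRightDerivedFunctor_of_bijective (L := DerivedCategory.Qh)
    (W := WA) (TriH.exists_kInjective_homotopy hK) P
  obtain ⟨adj'⟩ := DerAdj.nonempty_derived_adjunction (ModuleCat.restrictCoextendScalarsAdj.{u, u, u} φ) hK
  let RF := P.totalRightDerived DerivedCategory.Qh WA
  let β := P.totalRightDerivedUnit DerivedCategory.Qh WA
  let I := (HomotopyCategory.quotient (ModuleCat.{u} A) (ComplexShape.up ℤ)).obj W
  have hβ : IsIso (β.app I) := TriH.isIso_unit_of_bijective (W := WA) P RF β I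
    fun X => TriH.Qh_bijective_of_isKInjective W X
  exact ⟨((DerivedCategory.quotientCompQhIso (ModuleCat.{u} B)).app ((coC φ).obj W)).symm ≪≫
    @asIso _ _ _ _ (β.app I) hβ ≪≫ RF.mapIso ((DerivedCategory.quotientCompQhIso (ModuleCat.{u} A)).app W ≪≫ e) ≪≫
    (adj'.rightAdjointUniq adj).app ω⟩

/-- The finite local case. -/
theorem isDualizing_rightAdjoint_local [IsNoetherianRing A] [IsNoetherianRing B] [IsLocalRing A] [IsLocalRing B]
    [IsLocalHom φ] (hφ : φ.Finite) (R : Dual.D A ⥤ Dual.D B) (adj : DRing.restrictD φ ⊣ R) {ω : Dual.D A}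
    (hω : Dual.IsDualizing A ω) (hn : Dual.IsNormalized A ω) :
    Dual.IsDualizing B (R.obj ω) ∧ Dual.IsNormalized B (R.obj ω) := by
  obtain ⟨W, a, b, hK, hW, hzero, ⟨e⟩, hk⟩ := exists_residual' hω hn
  haveI := hK
  obtain ⟨g⟩ := nonempty_coC_iso_rightAdjoint φ R adj W e
  obtain ⟨h1, h2⟩ := isDualizing_coC hφ hω hn hW hk a b hzero e
  exact ⟨isDualizing_of_iso g h1, fun i hi => ((Iso.refl _).homCongr
    ((CategoryTheory.shiftFunctor (Dual.D B) i).mapIso g)).subsingleton_congr.1 (h2 i hi)⟩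

end Groth.Agent.DualCx
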