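import Groth.Agent.DualCx.Normalized
import Groth.Agent.DualCx.CriterionLocal
import Groth.Agent.DualCx.Pointwise
import Groth.Agent.DualCx.Unique
import Mathlib.Algebra.Module.FinitePresentation
import Mathlib.RingTheory.TensorProduct.Quotient
import Mathlib.CategoryTheory.Linear.Yoneda
import Mathlib.CategoryTheory.Preadditive.Yoneda.Basic
import Mathlib.Algebra.Category.ModuleCat.Abelian

/-!
# Flat base change of duals and of dualizing complexes
-/

set_option autoImplicit false
set_option linter.style.haveILetI false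

open CategoryTheory CategoryTheory.Limits TensorProduct

universe u

attribute [local instance] HasDerivedCategory.standard

namespace Groth.Agent.DualCx

open Groth.Agent.LocCohLib Groth.Agent.RGamma

variable {A B : Type u} [CommRing A] [CommRing B] {φ : A →+* B}

section

variable (hflat : φ.Flat)
include hflat

theorem preservesLimits_extM : PreservesFiniteLimits (extM φ) :=
  ModuleCat.preservesFiniteLimits_extendScalars_of_flat.{u} hflat

theorem injective_res_of_injective (M : ModuleCat.{u} B) [Injective M] :
    Injective ((ModuleCat.restrictScalars.{u} φ).obj M) := by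
  haveI := preservesLimits_extM hflat
  exact Injective.injective_of_adjoint (ModuleCat.extendRestrictScalarsAdj.{u, u, u} φ) M

/-- Flat extensions of injectives are injective below. -/
theorem injective_res_extM [IsNoetherianRing A] (M : ModuleCat.{u} A) [Injective M] :
    Injective ((ModuleCat.restrictScalars.{u} φ).obj ((extM φ).obj M)) := by
  letI := φ.toAlgebra
  haveI : Module.Flat A B := hflat
  haveI : Module.Injective A M := Module.injective_module_of_injective_object A M
  have key : ∀ (N : Type u) [AddCommGroup N] [Module A N] [Module.FinitePresentation A N],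
      Function.Bijective (lTensorHomToHomLTensor (RingHom.id A) N B M) := fun N _ _ _ => by
    have h := Module.FinitePresentation.isBaseChange_map A N M B
    have hpt : ∀ x, lTensorHomToHomLTensor (RingHom.id A) N B M x =
        ((h.equiv x).restrictScalars A).comp (TensorProduct.mk A B N 1) := fun x => by
      induction x using TensorProduct.induction_on with
      | zero => simp
      | tmul b f =>
        refine LinearMap.ext fun n => ?_
        simp [IsBaseChange.equiv_tmul, TensorProduct.smul_tmul']
      | add x y hx hy => rw [map_add, map_add, hx, hy]; rfl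
    refine ⟨fun x y hxy => h.equiv.injective ?_, fun g => ?_⟩
    · rw [hpt, hpt] at hxy
      refine TensorProduct.AlgebraTensorModule.curry_injective (LinearMap.ext fun b => LinearMap.ext fun n => ?_)
      have h1 := LinearMap.congr_fun hxy n
      simp only [LinearMap.comp_apply, TensorProduct.mk_apply, LinearMap.coe_restrictScalars] at h1
      simp only [TensorProduct.AlgebraTensorModule.curry_apply, LinearMap.restrictScalars_self,
        TensorProduct.curry_apply, LinearMap.coe_restrictScalars]
      rw [show (b ⊗ₜ[A] n : B ⊗[A] N) = b • ((1 : B) ⊗ₜ[A] n) from by rw [TensorProduct.smul_tmul', smul_eq_mul, mul_one],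
        map_smul, map_smul, h1]
    · refine ⟨h.equiv.symm (g.liftBaseChange B), ?_⟩
      rw [hpt, LinearEquiv.apply_symm_apply]
      exact LinearMap.ext fun n => by simp
  have hB : Module.Baer A (B ⊗[A] M) := fun I g => by
    haveI : Module.FinitePresentation A I := Module.finitePresentation_of_finite A I
    obtain ⟨x, hx⟩ := (key I).2 g
    have hs : Function.Surjective (fun f : A →ₗ[A] M => f ∘ₗ I.subtype) := fun f => by
      obtain ⟨e, he⟩ := Module.Injective.out (R := A) (Q := M) I.subtype Subtype.val_injective f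
      exact ⟨e, LinearMap.ext he⟩
    obtain ⟨y, hy⟩ := LinearMap.lTensor_surjective B (g := LinearMap.lcomp A M I.subtype) hs x
    refine ⟨lTensorHomToHomLTensor (RingHom.id A) A B M y, fun a ha => ?_⟩
    rw [← hx, ← hy]
    clear hy
    induction y using TensorProduct.induction_on with
    | zero => simp
    | tmul b f => simp
    | add p q hp hq =>
      simp only [map_add, LinearMap.add_apply] at hp hq ⊢
      rw [hp, hq]
  haveI : Module.Injective A (B ⊗[A] M) := Module.Baer.injective hB
  exact (Module.injective_iff_injective_object A ((ModuleCat.restrictScalars.{u} φ).obj ((extM φ).obj M))).1 this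

omit hflat in
theorem equiv_natural {R S : Type u} [CommRing R] [CommRing S] [Algebra R S] {N M M' : Type u} [AddCommGroup N]
    [Module R N] [AddCommGroup M] [Module R M] [AddCommGroup M'] [Module R M'] (g : M →ₗ[R] M')
    (h : IsBaseChange S (LinearMap.baseChangeHom R S N M)) (h' : IsBaseChange S (LinearMap.baseChangeHom R S N M'))
    (x : S ⊗[R] (N →ₗ[R] M)) :
    h'.equiv ((LinearMap.llcomp R N M M' g).baseChange S x) = g.baseChange S ∘ₗ h.equiv x := by
  induction x using TensorProduct.induction_on with
  | zero => simp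
  | tmul b f =>
    rw [LinearMap.baseChange_tmul, IsBaseChange.equiv_tmul, IsBaseChange.equiv_tmul, LinearMap.comp_smul]
    exact congrArg (b • ·) (LinearMap.baseChange_comp f g)
  | add x y hx hy => rw [map_add, map_add, map_add, LinearMap.comp_add, hx, hy]

/-- `Hom` of a finitely presented module commutes with flat base change. -/
theorem nonempty_dCx_extC (W : DRing.Cx A) (N : ModuleCat.{u} A) [Module.FinitePresentation A N] :
    Nonempty (dCx ((extC φ).obj W) ((extM φ).obj N) ≅ (extC φ).obj (dCx W N)) := by
  letI := φ.toAlgebra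
  haveI : Module.Flat A B := hflat
  exact ⟨(HomologicalComplex.Hom.isoOfComponents
    (fun i => LinearEquiv.toModuleIso (X₁ := B ⊗[A] (N →ₗ[A] W.X i)) (X₂ := B ⊗[A] N →ₗ[B] B ⊗[A] W.X i)
      (Module.FinitePresentation.isBaseChange_map A N (W.X i) B).equiv) (fun i j _ => ModuleCat.hom_ext
      (LinearMap.ext fun x => (equiv_natural (S := B) (W.d i j).hom
        (Module.FinitePresentation.isBaseChange_map A N (W.X i) B)
        (Module.FinitePresentation.isBaseChange_map A N (W.X j) B) x).symm))).symm⟩

/-- A model of the base change computes duals of extended modules. -/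
theorem nonempty_dual_ext [IsNoetherianRing A] {W : DRing.Cx A} [∀ i, Injective (W.X i)] (a : ℤ)
    (hzero : ∀ i, i < a → IsZero (W.X i)) {E : DRing.Cx B} [∀ i, Injective (E.X i)]
    (hE : ∀ i, i < a → IsZero (E.X i)) (f : (extC φ).obj W ⟶ E) [QuasiIso f]
    (N : ModuleCat.{u} A) [Module.FinitePresentation A N] (i : ℤ) :
    Nonempty ((dCx E ((extM φ).obj N)).homology i ≃ₗ[B] (extM φ).obj ((dCx W N).homology i)) := by
  haveI := preservesLimits_extM hflat
  haveI : PreservesFiniteColimits (extM φ) :=
    haveI : PreservesColimitsOfSize.{0, 0} (extM φ) :=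
      (ModuleCat.extendRestrictScalarsAdj.{u, u, u} φ).leftAdjoint_preservesColimits
    inferInstance
  let res := ModuleCat.restrictScalars.{u} φ
  let adj := ModuleCat.extendRestrictScalarsAdj.{u, u, u} φ
  let resC := res.mapHomologicalComplex (ComplexShape.up ℤ)
  let Y : DRing.Cx A := resC.obj ((extC φ).obj W)
  let E' : DRing.Cx A := resC.obj E
  haveI : ∀ j, Injective (Y.X j) := fun j => injective_res_extM hflat (W.X j)
  haveI : ∀ j, Injective (E'.X j) := fun j => injective_res_of_injective hflat (E.X j)
  haveI : CochainComplex.IsStrictlyGE Y a := (CochainComplex.isStrictlyGE_iff _ _).2 fun j hj =>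
    res.map_isZero ((extM φ).map_isZero (hzero j hj))
  haveI : CochainComplex.IsStrictlyGE E' a := (CochainComplex.isStrictlyGE_iff _ _).2 fun j hj => res.map_isZero (hE j hj)
  haveI : CochainComplex.IsKInjective (resC.obj ((extC φ).obj W)) := CochainComplex.isKInjective_of_injective Y a
  haveI : CochainComplex.IsKInjective (resC.obj E) := CochainComplex.isKInjective_of_injective E' a
  haveI : QuasiIso (resC.map f) := inferInstance
  obtain ⟨hq, hqe⟩ := (CochainComplex.IsKInjective.quasiIso_iff (resC.map f)).1 inferInstance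
  let GA := preadditiveCoyoneda.obj (Opposite.op N)
  let GB := preadditiveCoyoneda.obj (Opposite.op ((extM φ).obj N))
  let app : ∀ M : ModuleCat.{u} B, GB.obj M ≅ (res ⋙ GA).obj M := fun M =>
    AddEquiv.toAddCommGrpIso (X := GB.obj M) (Y := (res ⋙ GA).obj M) (adj.homAddEquiv N M)
  let nat : res ⋙ GA ≅ GB := (NatIso.ofComponents app (fun {M M'} g => AddCommGrpCat.ext fun x =>
      adj.homEquiv_naturality_right x g)).symm
  have hA : QuasiIso ((GA.mapHomologicalComplex (ComplexShape.up ℤ)).map (resC.map f)) := by
    rw [← hqe]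
    exact homotopyEquivalences_le_quasiIso _ _ _ ⟨GA.mapHomotopyEquiv hq, rfl⟩
  have hB : QuasiIso ((GB.mapHomologicalComplex (ComplexShape.up ℤ)).map f) := by
    let natC := NatIso.mapHomologicalComplex nat (ComplexShape.up ℤ)
    haveI : QuasiIso (((res ⋙ GA).mapHomologicalComplex (ComplexShape.up ℤ)).map f) := hA
    rw [show (GB.mapHomologicalComplex (ComplexShape.up ℤ)).map f = natC.inv.app _ ≫
      ((res ⋙ GA).mapHomologicalComplex (ComplexShape.up ℤ)).map f ≫ natC.hom.app _ by
        rw [natC.hom.naturality, Iso.inv_hom_id_app_assoc]]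
    infer_instance
  let L := (linearCoyoneda B (ModuleCat.{u} B)).obj (Opposite.op ((extM φ).obj N))
  haveI : QuasiIso ((L.mapHomologicalComplex (ComplexShape.up ℤ)).map f) :=
    (HomologicalComplex.quasiIso_map_iff_of_preservesHomology _ (forget₂ (ModuleCat.{u} B) AddCommGrpCat.{u})).1 hB
  let c : ∀ V : DRing.Cx B, (L.mapHomologicalComplex (ComplexShape.up ℤ)).obj V ≅ dCx V ((extM φ).obj N) := fun V =>
    HomologicalComplex.Hom.isoOfComponents (fun j => (ModuleCat.homLinearEquiv (S := B)).toModuleIso)
      (fun _ _ _ => rfl)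
  obtain ⟨g⟩ := nonempty_dCx_extC hflat W N
  exact ⟨((HomologicalComplex.homologyFunctor (ModuleCat.{u} B) (ComplexShape.up ℤ) i).mapIso ((c E).symm ≪≫ Iso.refl _) ≪≫
    (isoOfQuasiIsoAt ((L.mapHomologicalComplex (ComplexShape.up ℤ)).map f) i).symm ≪≫
    (HomologicalComplex.homologyFunctor (ModuleCat.{u} B) (ComplexShape.up ℤ) i).mapIso ((c _) ≪≫ g) ≪≫
    ((dCx W N).sc i).mapHomologyIso (extM φ)).toLinearEquiv⟩

end

/-- Flat unramified base change of a normalized dualizing complex. -/
theorem isDualizing_LBC_flat_unramified [IsLocalRing A] [IsLocalRing B] [IsNoetherianRing A] [IsNoetherianRing B]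
    (hflat : φ.Flat) (hm : (IsLocalRing.maximalIdeal A).map φ = IsLocalRing.maximalIdeal B)
    [DRing.HasLBaseChange φ] {ω : Dual.D A} (hω : Dual.IsDualizing A ω) (hn : Dual.IsNormalized A ω) :
    Dual.IsDualizing B ((DRing.LBaseChange φ).obj ω) ∧ Dual.IsNormalized B ((DRing.LBaseChange φ).obj ω) := by
  obtain ⟨W, a, b, hW, hres, hzero, ⟨e⟩, ⟨k0⟩⟩ := exists_residual' hω hn
  haveI := hW
  haveI := hres.injective
  haveI := preservesLimits_extM hflat
  haveI : PreservesFiniteColimits (extM φ) :=
    haveI : PreservesColimitsOfSize.{0, 0} (extM φ) :=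
      (ModuleCat.extendRestrictScalarsAdj.{u, u, u} φ).leftAdjoint_preservesColimits
    inferInstance
  set R := (DRing.LBaseChange φ).obj ω
  obtain ⟨eW⟩ := nonempty_extC_iso_LBC_flat hflat W e
  have hH : ∀ i, Nonempty (Dual.HD B R i ≃ₗ[B] (extM φ).obj (ModuleCat.of A (Dual.HD A ω i))) := fun i =>
    ⟨((DerivedCategory.homologyFunctor (ModuleCat.{u} B) i).mapIso eW.symm ≪≫
      (DerivedCategory.homologyFunctorFactors (ModuleCat.{u} B) i).app ((extC φ).obj W) ≪≫
      (W.sc i).mapHomologyIso (extM φ) ≪≫ (extM φ).mapIso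
        (((DerivedCategory.homologyFunctorFactors (ModuleCat.{u} A) i).app W).symm ≪≫
          (DerivedCategory.homologyFunctor (ModuleCat.{u} A) i).mapIso e)).toLinearEquiv⟩
  have hfin : ∀ i, Module.Finite B (Dual.HD B R i) := fun i => by
    letI := φ.toAlgebra
    haveI := hω.finite_cohomology i
    haveI : Module.Finite B ((extM φ).obj (ModuleCat.of A (Dual.HD A ω i))) :=
      inferInstanceAs (Module.Finite B (B ⊗[A] (Dual.HD A ω i)))
    exact Module.Finite.equiv (hH i).some.symm
  have hbdd : ∀ i, i < a → Subsingleton (Dual.HD B R i) := fun i hi => by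
    haveI := ModuleCat.subsingleton_of_isZero (((extC φ).obj W).sc i |>.isZero_homology_of_isZero_X₂
      ((extM φ).map_isZero (hzero i (Or.inl hi))))
    have := ((DerivedCategory.homologyFunctor (ModuleCat.{u} B) i).mapIso eW.symm ≪≫
      (DerivedCategory.homologyFunctorFactors (ModuleCat.{u} B) i).app ((extC φ).obj W)).toLinearEquiv.toEquiv
    exact this.subsingleton_congr.2 ‹_›
  obtain ⟨E, hEK, hEinj, hEzero, ⟨eE⟩⟩ := exists_model_below a hbdd
  haveI := hEK
  haveI := hEinj
  obtain ⟨f', hf'⟩ := (CochainComplex.IsKInjective.Qh_map_bijective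
    ((HomotopyCategory.quotient _ _).obj ((extC φ).obj W)) E).surjective
    ((DerivedCategory.quotientCompQhIso _).hom.app _ ≫ (eW ≪≫ eE.symm).hom ≫
      (DerivedCategory.quotientCompQhIso _).inv.app E)
  obtain ⟨f, rfl⟩ := (HomotopyCategory.quotient _ _).map_surjective f'
  haveI : IsIso (DerivedCategory.Q.map f) := by
    have h1 : DerivedCategory.Q.map f = (eW ≪≫ eE.symm).hom := by
      have h2 := (DerivedCategory.quotientCompQhIso (ModuleCat.{u} B)).hom.naturality f
      rw [Functor.comp_map, hf'] at h2
      simpa using h2.symm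
    rw [h1]; infer_instance
  haveI : QuasiIso f := (DerivedCategory.isIso_Q_map_iff_quasiIso _ _).1 inferInstance
  let kA := ModuleCat.of A (A ⧸ IsLocalRing.maximalIdeal A)
  haveI : Module.FinitePresentation A kA := Module.finitePresentation_of_finite A _
  obtain ⟨ek⟩ : Nonempty ((extM φ).obj kA ≅ ModuleCat.of B (B ⧸ IsLocalRing.maximalIdeal B)) := by
    letI := φ.toAlgebra
    exact ⟨((Algebra.TensorProduct.quotIdealMapEquivTensorQuot B (IsLocalRing.maximalIdeal A)).symm.toLinearEquiv ≪≫ₗ
      Submodule.quotEquivOfEq _ _ hm).toModuleIso⟩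
  have hk : ∀ i, Nonempty ((Dual.inD B (B ⧸ IsLocalRing.maximalIdeal B) ⟶ R⟦i⟧) ≃ₗ[B]
      (extM φ).obj ((dCx W kA).homology i)) := fun i => by
    obtain ⟨g⟩ := nonempty_dual_ext hflat a (fun j hj => hzero j (Or.inl hj)) hEzero f kA i
    exact ⟨Linear.homCongr B ((DerivedCategory.singleFunctor _ 0).mapIso ek).symm (Iso.refl _) ≪≫ₗ
      homIso E eE ((extM φ).obj kA) i ≪≫ₗ g⟩
  have hvan : ∀ i : ℤ, i ≠ 0 → Subsingleton (Dual.inD B (B ⧸ IsLocalRing.maximalIdeal B) ⟶ R⟦i⟧) := fun i hi => by
    haveI := hres.residue i hi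
    haveI := ModuleCat.subsingleton_of_isZero ((extM φ).map_isZero
      (ModuleCat.isZero_of_subsingleton ((dCx W kA).homology i)))
    exact (hk i).some.toEquiv.subsingleton
  exact ⟨isDualizing_of_residue R hfin ⟨a, hbdd⟩ 0 hvan
    ⟨(hk 0).some ≪≫ₗ ((extM φ).mapIso k0.toModuleIso ≪≫ ek).toLinearEquiv⟩, hvan⟩

end Groth.Agent.DualCx
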