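import Groth.Agent.DualCx.Localization
import Groth.Agent.DualCx.LocalDepth
import Mathlib.RingTheory.Ideal.Height

/-!
# Dualizing complexes at primes
-/

set_option autoImplicit false
set_option linter.style.haveILetI false

open CategoryTheory CategoryTheory.Limits

universe u

attribute [local instance] HasDerivedCategory.standard

namespace Groth.Agent.DualCx

open Groth.Agent.LocCohLib Groth.Agent.RGamma

variable {A : Type u} [CommRing A]

theorem isLocHom_prime (p : Ideal A) [p.IsPrime] :
    IsLocHom (algebraMap A (Localization.AtPrime p)) p.primeCompl :=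
  isLocHom_algebraMap p.primeCompl (Localization.AtPrime p)

/-- The local model at a prime. -/
noncomputable abbrev WAt (W : DRing.Cx A) (p : Ideal A) [p.IsPrime] : DRing.Cx (Localization.AtPrime p) :=
  (extC (algebraMap A (Localization.AtPrime p))).obj W

/-- Homology of the local model. -/
noncomputable def homologyWAt (W : DRing.Cx A) (p : Ideal A) [p.IsPrime] (i : ℤ) :
    (WAt W p).homology i ≅ (extM (algebraMap A (Localization.AtPrime p))).obj (W.homology i) :=
  haveI : PreservesFiniteLimits (extM (algebraMap A (Localization.AtPrime p))) :=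
    ModuleCat.preservesFiniteLimits_extendScalars_of_flat.{u} (isLocHom_prime p).flat
  haveI : PreservesFiniteColimits (extM (algebraMap A (Localization.AtPrime p))) :=
    haveI : PreservesColimitsOfSize.{0, 0} (extM (algebraMap A (Localization.AtPrime p))) :=
      (ModuleCat.extendRestrictScalarsAdj.{u, u, u} _).leftAdjoint_preservesColimits
    inferInstance
  (W.sc i).mapHomologyIso (extM (algebraMap A (Localization.AtPrime p)))

theorem nontrivial_extM_iff {B : Type u} [CommRing B] {φ : A →+* B} {S : Submonoid A} (h : IsLocHom φ S)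
    (M : ModuleCat.{u} A) : Nontrivial ((extM φ).obj M) ↔ Nontrivial (LocalizedModule S M) := by
  letI := φ.toAlgebra
  haveI := h.isLocalization
  haveI := h.isLocalizedModule M
  exact (IsLocalizedModule.linearEquiv S (TensorProduct.mk A B M 1)
    (LocalizedModule.mkLinearMap S M)).toEquiv.nontrivial_congr

theorem subsingleton_dual_of_isZero {B : Type u} [CommRing B] {V : DRing.Cx B} {i : ℤ} (h : IsZero (V.X i))
    (N : ModuleCat.{u} B) : Subsingleton ((dCx V N).homology i) :=
  haveI := ModuleCat.subsingleton_of_isZero h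
  ModuleCat.subsingleton_of_isZero (ShortComplex.isZero_homology_of_isZero_X₂ _
    (@ModuleCat.isZero_of_subsingleton _ _ _ (inferInstanceAs (Subsingleton (N →ₗ[B] V.X i)))))

variable [IsNoetherianRing A] {ω : Dual.D A} {W : DRing.Cx A} [W.IsKInjective] [∀ i, Injective (W.X i)]
  (a b : ℤ)

/-- The residual degree at a prime. -/
theorem exists_residual_at (hω : Dual.IsDualizing A ω) (hzero : ∀ i, (i < a ∨ b < i) → IsZero (W.X i))
    (e : DerivedCategory.Q.obj W ≅ ω) (p : Ideal A) [p.IsPrime] :
    ∃ n : ℤ, IsResidual (WAt W p) n ∧ a ≤ n ∧ n ≤ b := by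
  have hB := isLocHom_prime p
  have hω' := isDualizing_extC hB hω a b hzero e (Iso.refl (DerivedCategory.Q.obj (WAt W p)))
  haveI := hω'.isNoetherianRing
  haveI : ∀ i, Injective ((WAt W p).X i) := fun i => hB.injective_ext (W.X i)
  have hzero' : ∀ i, (i < a ∨ b < i) → IsZero ((WAt W p).X i) := fun i hi =>
    Functor.map_isZero (extM (algebraMap A (Localization.AtPrime p))) (hzero i hi)
  haveI : (WAt W p).IsStrictlyGE a := (CochainComplex.isStrictlyGE_iff _ _).2 fun i hi => hzero' i (Or.inl hi)
  haveI : (WAt W p).IsKInjective := CochainComplex.isKInjective_of_injective _ a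
  obtain ⟨n, h1, ⟨g⟩⟩ := exists_degree (WAt W p) (IsLocalRing.maximalIdeal (Localization.AtPrime p)) a b hzero'
    (Iso.refl _) hω'
  have hnt := g.toEquiv.nontrivial
  refine ⟨n, ⟨inferInstance, fun N _ i => finite_dual a (fun j hj => hzero' j (Or.inl hj))
    (finite_homology_model (Iso.refl _) hω'.finite_cohomology) N i, h1, hnt⟩, ?_⟩
  have hout : ∀ i, (i < a ∨ b < i) → i ≠ n := fun i hi hin => by
    subst hin
    haveI := subsingleton_dual_of_isZero (hzero' i hi)
      (ModuleCat.of _ (Localization.AtPrime p ⧸ IsLocalRing.maximalIdeal (Localization.AtPrime p)))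
    exact not_nontrivial _ hnt
  constructor
  · by_contra hlt
    exact hout n (Or.inl (by omega)) rfl
  · by_contra hlt
    exact hout n (Or.inr (by omega)) rfl

theorem ringKrullDim_localization_le (hω : Dual.IsDualizing A ω) (hzero : ∀ i, (i < a ∨ b < i) → IsZero (W.X i))
    (e : DerivedCategory.Q.obj W ≅ ω) (p : Ideal A) [p.IsPrime] :
    ringKrullDim (Localization.AtPrime p) ≤ ((b - a).toNat : WithBot ℕ∞) := by
  haveI : IsNoetherianRing (Localization.AtPrime p) := IsLocalization.isNoetherianRing p.primeCompl _ inferInstance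
  obtain ⟨n, hres, ha, hb⟩ := exists_residual_at a b hω hzero e p
  obtain ⟨d, hd⟩ := DepthLib.exists_nat_supportDim (R := Localization.AtPrime p) (Localization.AtPrime p)
  have hnt := hres.nontrivial_top (Localization.AtPrime p) d hd
  have hle : a ≤ n - d := by
    by_contra hlt
    haveI : Subsingleton (EH (WAt W p) (Localization.AtPrime p) (n - d)) := subsingleton_dual_of_isZero
      (Functor.map_isZero (extM (algebraMap A (Localization.AtPrime p))) (hzero (n - d) (Or.inl (by omega)))) _
    exact not_nontrivial _ hnt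
  rw [← Module.supportDim_self_eq_ringKrullDim, hd]
  exact_mod_cast (show d ≤ (b - a).toNat by omega)

omit [IsNoetherianRing A] [W.IsKInjective] [∀ i, Injective (W.X i)] in
theorem nontrivial_EH_self_iff (p : Ideal A) [p.IsPrime] (i : ℤ) :
    Nontrivial (EH (WAt W p) (Localization.AtPrime p) i) ↔ Nontrivial (LocalizedModule p.primeCompl (W.homology i)) := by
  rw [← nontrivial_extM_iff (isLocHom_prime p)]
  exact (((HomologicalComplex.homologyFunctor _ _ i).mapIso (dSelfIso (WAt W p))) ≪≫
    homologyWAt W p i).toLinearEquiv.toEquiv.nontrivial_congr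

theorem existsUnique_degree_minimal (hω : Dual.IsDualizing A ω) (hzero : ∀ i, (i < a ∨ b < i) → IsZero (W.X i))
    (e : DerivedCategory.Q.obj W ≅ ω) (p : Ideal A) [p.IsPrime] (hp : p ∈ minimalPrimes A) :
    ∃ n, IsResidual (WAt W p) n ∧ ∀ i, Nontrivial (LocalizedModule p.primeCompl (W.homology i)) ↔ i = n := by
  haveI : IsNoetherianRing (Localization.AtPrime p) := IsLocalization.isNoetherianRing p.primeCompl _ inferInstance
  obtain ⟨n, hres, -, -⟩ := exists_residual_at a b hω hzero e p
  have hd : Module.supportDim (Localization.AtPrime p) (Localization.AtPrime p) = ((0 : ℕ) : WithBot ℕ∞) := by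
    rw [Module.supportDim_self_eq_ringKrullDim, IsLocalization.AtPrime.ringKrullDim_eq_height p (Localization.AtPrime p),
      Ideal.height_eq_zero_iff.2 hp]
    rfl
  refine ⟨n, hres, fun i => ?_⟩
  rw [← nontrivial_EH_self_iff (W := W) p i]
  refine ⟨fun hnt => ?_, fun hi => ?_⟩
  · by_contra hne
    rcases lt_or_gt_of_ne hne with h | h
    · haveI := hres.lower (Localization.AtPrime p) 0 hd.le i (by simpa using h)
      exact not_nontrivial _ hnt
    · haveI := hres.upper (Localization.AtPrime p) i h
      exact not_nontrivial _ hnt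
  · subst hi
    have h := hres.nontrivial_top (Localization.AtPrime p) 0 hd
    rwa [Nat.cast_zero, sub_zero] at h

theorem isCohenMacaulay_of_single_homology (hω : Dual.IsDualizing A ω) (hzero : ∀ i, (i < a ∨ b < i) → IsZero (W.X i))
    (e : DerivedCategory.Q.obj W ≅ ω) (c : ℤ) (hc : ∀ i, i ≠ c → IsZero (W.homology i)) :
    LocCoh.IsCohenMacaulayRing A := by
  refine { isCohenMacaulayLocalRing_localization := fun p hp => ?_ }
  haveI : IsNoetherianRing (Localization.AtPrime p) := IsLocalization.isNoetherianRing p.primeCompl _ inferInstance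
  obtain ⟨n, hres, -, -⟩ := exists_residual_at a b hω hzero e p
  let B := Localization.AtPrime p
  have hzero' : ∀ i, i ≠ c → Subsingleton (EH (WAt W p) B i) := fun i hi => ModuleCat.subsingleton_of_isZero
    ((Functor.map_isZero (extM (algebraMap A B)) (hc i hi)).of_iso
      ((HomologicalComplex.homologyFunctor _ _ i).mapIso (dSelfIso (WAt W p)) ≪≫ homologyWAt W p i))
  obtain ⟨k, hk⟩ := DepthLib.exists_nat_depth (R := B) B
  obtain ⟨d, hd⟩ := DepthLib.exists_nat_supportDim (R := B) B
  obtain ⟨-, h2⟩ := hres.depth_spec k B hk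
  have h3 := hres.nontrivial_top B d hd
  have he : n - k = c := by
    by_contra hne
    haveI := hzero' _ hne
    exact not_nontrivial _ h2
  have he' : n - d = c := by
    by_contra hne
    haveI := hzero' _ hne
    exact not_nontrivial _ h3
  refine { supportDim_eq_depth := ?_ }
  rw [hd, hk, show d = k by omega]
  rfl

omit [W.IsKInjective] [∀ i, Injective (W.X i)] in
/-- A class surviving localization at `p` survives in the local model. -/
theorem nontrivial_residue_at (p : Ideal A) [p.IsPrime] (i : ℤ)
    (h : (⟨p, inferInstance⟩ : PrimeSpectrum A) ∈ Module.support A (EH W (A ⧸ p) i)) :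
    Nontrivial (EH (WAt W p) (Localization.AtPrime p ⧸ IsLocalRing.maximalIdeal (Localization.AtPrime p)) i) := by
  classical
  let φ := algebraMap A (Localization.AtPrime p)
  have hB := isLocHom_prime p
  obtain ⟨v, hv⟩ := Module.mem_support_iff'.1 h
  obtain ⟨z, rfl⟩ := dcls_surjective W (ModuleCat.of A (A ⧸ p)) i v
  let x : W.X i := z.1 (Submodule.Quotient.mk 1)
  have hpx : ∀ c ∈ p, c • x = 0 := fun c hc => by
    show c • z.1 (Submodule.Quotient.mk 1) = 0
    rw [← map_smul, ← Submodule.Quotient.mk_smul, smul_eq_mul, mul_one, (Submodule.Quotient.mk_eq_zero p).2 hc, map_zero]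
  let x' : (WAt W p).X i := one' φ x
  have hle : IsLocalRing.maximalIdeal (Localization.AtPrime p) ≤
      LinearMap.ker (LinearMap.toSpanSingleton (Localization.AtPrime p) _ x') := by
    rw [← IsLocalization.AtPrime.map_eq_maximalIdeal p (Localization.AtPrime p), Ideal.map_le_iff_le_comap]
    intro c hc
    show φ c • one' φ x = 0
    rw [← one'_smul, hpx c hc, one'_zero]
  have hd : (WAt W p).d i (i + 1) x' = 0 := by
    show ((extM φ).map (W.d i (i + 1))).hom (one' φ x) = 0
    rw [map_one', cyc_apply W i z, one'_zero]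
  let z' : cyc (WAt W p) i (ModuleCat.of _ (Localization.AtPrime p ⧸ IsLocalRing.maximalIdeal (Localization.AtPrime p))) :=
    ⟨Submodule.liftQ _ (LinearMap.toSpanSingleton (Localization.AtPrime p) _ x') hle, LinearMap.ext fun w => by
      obtain ⟨c, rfl⟩ := Submodule.Quotient.mk_surjective _ w
      show ((WAt W p).d i (i + 1)).hom (c • x') = 0
      rw [map_smul]
      exact (congrArg (c • ·) hd).trans (smul_zero c)⟩
  refine ⟨⟨dcls _ _ i z', 0, fun h0 => ?_⟩⟩
  obtain ⟨w, hw⟩ := (dcls_eq_zero_iff _ _ i z').1 h0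
  let y' := w (Submodule.Quotient.mk 1)
  obtain ⟨s, hs, y, hy⟩ := hB.exists_one' (M := W.X (i - 1)) y'
  have h1 : one' φ ((W.d (i - 1) i).hom y - s • x) = 0 := by
    refine (map_sub ((ModuleCat.extendRestrictScalarsAdj.{u, u, u} φ).unit.app (W.X i)).hom _ _).trans ?_
    show one' φ ((W.d (i - 1) i).hom y) - one' φ (s • x) = 0
    rw [sub_eq_zero, one'_smul, ← map_one', ← hy]
    show ((WAt W p).d (i - 1) i).hom (φ s • y') = φ s • x'
    rw [map_smul]
    refine congrArg (φ s • ·) ((hw (Submodule.Quotient.mk 1)).symm.trans ?_)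
    exact one_smul (Localization.AtPrime p) x'
  obtain ⟨t, ht, ht0⟩ := hB.exists_of_one'_eq_zero h1
  obtain ⟨T, hT⟩ := (IsNoetherian.noetherian p : p.FG)
  have h2 : ∀ c : A, c ∈ p → ∃ u ∈ p.primeCompl, u • c • y = 0 := fun c hc => by
    refine hB.exists_of_one'_eq_zero ?_
    rw [one'_smul, ← hy, smul_smul, mul_comm, mul_smul]
    show φ s • φ c • w (Submodule.Quotient.mk 1) = 0
    rw [← map_smul w, ← Submodule.Quotient.mk_smul, smul_eq_mul,
      mul_one, (Submodule.Quotient.mk_eq_zero (IsLocalRing.maximalIdeal (Localization.AtPrime p))).2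
        (IsLocalization.AtPrime.map_eq_maximalIdeal p (Localization.AtPrime p) ▸ Ideal.mem_map_of_mem φ hc), map_zero,
      smul_zero]
  choose u hu hu0 using fun c : T => h2 c.1 (hT ▸ Submodule.subset_span c.2)
  let U := ∏ c : T, u c
  have hU : ∀ c ∈ p, c • (U • y) = 0 := by
    have hle : Submodule.span A (T : Set A) ≤ LinearMap.ker (LinearMap.toSpanSingleton A _ (U • y)) :=
      Submodule.span_le.2 fun c hc => by
        show c • (U • y) = 0
        rw [smul_comm, show U = (∏ k ∈ Finset.univ.erase (⟨c, hc⟩ : T), u k) * u ⟨c, hc⟩ from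
          (Finset.prod_erase_mul _ _ (Finset.mem_univ _)).symm, mul_smul, hu0, smul_zero]
    exact fun c hc => hle (hT.symm ▸ hc)
  have hmem : U * t * s ∈ p.primeCompl :=
    p.primeCompl.mul_mem (p.primeCompl.mul_mem (p.primeCompl.prod_mem fun c _ => hu c) ht) hs
  refine hv (U * t * s) hmem ?_
  rw [← map_smul]
  refine (dcls_eq_zero_iff W _ i _).2 ⟨Submodule.liftQ p (LinearMap.toSpanSingleton A _ (t • (U • y))) fun c hc => by
    rw [LinearMap.mem_ker, LinearMap.toSpanSingleton_apply, smul_comm, hU c hc, smul_zero], fun m => ?_⟩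
  obtain ⟨c, rfl⟩ := Submodule.Quotient.mk_surjective p m
  show (U * t * s) • z.1 (Submodule.Quotient.mk c) = (W.d (i - 1) i).hom (c • t • U • y)
  rw [show (Submodule.Quotient.mk c : A ⧸ p) = c • Submodule.Quotient.mk 1 by
    rw [← Submodule.Quotient.mk_smul, smul_eq_mul, mul_one], map_smul, map_smul, map_smul, map_smul]
  rw [smul_sub, sub_eq_zero] at ht0
  show (U * t * s) • c • x = c • t • U • (W.d (i - 1) i).hom y
  rw [smul_comm t U, ht0]
  simp only [smul_smul]
  congr 1
  ring

end Groth.Agent.DualCx
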