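import Groth.Agent.DualCx.Localization
import Groth.Agent.DualCx.Primes

/-!
# Being dualizing is local
-/

set_option autoImplicit false
set_option linter.style.haveILetI false

open CategoryTheory CategoryTheory.Limits CochainComplex CochainComplex.HomComplex

universe u

attribute [local instance] HasDerivedCategory.standard

namespace Groth.Agent.DualCx

open Groth.Agent.LocCohLib Groth.Agent.RGamma Groth.Agent.PCohLib

variable {A : Type u} [CommRing A]

theorem ideal_eq_top_of_forall_maximal (J : Ideal A) (h : ∀ m : Ideal A, m.IsMaximal → ∃ r ∈ J, r ∉ m) : J = ⊤ := by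
  by_contra hne
  obtain ⟨m, hm, hle⟩ := Ideal.exists_le_maximal J hne
  obtain ⟨r, hr, hrm⟩ := h m hm
  exact hrm (hle hr)

theorem equivHomShift_smul {K L : DRing.Cx A} {n : ℤ} (r : A) (m : K ⟶ (CategoryTheory.shiftFunctor (DRing.Cx A) n).obj L) :
    Cocycle.equivHomShift (r • m) = r • Cocycle.equivHomShift m := by
  ext p q hpq
  simp [Cocycle.equivHomShift_apply, Cochain.rightUnshift_v _ _ _ _ _ _ _ (add_zero p)]
  exact map_smul _ r _

/-- An object with a bounded injective model which is dualizing after localizations covering the closed points. -/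
theorem isDualizing_of_cover [IsNoetherianRing A] {R : Dual.D A} {W : DRing.Cx A} [W.IsKInjective]
    [∀ i, Injective (W.X i)] (a b : ℤ) (hzero : ∀ i, (i < a ∨ b < i) → IsZero (W.X i))
    (e : DerivedCategory.Q.obj W ≅ R) (hfin : ∀ i : ℤ, Module.Finite A (Dual.HD A R i))
    (hcov : ∀ (m : Ideal A) [m.IsMaximal], ∃ (B : Type u) (_ : CommRing B) (φ : A →+* B) (S : Submonoid A)
      (_ : IsLocHom φ S) (ω' : Dual.D B), S ≤ m.primeCompl ∧ Nonempty (DerivedCategory.Q.obj ((extC φ).obj W) ≅ ω') ∧
        Dual.IsDualizing B ω') :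
    Dual.IsDualizing A R := by
  obtain ⟨P, π, hP, hPff, hπ⟩ := exists_free_resolution b (fun i hi => hzero i (Or.inr hi)) (finite_homology_model e hfin)
  haveI := hP
  haveI := hπ
  let d := asIso (DerivedCategory.Q.map π)
  have local' : ∀ {B : Type u} [CommRing B] {φ : A →+* B} {S : Submonoid A}, IsLocHom φ S →
      ((extC φ).obj W).IsKInjective ∧ QuasiIso ((extC φ).map π) := fun {B} _ {φ} {S} hB => by
    haveI : PreservesFiniteLimits (extM φ) := ModuleCat.preservesFiniteLimits_extendScalars_of_flat.{u} hB.flat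
    haveI : PreservesFiniteColimits (extM φ) :=
      haveI : PreservesColimitsOfSize.{0, 0} (extM φ) :=
        (ModuleCat.extendRestrictScalarsAdj.{u, u, u} _).leftAdjoint_preservesColimits
      inferInstance
    haveI : ∀ i, Injective (((extC φ).obj W).X i) := fun i => hB.injective_ext (W.X i)
    haveI : ((extC φ).obj W).IsStrictlyGE a := (CochainComplex.isStrictlyGE_iff _ _).2 fun i hi =>
      Functor.map_isZero (extM _) (hzero i (Or.inl hi))
    exact ⟨CochainComplex.isKInjective_of_injective _ a, inferInstance⟩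
  refine
    { isNoetherianRing := inferInstance
      finite_injective_dimension := ⟨a, b, fun M _ _ i hi => ?_⟩
      finite_cohomology := hfin
      toEnd_bijective := ⟨fun x y hxy => ?_, fun α => ?_⟩
      ext_self_subsingleton := fun n hn => ?_ }
  · haveI : Subsingleton ((dCx W (ModuleCat.of A M)).homology i) := subsingleton_dual_of_isZero (hzero i hi) _
    exact (homIso W e (ModuleCat.of A M) i).toEquiv.subsingleton
  · rw [← sub_eq_zero]
    have h0 : DerivedCategory.Q.map ((x - y) • π) = 0 := by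
      have h1 : (x - y) • 𝟙 R = 0 := by rw [sub_smul, sub_eq_zero]; exact hxy
      rw [Functor.map_smul]
      refine (cancel_mono e.hom).1 ?_
      rw [zero_comp, Linear.smul_comp, ← Category.comp_id (DerivedCategory.Q.map π ≫ e.hom), ← Linear.comp_smul, h1,
        comp_zero]
    obtain ⟨H⟩ := (TriH.Q_map_eq_zero_iff_of_isKInjective _).1 h0
    obtain ⟨β, hβ⟩ := Cochain.equivHomotopy _ 0 H
    rw [Cochain.ofHom_zero, add_zero] at hβ
    have hx : ∀ (m : Ideal A) [m.IsMaximal], ∃ s : A, s ∉ m ∧ s * (x - y) = 0 := fun m _ => by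
      obtain ⟨B, _, φ, S, hB, ω', hS, ⟨e'⟩, hω'⟩ := hcov m
      obtain ⟨hK, hq⟩ := local' hB
      haveI := hK
      haveI := hq
      suffices h : φ (x - y) = 0 by
        obtain ⟨s, hs, hs0⟩ := hB.ker _ h
        exact ⟨s, hS hs, hs0⟩
      refine eq_zero_of_smul_π ((extC φ).map π) hω'.toEnd_bijective e' _
        (cloc β) ?_
      rw [← cloc_δ _ _ (by omega), ← cloc_ofHom, ← cloc_smul, ← hβ]
      refine congrArg _ (Cochain.ext _ _ fun p q hpq => ?_)
      obtain rfl : p = q := by omega
      rw [Cochain.smul_v, Cochain.ofHom_v, Cochain.ofHom_v]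
      rfl
    let J : Ideal A := LinearMap.ker (LinearMap.toSpanSingleton A A (x - y))
    have hJ : J = ⊤ := ideal_eq_top_of_forall_maximal J fun m hm => by
      haveI := hm
      obtain ⟨s, hsm, hs⟩ := hx m
      exact ⟨s, by rw [LinearMap.mem_ker, LinearMap.toSpanSingleton_apply, smul_eq_mul]; exact hs, hsm⟩
    have h1 : (1 : A) ∈ J := hJ ▸ Submodule.mem_top
    rwa [LinearMap.mem_ker, LinearMap.toSpanSingleton_apply, one_smul] at h1
  · let J : Ideal A :=
      { carrier := {r | ∃ c : A, r • α = c • 𝟙 R}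
        add_mem' := fun ⟨c, hc⟩ ⟨c', hc'⟩ => ⟨c + c', by rw [add_smul, add_smul, hc, hc']⟩
        zero_mem' := ⟨0, by rw [zero_smul, zero_smul]⟩
        smul_mem' := fun s r ⟨c, hc⟩ => ⟨s * c, by rw [smul_eq_mul, mul_smul, mul_smul, hc]⟩ }
    suffices hJ : J = ⊤ by
      obtain ⟨c, hc⟩ : (1 : A) ∈ J := hJ ▸ Submodule.mem_top
      exact ⟨c, hc.symm.trans (one_smul A α)⟩
    refine ideal_eq_top_of_forall_maximal J fun m hm => ?_
    haveI := hm
    obtain ⟨B, _, φ, S, hB, ω', hS, ⟨e'⟩, hω'⟩ := hcov m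
    obtain ⟨hK, hq⟩ := local' hB
    haveI := hK
    haveI := hq
    let π' := (extC φ).map π
    obtain ⟨f, hf⟩ := (RHomCx.good W W).lift P (d.hom ≫ e.hom ≫ α ≫ e.inv)
    let c := Cochain.ofHom f
    have hc : δ 0 (0 + 1) (cloc (φ := φ) c) = 0 := by
      rw [← cloc_δ _ _ rfl, δ_ofHom]
      exact Cochain.ext _ _ fun p q hpq => by
        rw [cloc_v, Cochain.zero_v, Cochain.zero_v, Functor.map_zero]
        exact rfl
    obtain ⟨c₀, β', hβ'⟩ := exists_smul_π π' hω'.toEnd_bijective e' (cloc (φ := φ) c) hc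
    obtain ⟨a₀, s, hs, hsc⟩ := hB.surj c₀
    obtain ⟨t, ht, β, hβ⟩ := hB.exists_cloc a b hzero hPff β'
    have h0 : cloc (φ := φ) (s • δ (-1) 0 β - t • (s • c - a₀ • Cochain.ofHom π)) = 0 := by
      rw [cloc_sub, cloc_smul, cloc_smul, cloc_sub, cloc_smul, cloc_smul, cloc_δ _ _ (by omega), ← hβ, δ_smul, hβ',
        cloc_ofHom π]
      show φ s • φ t • (cloc c - c₀ • Cochain.ofHom π') - φ t • (φ s • cloc c - φ a₀ • Cochain.ofHom π') = 0
      rw [← hsc, sub_eq_zero]
      simp only [smul_sub, smul_smul]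
      congr 2 <;> ring
    obtain ⟨v, hv, hv0⟩ := hB.exists_kill_cochain a b hzero (fun i => (hPff i).1) _ h0
    rw [smul_sub, sub_eq_zero, smul_smul, ← δ_smul, smul_smul] at hv0
    have H : Homotopy ((v * t) • (s • f - a₀ • π)) 0 := (Cochain.equivHomotopy _ 0).symm ⟨(v * s) • β, by
      rw [Cochain.ofHom_zero, add_zero, hv0]
      refine Cochain.ext _ _ fun p q hpq => ?_
      obtain rfl : p = q := by omega
      simp only [c, Cochain.smul_v, Cochain.sub_v, Cochain.ofHom_v]
      rfl⟩
    have hQ := (TriH.Q_map_eq_zero_iff_of_isKInjective _).2 ⟨H⟩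
    rw [Functor.map_smul, Functor.map_sub, Functor.map_smul, Functor.map_smul, hf, smul_sub, smul_smul, smul_smul,
      sub_eq_zero] at hQ
    refine ⟨v * t * s, ⟨v * t * a₀, ?_⟩, hS (S.mul_mem (S.mul_mem hv ht) hs)⟩
    refine (cancel_epi (d.hom ≫ e.hom)).1 ((cancel_mono e.inv).1 ?_)
    simp only [Category.assoc, Linear.smul_comp, Linear.comp_smul, Category.id_comp, Iso.hom_inv_id, Category.comp_id]
    exact hQ
  · refine subsingleton_of_forall_eq 0 fun α => ?_
    let Φ := (DerivedCategory.Q.commShiftIso n).app W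
    obtain ⟨f, hf⟩ := (RHomCx.good W ((CategoryTheory.shiftFunctor (DRing.Cx A) n).obj W)).lift P
      (d.hom ≫ e.hom ≫ α ≫ (CategoryTheory.shiftFunctor (Dual.D A) n).map e.inv ≫ Φ.inv)
    let c := Cocycle.equivHomShift f
    let J : Ideal A :=
      { carrier := {r | r • α = 0}
        add_mem' := fun {x y} hx hy => by
          show (x + y) • α = 0
          rw [add_smul, show x • α = 0 from hx, show y • α = 0 from hy, add_zero]
        zero_mem' := zero_smul A α
        smul_mem' := fun s r hr => by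
          show (s • r) • α = 0
          rw [smul_eq_mul, mul_smul, show r • α = 0 from hr, smul_zero] }
    suffices hJ : J = ⊤ by
      have h1 : (1 : A) ∈ J := hJ ▸ Submodule.mem_top
      exact (one_smul A α).symm.trans h1
    refine ideal_eq_top_of_forall_maximal J fun m hm => ?_
    haveI := hm
    obtain ⟨B, _, φ, S, hB, ω', hS, ⟨e'⟩, hω'⟩ := hcov m
    obtain ⟨hK, hq⟩ := local' hB
    haveI := hK
    haveI := hq
    have hc : δ n (n + 1) (cloc (φ := φ) (c : Cochain P W n)) = 0 := by
      rw [← cloc_δ _ _ rfl, c.δ_eq_zero]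
      exact Cochain.ext _ _ fun p q hpq => by
        rw [cloc_v, Cochain.zero_v, Cochain.zero_v, Functor.map_zero]
        exact rfl
    obtain ⟨β', hβ'⟩ := exists_δ_of_ext_vanish ((extC φ).map π) e' n (hω'.ext_self_subsingleton n hn) _ hc
    obtain ⟨t, ht, β, hβ⟩ := hB.exists_cloc a b hzero hPff β'
    have h0 : cloc (φ := φ) (δ (n - 1) n β - t • (c : Cochain P W n)) = 0 := by
      rw [cloc_sub, cloc_smul, cloc_δ _ _ (by omega), ← hβ, δ_smul, hβ', sub_self]
    obtain ⟨v, hv, hv0⟩ := hB.exists_kill_cochain a b hzero (fun i => (hPff i).1) _ h0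
    rw [smul_sub, sub_eq_zero, ← δ_smul, smul_smul] at hv0
    refine ⟨v * t, ?_, hS (S.mul_mem hv ht)⟩
    have hmem : (v * t) • c ∈ coboundaries P W n := (mem_coboundaries_iff _ (n - 1) (by omega)).2 ⟨v • β, hv0⟩
    have h2 := (CohomologyClass.toHom_mk_eq_zero_iff _).2 hmem
    rw [CohomologyClass.toHom_mk, ← equivHomShift_smul, AddEquiv.symm_apply_apply,
      HomotopyCategory.quotient_map_eq_zero_iff] at h2
    have hQ : DerivedCategory.Q.map ((v * t) • f) = 0 := (TriH.Q_map_eq_zero_iff_of_isKInjective _).2 h2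
    rw [Functor.map_smul, hf, ← Linear.comp_smul, Preadditive.IsIso.comp_left_eq_zero, ← Linear.comp_smul,
      Preadditive.IsIso.comp_left_eq_zero, ← Linear.smul_comp] at hQ
    show (v * t) • α = 0
    refine (cancel_mono ((CategoryTheory.shiftFunctor (Dual.D A) n).map e.inv ≫ Φ.inv)).1 ?_
    rw [zero_comp]
    exact hQ

/-- An object with a bounded injective model which is dualizing at every maximal ideal is dualizing. -/
theorem isDualizing_of_local [IsNoetherianRing A] {R : Dual.D A} {W : DRing.Cx A} [W.IsKInjective]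
    [∀ i, Injective (W.X i)] (a b : ℤ) (hzero : ∀ i, (i < a ∨ b < i) → IsZero (W.X i))
    (e : DerivedCategory.Q.obj W ≅ R) (hfin : ∀ i : ℤ, Module.Finite A (Dual.HD A R i))
    (hloc : ∀ (m : Ideal A) [m.IsMaximal], ∃ ω' : Dual.D (Localization.AtPrime m),
      Nonempty (DerivedCategory.Q.obj (WAt W m) ≅ ω') ∧ Dual.IsDualizing (Localization.AtPrime m) ω') :
    Dual.IsDualizing A R :=
  isDualizing_of_cover a b hzero e hfin fun m _ => by
    obtain ⟨ω', e', hω'⟩ := hloc m
    exact ⟨_, inferInstance, _, m.primeCompl, isLocHom_prime m, ω', le_rfl, e', hω'⟩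

end Groth.Agent.DualCx

namespace Groth.Agent.DualCx

open Groth.Agent.LocCohLib Groth.Agent.RGamma Groth.Agent.PCohLib

variable {A : Type u} [CommRing A]

/-- The model at a prime is the derived base change. -/
theorem nonempty_extC_iso_LBC [IsNoetherianRing A] {R : Dual.D A} {W : DRing.Cx A} [W.IsKInjective] (b : ℤ)
    (hzero : ∀ i, b < i → IsZero (W.X i)) (e : DerivedCategory.Q.obj W ≅ R)
    (hfin : ∀ i : ℤ, Module.Finite A (Dual.HD A R i)) {B : Type u} [CommRing B] {φ : A →+* B} {S : Submonoid A}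
    (h : IsLocHom φ S) [DRing.HasLBaseChange φ] :
    Nonempty (DerivedCategory.Q.obj ((extC φ).obj W) ≅ (DRing.LBaseChange φ).obj R) := by
  obtain ⟨P, π, hP, -, hπ⟩ := exists_free_resolution b hzero (finite_homology_model e hfin)
  haveI := hP
  haveI := hπ
  haveI : PreservesFiniteLimits (extM φ) := ModuleCat.preservesFiniteLimits_extendScalars_of_flat.{u} h.flat
  haveI : PreservesFiniteColimits (extM φ) :=
    haveI : PreservesColimitsOfSize.{0, 0} (extM φ) :=
      (ModuleCat.extendRestrictScalarsAdj.{u, u, u} φ).leftAdjoint_preservesColimits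
    inferInstance
  haveI : QuasiIso ((extC φ).map π) := inferInstance
  exact ⟨(asIso (DerivedCategory.Q.map ((extC φ).map π))).symm ≪≫
    (LBC.valueIso φ P).symm ≪≫ (DRing.LBaseChange φ).mapIso (asIso (DerivedCategory.Q.map π) ≪≫ e)⟩

end Groth.Agent.DualCx
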