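import Groth.Agent.DualCx.FlatBC
import Groth.Agent.DualCx.LocalGlobal
import Groth.Agent.DualCx.Pointwise
import Groth.Prelude.Def_DTen6

/-!
# Base change along flat maps that are unramified at maximal ideals
-/

set_option autoImplicit false
set_option linter.style.haveILetI false

open CategoryTheory CategoryTheory.Limits TensorProduct

universe u

attribute [local instance] HasDerivedCategory.standard

namespace Groth.Agent.DualCx

open Groth.Agent.LocCohLib Groth.Agent.RGamma

variable {A B : Type u} [CommRing A] [CommRing B] {φ : A →+* B}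

theorem finite_extM {C : Type u} [CommRing C] (χ : B →+* C) (M : ModuleCat.{u} B) [Module.Finite B M] :
    Module.Finite C ((extM χ).obj M) := by
  letI := χ.toAlgebra
  exact inferInstanceAs (Module.Finite C (C ⊗[B] M))

/-- Flat base change, given the residual duals at the maximal ideals. -/
theorem isDualizing_LBC_of_points [IsNoetherianRing A] [IsNoetherianRing B] (hflat : φ.Flat)
    {ω : Dual.D A} (hω : Dual.IsDualizing A ω)
    {W : DRing.Cx A} [W.IsKInjective] [∀ i, Injective (W.X i)] (a b : ℤ)
    (hzero : ∀ i, i < a → IsZero (W.X i)) (e : DerivedCategory.Q.obj W ≅ ω)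
    {R : Dual.D B} (eW : DerivedCategory.Q.obj ((extC φ).obj W) ≅ R)
    (hpt : ∀ (n : Ideal B) [n.IsMaximal] (V : DRing.Cx (Localization.AtPrime n)) [∀ i, Injective (V.X i)],
      (∀ i, i < a → IsZero (V.X i)) → ∀ (g : (extC ((algebraMap B (Localization.AtPrime n)).comp φ)).obj W ⟶ V)
      [QuasiIso g], ∃ c : ℤ, c ≤ b ∧
      (∀ i, i ≠ c → Subsingleton ((dCx V (ModuleCat.of (Localization.AtPrime n)
        (Localization.AtPrime n ⧸ IsLocalRing.maximalIdeal (Localization.AtPrime n)))).homology i)) ∧
      Nonempty ((dCx V (ModuleCat.of (Localization.AtPrime n)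
        (Localization.AtPrime n ⧸ IsLocalRing.maximalIdeal (Localization.AtPrime n)))).homology c ≃ₗ[Localization.AtPrime n]
        Localization.AtPrime n ⧸ IsLocalRing.maximalIdeal (Localization.AtPrime n))) :
    Dual.IsDualizing B R := by
  haveI := preservesLimits_extM hflat
  haveI : PreservesFiniteColimits (extM φ) :=
    haveI : PreservesColimitsOfSize.{0, 0} (extM φ) :=
      (ModuleCat.extendRestrictScalarsAdj.{u, u, u} φ).leftAdjoint_preservesColimits
    inferInstance
  have hfin : ∀ i, Module.Finite B (Dual.HD B R i) := fun i => by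
    letI := φ.toAlgebra
    haveI := hω.finite_cohomology i
    haveI : Module.Finite B ((extM φ).obj (ModuleCat.of A (Dual.HD A ω i))) :=
      inferInstanceAs (Module.Finite B (B ⊗[A] (Dual.HD A ω i)))
    let g : (DerivedCategory.homologyFunctor (ModuleCat.{u} B) i).obj R ≅ (extM φ).obj (ModuleCat.of A (Dual.HD A ω i)) :=
      (DerivedCategory.homologyFunctor (ModuleCat.{u} B) i).mapIso eW.symm ≪≫
      (DerivedCategory.homologyFunctorFactors (ModuleCat.{u} B) i).app ((extC φ).obj W) ≪≫
      (W.sc i).mapHomologyIso (extM φ) ≪≫ (extM φ).mapIso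
        (((DerivedCategory.homologyFunctorFactors (ModuleCat.{u} A) i).app W).symm ≪≫
          (DerivedCategory.homologyFunctor (ModuleCat.{u} A) i).mapIso e)
    exact Module.Finite.equiv g.toLinearEquiv.symm
  have hbdd : ∀ i, i < a → Subsingleton (Dual.HD B R i) := fun i hi => by
    haveI := ModuleCat.subsingleton_of_isZero (((extC φ).obj W).sc i |>.isZero_homology_of_isZero_X₂
      ((extM φ).map_isZero (hzero i hi)))
    have := ((DerivedCategory.homologyFunctor (ModuleCat.{u} B) i).mapIso eW.symm ≪≫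
      (DerivedCategory.homologyFunctorFactors (ModuleCat.{u} B) i).app ((extC φ).obj W)).toLinearEquiv.toEquiv
    exact this.subsingleton_congr.2 ‹_›
  -- the local statement for an injective model
  have local' : ∀ (E : DRing.Cx B) [E.IsKInjective] [∀ i, Injective (E.X i)], (∀ i, i < a → IsZero (E.X i)) →
      Nonempty (DerivedCategory.Q.obj E ≅ R) → ∀ (n : Ideal B) [n.IsMaximal], ∃ c : ℤ, c ≤ b ∧
        IsResidual (WAt E n) c ∧
        Dual.IsDualizing (Localization.AtPrime n) (DerivedCategory.Q.obj (WAt E n)) := by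
    intro E _ _ hE ⟨eE⟩ n hn
    let C := Localization.AtPrime n
    let χ := algebraMap B C
    let ψ := χ.comp φ
    have hχ := isLocHom_prime n
    haveI : IsNoetherianRing C := IsLocalization.isNoetherianRing n.primeCompl _ inferInstance
    haveI := preservesLimits_extM hχ.flat
    haveI : PreservesFiniteColimits (extM χ) :=
      haveI : PreservesColimitsOfSize.{0, 0} (extM χ) :=
        (ModuleCat.extendRestrictScalarsAdj.{u, u, u} χ).leftAdjoint_preservesColimits
      inferInstance
    have hψ : ψ.Flat := RingHom.Flat.comp hflat hχ.flat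
    obtain ⟨f', hf'⟩ := (CochainComplex.IsKInjective.Qh_map_bijective
      ((HomotopyCategory.quotient _ _).obj ((extC φ).obj W)) E).surjective
      ((DerivedCategory.quotientCompQhIso _).hom.app _ ≫ (eW ≪≫ eE.symm).hom ≫
        (DerivedCategory.quotientCompQhIso _).inv.app E)
    obtain ⟨f, rfl⟩ := (HomotopyCategory.quotient _ _).map_surjective f'
    haveI : IsIso (DerivedCategory.Q.map f) := by
      have h1 : DerivedCategory.Q.map f = (eW ≪≫ eE.symm).hom := by
        have h2 := (DerivedCategory.quotientCompQhIso (ModuleCat.{u} B)).hom.naturality f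
        rw [Functor.comp_map, hf'] at h2
        simpa using h2.symm
      rw [h1]; infer_instance
    haveI : QuasiIso f := (DerivedCategory.isIso_Q_map_iff_quasiIso _ _).1 inferInstance
    haveI : QuasiIso ((extC χ).map f) := inferInstance
    let f₂ : (extC ψ).obj W ⟶ WAt E n := (DTen.extCompCx φ χ).inv.app W ≫ (extC χ).map f
    haveI : QuasiIso f₂ := inferInstance
    haveI : ∀ i, Injective ((WAt E n).X i) := fun i => hχ.injective_ext (E.X i)
    have hEn : ∀ i, i < a → IsZero ((WAt E n).X i) := fun i hi => (extM _).map_isZero (hE i hi)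
    haveI : CochainComplex.IsStrictlyGE (WAt E n) a := (CochainComplex.isStrictlyGE_iff _ _).2 hEn
    haveI : (WAt E n).IsKInjective := CochainComplex.isKInjective_of_injective _ a
    obtain ⟨c, hcb, hvan, ⟨gc'⟩⟩ := hpt n (WAt E n) hEn f₂
    let K := DerivedCategory.Q.obj (WAt E n)
    have hfinE : ∀ i, Module.Finite C ((WAt E n).homology i) := fun i => by
      haveI := finite_homology_model eE hfin i
      haveI : Module.Finite B (E.sc i).homology := finite_homology_model eE hfin i
      haveI := finite_extM χ (E.sc i).homology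
      exact Module.Finite.equiv ((E.sc i).mapHomologyIso (extM χ)).toLinearEquiv.symm
    have hres : IsResidual (WAt E n) c :=
      { injective := inferInstance
        finite := fun N _ i => finite_dual a hEn hfinE N i
        residue := hvan
        nontrivial := gc'.toEquiv.nontrivial }
    refine ⟨c, hcb, hres, isDualizing_of_residue K (fun i => ?_) ⟨a, fun i hi => ?_⟩ c (fun i hi => ?_) ?_⟩
    · haveI : Module.Finite C ((HomologicalComplex.homologyFunctor (ModuleCat.{u} C) (ComplexShape.up ℤ) i).obj (WAt E n)) :=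
        hfinE i
      exact Module.Finite.equiv
        ((DerivedCategory.homologyFunctorFactors (ModuleCat.{u} C) i).app (WAt E n)).toLinearEquiv.symm
    · haveI := ModuleCat.subsingleton_of_isZero ((WAt E n).sc i |>.isZero_homology_of_isZero_X₂ (hEn i hi))
      exact (((DerivedCategory.homologyFunctorFactors (ModuleCat.{u} C) i).app (WAt E n)).toLinearEquiv.toEquiv.subsingleton_congr).2 ‹_›
    · haveI := hvan i hi
      exact (homIso (WAt E n) (Iso.refl K) (ModuleCat.of C (C ⧸ IsLocalRing.maximalIdeal C)) i).toEquiv.subsingleton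
    · exact ⟨homIso (WAt E n) (Iso.refl K) (ModuleCat.of C (C ⧸ IsLocalRing.maximalIdeal C)) c ≪≫ₗ gc'⟩
  obtain ⟨E, hEK, hEinj, hE, ⟨eE⟩⟩ := exists_model_below a hbdd
  haveI := hEK
  haveI := hEinj
  obtain ⟨V, hvan, hVinj, ⟨eV⟩⟩ := DRingPC.injAmp_of_extD (A := B) (K := R) a b fun I i hi => by
    refine (homIso E eE (ModuleCat.of B (B ⧸ I)) i).toEquiv.subsingleton_congr.2 ?_
    rcases hi with hi | hi
    · exact subsingleton_dual_of_isZero (hE i hi) _
    · show Subsingleton (EH E (B ⧸ I) i)
      rw [← Module.support_eq_empty_iff (R := B)]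
      refine Set.eq_empty_iff_forall_notMem.2 fun p hp => ?_
      obtain ⟨n, hn, hpn⟩ := Ideal.exists_le_maximal p.asIdeal p.2.ne_top
      haveI := hn
      have hp' : (⟨n, hn.isPrime⟩ : PrimeSpectrum B) ∈ Module.support B (EH E (B ⧸ I) i) :=
        Module.mem_support_mono hpn hp
      rw [mem_support_EH_iff] at hp'
      obtain ⟨c, hcb, hres, -⟩ := local' E hE ⟨eE⟩ n
      haveI : IsNoetherianRing (Localization.AtPrime n) := IsLocalization.isNoetherianRing n.primeCompl _ inferInstance
      haveI : Module.Finite (Localization.AtPrime n) (LocalizedModule n.primeCompl (B ⧸ I)) :=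
        Module.Finite.of_isLocalizedModule n.primeCompl (LocalizedModule.mkLinearMap n.primeCompl (B ⧸ I))
      haveI := hres.upper (LocalizedModule n.primeCompl (B ⧸ I)) i (by omega)
      exact not_nontrivial _ hp'
  haveI : ∀ i, Injective (V.X i) := fun i => by
    haveI := hVinj i
    exact (Module.injective_iff_injective_object B (V.X i)).1 (hVinj i)
  haveI : V.IsStrictlyGE a := (CochainComplex.isStrictlyGE_iff _ _).2 fun i hi => hvan i (Or.inl hi)
  haveI : V.IsKInjective := CochainComplex.isKInjective_of_injective V a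
  refine isDualizing_of_local a b hvan eV hfin fun n _ => ?_
  obtain ⟨c, -, -, hd⟩ := local' V (fun i hi => hvan i (Or.inl hi)) ⟨eV⟩ n
  exact ⟨_, ⟨Iso.refl _⟩, hd⟩

/-- Flat base change which is unramified with trivial residue condition at the maximal ideals. -/
theorem isDualizing_LBC_flat_maximal [IsNoetherianRing A] [IsNoetherianRing B] (hflat : φ.Flat)
    (hmax : ∀ n : Ideal B, n.IsMaximal → (n.comap φ).IsMaximal ∧ ∃ s, s ∉ n ∧ ∀ x ∈ n, s * x ∈ (n.comap φ).map φ)
    [DRing.HasLBaseChange φ] {ω : Dual.D A} (hω : Dual.IsDualizing A ω) :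
    Dual.IsDualizing B ((DRing.LBaseChange φ).obj ω) := by
  obtain ⟨W, a, b, hW, hinj, hzero, ⟨e⟩⟩ := exists_model hω.finite_injective_dimension
  haveI := hW
  haveI := hinj
  obtain ⟨eW⟩ := nonempty_extC_iso_LBC_flat hflat W e
  refine isDualizing_LBC_of_points hflat hω a b (fun i hi => hzero i (Or.inl hi)) e eW fun n hn V _ hV g₂ _ => ?_
  obtain ⟨hm, s, hs, hsn⟩ := hmax n hn
  haveI := hm
  let C := Localization.AtPrime n
  let χ := algebraMap B C
  let ψ := χ.comp φ
  have hψ : ψ.Flat := RingHom.Flat.comp hflat (isLocHom_prime n).flat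
  let kA := ModuleCat.of A (A ⧸ n.comap φ)
  haveI : Module.FinitePresentation A kA := Module.finitePresentation_of_finite A _
  obtain ⟨ek⟩ : Nonempty ((extM ψ).obj kA ≅ ModuleCat.of C (C ⧸ IsLocalRing.maximalIdeal C)) := by
    letI := ψ.toAlgebra
    refine ⟨((Algebra.TensorProduct.quotIdealMapEquivTensorQuot C (n.comap φ)).symm.toLinearEquiv ≪≫ₗ
      Submodule.quotEquivOfEq _ _ ?_).toModuleIso⟩
    show (n.comap φ).map (χ.comp φ) = _
    rw [← Localization.AtPrime.map_eq_maximalIdeal, ← Ideal.map_map]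
    refine le_antisymm (Ideal.map_mono Ideal.map_comap_le) (Ideal.map_le_iff_le_comap.2 fun x hx => ?_)
    refine Ideal.mem_comap.2 ((Ideal.unit_mul_mem_iff_mem _ (IsLocalization.map_units C (⟨s, hs⟩ : n.primeCompl))).1 ?_)
    rw [← map_mul]
    exact Ideal.mem_map_of_mem χ (hsn x hx)
  obtain ⟨c, hc, ⟨gc⟩⟩ := exists_degree W (n.comap φ) a b hzero e hω
  have hcb : c ≤ b := by
    by_contra hcon
    haveI := subsingleton_dual_of_isZero (hzero c (Or.inr (not_le.1 hcon))) kA
    haveI : Nontrivial (A ⧸ n.comap φ) := Ideal.Quotient.nontrivial_iff.2 hm.ne_top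
    haveI := gc.symm.toEquiv.subsingleton
    exact not_nontrivial (A ⧸ n.comap φ) inferInstance
  let K := DerivedCategory.Q.obj V
  have hd : ∀ i, Nonempty ((dCx V (ModuleCat.of C (C ⧸ IsLocalRing.maximalIdeal C))).homology i ≃ₗ[C]
      (extM ψ).obj ((dCx W kA).homology i)) := fun i => by
    obtain ⟨g⟩ := nonempty_dual_ext hψ a (fun j hj => hzero j (Or.inl hj)) hV g₂ kA i
    exact ⟨(EH_congr V ek i).some.toLinearEquiv.symm ≪≫ₗ g⟩
  have hvan : ∀ i, i ≠ c → Subsingleton ((dCx V (ModuleCat.of C (C ⧸ IsLocalRing.maximalIdeal C))).homology i) :=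
    fun i hi => by
    haveI := hc i hi
    haveI := ModuleCat.subsingleton_of_isZero ((extM ψ).map_isZero
      (ModuleCat.isZero_of_subsingleton ((dCx W kA).homology i)))
    exact (hd i).some.toEquiv.subsingleton
  exact ⟨c, hcb, hvan, ⟨(hd c).some ≪≫ₗ ((extM ψ).mapIso gc.toModuleIso ≪≫ ek).toLinearEquiv⟩⟩

/-- Flat base change which is an isomorphism modulo an ideal in the radical. -/
theorem isDualizing_LBC_flat_mod [IsNoetherianRing A] [IsNoetherianRing B] (hflat : φ.Flat) (I : Ideal A)
    (hs : Function.Surjective ((Ideal.Quotient.mk (I.map φ)).comp φ)) (hJ : I.map φ ≤ (⊥ : Ideal B).jacobson)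
    [DRing.HasLBaseChange φ] {ω : Dual.D A} (hω : Dual.IsDualizing A ω) :
    Dual.IsDualizing B ((DRing.LBaseChange φ).obj ω) := by
  refine isDualizing_LBC_flat_maximal hflat (fun n hn => ?_) hω
  have hIn : I.map φ ≤ n := hJ.trans (sInf_le ⟨bot_le, hn⟩)
  have hlift : ∀ x : B, ∃ a : A, x - φ a ∈ I.map φ := fun x => by
    obtain ⟨a, ha⟩ := hs (Ideal.Quotient.mk _ x)
    exact ⟨a, Ideal.Quotient.eq.1 ha.symm⟩
  haveI := hn
  refine ⟨?_, 1, (fun h => hn.ne_top ((Ideal.eq_top_iff_one _).2 h)), fun x hx => ?_⟩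
  · have h : n.comap φ = RingHom.ker ((Ideal.Quotient.mk n).comp φ) := by
      rw [← RingHom.comap_ker, Ideal.mk_ker]
    rw [h]
    letI := Ideal.Quotient.field n
    refine RingHom.ker_isMaximal_of_surjective _ fun y => ?_
    obtain ⟨x, rfl⟩ := Ideal.Quotient.mk_surjective y
    obtain ⟨a, ha⟩ := hlift x
    exact ⟨a, ((Ideal.Quotient.eq).2 (hIn ha)).symm⟩
  · obtain ⟨a, ha⟩ := hlift x
    rw [one_mul, ← sub_add_cancel x (φ a)]
    have hIa : I ≤ n.comap φ := Ideal.map_le_iff_le_comap.1 hIn
    refine Ideal.add_mem _ (Ideal.map_mono hIa ha) (Ideal.mem_map_of_mem φ ?_)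
    show φ a ∈ n
    simpa using n.sub_mem hx (hIn ha)

end Groth.Agent.DualCx
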