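import Groth.Agent.DualCx.AnnDual
import Groth.Agent.S12916

/-!
# Generalized Cohen-Macaulay modules in the presence of a dualizing complex
-/

set_option autoImplicit false
set_option linter.style.haveILetI false

open CategoryTheory CategoryTheory.Limits

universe u

attribute [local instance] HasDerivedCategory.standard

namespace Groth.Agent.DualCx

variable {A : Type u} [CommRing A] [IsLocalRing A] [IsNoetherianRing A]

local notation "𝔪" => IsLocalRing.maximalIdeal A

theorem isFiniteLength_dual_iff {E : Type u} [AddCommGroup E] [Module A E] {f : IsLocalRing.ResidueField A →ₗ[A] E}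
    (hf : InjHull.IsInjectiveHull f) (D : Type u) [AddCommGroup D] [Module A D] [Module.Finite A D] :
    IsFiniteLength A (D →ₗ[A] E) ↔ ∀ p ∈ Module.support A D, p.asIdeal = 𝔪 := by
  constructor
  · intro h p hp
    have hT := MatlisLib.isPowerTorsion_of_isFiniteLength h
    haveI := (isFiniteLength_iff_isNoetherian_isArtinian.1 h).1
    have hp' : p ∈ Module.support A (D →ₗ[A] E) := by
      rw [Module.mem_support_iff_of_finite] at hp ⊢
      rwa [← annihilator_dual_eq hf D]
    obtain ⟨x, hx⟩ := Module.mem_support_iff_exists_annihilator.1 hp'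
    obtain ⟨k, hk⟩ := hT x
    exact le_antisymm (IsLocalRing.le_maximalIdeal p.2.ne_top) (p.2.le_of_pow_le fun a ha =>
      hx ((Submodule.mem_annihilator_span_singleton x a).2 (hk a ha)))
  · intro h
    have hfl : IsFiniteLength A D := S12916.isFiniteLength_of_support D fun q hq => by
      rw [h q hq]; infer_instance
    rw [← Module.length_ne_top_iff, MatlisLib.length_dual hf hfl (MatlisLib.isPowerTorsion_of_isFiniteLength hfl),
      Module.length_ne_top_iff]
    exact hfl

/-- Generalized Cohen-Macaulay modules. -/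
theorem isFiniteLength_H_below_iff {ω : Dual.D A} (hω : Dual.IsDualizing A ω) (hn : Dual.IsNormalized A ω)
    (M : Type u) [AddCommGroup M] [Module A M] [Module.Finite A M] (n : ℕ) (hdim : Module.supportDim A M = n) :
    (∀ i : ℕ, i < n → IsFiniteLength A (LocCoh.H 𝔪 i M)) ↔
      ((∀ q ∈ (Module.annihilator A M).minimalPrimes, ringKrullDim (A ⧸ q) = n) ∧
        ∀ (p : Ideal A) [p.IsPrime], p ≠ 𝔪 → Module.annihilator A M ≤ p →
          LocCoh.IsCohenMacaulayModule (Localization.AtPrime p) (LocalizedModule p.primeCompl M)) := by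
  obtain ⟨W, a, b, hK, hW, hzero, ⟨e⟩, -⟩ := exists_residual' hω hn
  haveI := hK
  haveI := hW.injective
  obtain ⟨E, _, _, fE, hfE⟩ := MatlisLib.exists_hull (R := A) (IsLocalRing.ResidueField A)
  let S : ℤ → Set (PrimeSpectrum A) := fun l => Module.support A (EH W M l)
  have hfl : ∀ i : ℕ, IsFiniteLength A (LocCoh.H 𝔪 i M) ↔ ∀ p ∈ S (-(i : ℤ)), p.asIdeal = 𝔪 := fun i => by
    obtain ⟨hD, ⟨g⟩⟩ := nonempty_H_dual hω hn ((CategoryTheory.shiftFunctorZero (Dual.D A) ℤ).app ω).symm e E fE hfE M i
    rw [zero_add] at hD g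
    haveI := hD
    exact ⟨fun h => (isFiniteLength_dual_iff hfE _).1 (g.isFiniteLength h),
      fun h => g.symm.isFiniteLength ((isFiniteLength_dual_iff hfE _).2 h)⟩
  simp only [hfl]
  have hrange : ∀ p l, p ∈ S l → -(n : ℤ) ≤ l ∧ l ≤ 0 := fun p l hl => by
    have hnt : Nontrivial (EH W M l) := Module.nonempty_support_iff.1 ⟨p, hl⟩
    constructor
    · by_contra hlt
      haveI := hW.lower M n hdim.le l (by omega)
      exact not_nontrivial _ hnt
    · by_contra hlt
      haveI := hW.upper M l (by omega)
      exact not_nontrivial _ hnt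
  have hminimal : ∀ q : PrimeSpectrum A, q.asIdeal ∈ (Module.annihilator A M).minimalPrimes →
      ∀ d : ℕ, ringKrullDim (A ⧸ q.asIdeal) = d → q ∈ S (-(d : ℤ)) := by
    intro q hq d hd
    let B := Localization.AtPrime q.asIdeal
    let N := LocalizedModule q.asIdeal.primeCompl M
    have hsupp : q ∈ Module.support A M := Module.mem_support_iff_of_finite.2 hq.1.2
    haveI : IsNoetherianRing B := IsLocalization.isNoetherianRing q.asIdeal.primeCompl _ inferInstance
    haveI : Module.Finite B N :=
      Module.Finite.of_isLocalizedModule q.asIdeal.primeCompl (LocalizedModule.mkLinearMap q.asIdeal.primeCompl M)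
    haveI : Nontrivial N := Module.mem_support_iff.1 hsupp
    obtain ⟨k, hk⟩ := DepthLib.exists_nat_supportDim (R := B) N
    obtain ⟨c, hres, -, -⟩ := exists_residual_at a b hω hzero e q.asIdeal
    obtain rfl := residual_degree_eq hW q.asIdeal hres hd
    have hk0 : k = 0 := by
      have h : Module.supportDim B N ≤ ((0 : ℕ) : WithBot ℕ∞) := supportDim_le_iff.2 fun P hP => by
        have hP' := Module.mem_support_iff_of_finite.1 hP
        have hc : Module.annihilator A M ≤ P.asIdeal.comap (algebraMap A B) := fun x hx => hP' (Module.mem_annihilator.2 fun v => by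
          rw [algebraMap_smul]
          induction v using LocalizedModule.induction_on with
          | h m s => rw [LocalizedModule.smul'_mk, Module.mem_annihilator.1 hx, LocalizedModule.zero_mk])
        have hle : P.asIdeal.comap (algebraMap A B) ≤ q.asIdeal := fun x hx => by
          by_contra hxq
          exact P.2.ne_top (P.asIdeal.eq_top_of_isUnit_mem hx (IsLocalization.map_units B (⟨x, hxq⟩ : q.asIdeal.primeCompl)))
        have heq : P.asIdeal.comap (algebraMap A B) = q.asIdeal := le_antisymm hle (hq.2 ⟨inferInstance, hc⟩ hle)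
        have hmax : P.asIdeal = IsLocalRing.maximalIdeal B := by
          refine (IsLocalization.map_under q.asIdeal.primeCompl B P.asIdeal).symm.trans ?_
          exact (congrArg (Ideal.map (algebraMap A B)) heq).trans (IsLocalization.AtPrime.map_eq_maximalIdeal q.asIdeal B)
        rw [hmax, ringKrullDim_eq_zero_of_isField ((Ideal.Quotient.maximal_ideal_iff_isField_quotient _).1 inferInstance)]
        exact le_rfl
      rw [hk] at h
      exact Nat.le_zero.1 (by exact_mod_cast h)
    subst hk0
    refine (mem_support_EH_iff W M q _).2 ?_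
    have h := hres.nontrivial_top N 0 hk
    rwa [Nat.cast_zero, sub_zero] at h
  have hexd : ∀ q : Ideal A, q.IsPrime → ∃ d : ℕ, ringKrullDim (A ⧸ q) = d := fun q hq => by
    haveI : Nontrivial (A ⧸ q) := Ideal.Quotient.nontrivial_iff.2 hq.ne_top
    obtain ⟨d, hd⟩ := DepthLib.exists_nat_supportDim (R := A) (A ⧸ q)
    exact ⟨d, (Module.supportDim_quotient_eq_ringKrullDim q).symm.trans hd⟩
  constructor
  · intro h
    have hone : ∀ p : PrimeSpectrum A, p.asIdeal ≠ 𝔪 → ∀ l, p ∈ S l → l = -(n : ℤ) := fun p hpm l hl => by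
      obtain ⟨h1, h2⟩ := hrange p l hl
      by_contra hne
      exact hpm (h (-l).toNat (by omega) p (by rwa [show -(((-l).toNat : ℕ) : ℤ) = l by omega]))
    refine ⟨fun q hq => ?_, fun p _ hpm hann => ?_⟩
    · haveI := hq.1.1
      obtain ⟨d, hd⟩ := hexd q hq.1.1
      by_cases hqm : q = 𝔪
      · subst hqm
        rw [ringKrullDim_eq_zero_of_isField ((Ideal.Quotient.maximal_ideal_iff_isField_quotient _).1 inferInstance)]
        have h0 : Module.supportDim A M ≤ ((0 : ℕ) : WithBot ℕ∞) := supportDim_le_iff.2 fun p hp => by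
          have hle := Module.mem_support_iff_of_finite.1 hp
          have hp' : p.asIdeal = 𝔪 := le_antisymm (IsLocalRing.le_maximalIdeal p.2.ne_top)
            (hq.2 ⟨p.2, hle⟩ (IsLocalRing.le_maximalIdeal p.2.ne_top))
          rw [hp', ringKrullDim_eq_zero_of_isField ((Ideal.Quotient.maximal_ideal_iff_isField_quotient _).1 inferInstance)]
          exact le_rfl
        rw [hdim] at h0
        obtain rfl : n = 0 := Nat.le_zero.1 (by exact_mod_cast h0)
        rfl
      · have := hone ⟨q, hq.1.1⟩ hqm _ (hminimal ⟨q, hq.1.1⟩ hq d hd)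
        rw [hd, show d = n by omega]
    · refine ((cm_iff a b hω hzero e M ⟨p, inferInstance⟩).2 fun i j hi hj => ?_).resolve_left fun hsub => ?_
      · rw [hone ⟨p, inferInstance⟩ hpm i hi, hone ⟨p, inferInstance⟩ hpm j hj]
      · exact not_subsingleton_iff_nontrivial.2 (Module.mem_support_iff.1
          (show (⟨p, inferInstance⟩ : PrimeSpectrum A) ∈ Module.support A M from Module.mem_support_iff_of_finite.2 hann)) hsub
  · rintro ⟨heq, hcm⟩ i hi p hp
    by_contra hpm
    have hsupp : p ∈ Module.support A M := by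
      by_contra hns
      exact subsingleton_of_not_support M p hns _ hp
    have hann := Module.mem_support_iff_of_finite.1 hsupp
    obtain ⟨q, hq, hqp⟩ := Ideal.exists_minimalPrimes_le hann
    have hq' := hminimal ⟨q, hq.1.1⟩ hq n (heq q hq)
    have hp' : p ∈ S (-(n : ℤ)) := Module.mem_support_mono (show (⟨q, hq.1.1⟩ : PrimeSpectrum A) ≤ p from hqp) hq'
    have := (cm_iff a b hω hzero e M p).1 (Or.inr (hcm p.asIdeal hpm hann)) _ _ hp hp'
    omega

end Groth.Agent.DualCx
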