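import Groth.Agent.DualCx.Unique
import Groth.Agent.DualCx.Gorenstein
import Groth.Agent.DualCx.LocEH
import Mathlib.RingTheory.Spectrum.Prime.FreeLocus

/-!
# The Gorenstein locus in the presence of a dualizing complex
-/

set_option autoImplicit false
set_option linter.style.haveILetI false

open CategoryTheory CategoryTheory.Limits

universe u

attribute [local instance] HasDerivedCategory.standard

namespace Groth.Agent.DualCx

variable {A : Type u} [CommRing A]

/-- A complex with one cohomology module is that module in that degree. -/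
theorem nonempty_iso_single {B : Type u} [CommRing B] (V : DRing.Cx B) (k : ℤ) (h : ∀ i, i ≠ k → IsZero (V.homology i)) :
    Nonempty (DerivedCategory.Q.obj V ≅ (DerivedCategory.singleFunctor (ModuleCat.{u} B) k).obj (V.homology k)) := by
  let X := DerivedCategory.Q.obj V
  have hX : ∀ i, i ≠ k → IsZero ((DerivedCategory.homologyFunctor (ModuleCat.{u} B) i).obj X) := fun i hi =>
    (h i hi).of_iso ((DerivedCategory.homologyFunctorFactors (ModuleCat.{u} B) i).app V)
  haveI : X.IsGE k := (DerivedCategory.isGE_iff X k).2 fun i hi => hX i hi.ne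
  haveI : X.IsLE k := (DerivedCategory.isLE_iff X k).2 fun i hi => hX i hi.ne'
  obtain ⟨Y, ⟨g⟩⟩ := DerivedCategory.exists_iso_singleFunctor_obj_of_isGE_of_isLE X k
  exact ⟨g ≪≫ (DerivedCategory.singleFunctor (ModuleCat.{u} B) k).mapIso
    (((DerivedCategory.singleFunctorCompHomologyFunctorIso (ModuleCat.{u} B) k).app Y).symm ≪≫
      (DerivedCategory.homologyFunctor (ModuleCat.{u} B) k).mapIso g.symm ≪≫
      (DerivedCategory.homologyFunctorFactors (ModuleCat.{u} B) k).app V)⟩

theorem gorenstein_iff_single {B : Type u} [CommRing B] [IsLocalRing B] [IsNoetherianRing B] {ω : Dual.D B}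
    (hω : Dual.IsDualizing B ω) : LocCoh.IsGorensteinLocalRing B ↔
      ∃ k : ℤ, Nonempty (ω ≅ (DerivedCategory.singleFunctor (ModuleCat.{u} B) k).obj (ModuleCat.of B B)) := by
  constructor
  · intro h
    obtain ⟨n, hn⟩ := h.exists_hasInjectiveDimensionLT
    obtain ⟨m, h1, h2⟩ := exists_normalized_shift hω
    obtain ⟨m', h1', h2'⟩ := exists_normalized_shift (isDualizing_self hn)
    obtain ⟨g⟩ := nonempty_iso_of_normalized h1 h2 h1' h2'
    exact ⟨-(m' + -m), ⟨((shiftEquiv (Dual.D B) m).unitIso.app ω) ≪≫ (shiftFunctor (Dual.D B) (-m)).mapIso g ≪≫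
      ((shiftFunctorAdd (Dual.D B) m' (-m)).app (Dual.inD B B)).symm ≪≫
      ((DerivedCategory.singleFunctors (ModuleCat.{u} B)).shiftIso (m' + -m) (-(m' + -m)) 0 (by omega)).app
        (ModuleCat.of B B)⟩⟩
  · rintro ⟨k, ⟨g⟩⟩
    have h := isDualizing_of_iso ((shiftFunctor (Dual.D B) k).mapIso g ≪≫
      ((DerivedCategory.singleFunctors (ModuleCat.{u} B)).shiftIso k 0 k (by omega)).app (ModuleCat.of B B))
      (isDualizing_shift hω k)
    obtain ⟨n, hn⟩ := exists_injDim_of_isDualizing h (Iso.refl _)
    exact { exists_hasInjectiveDimensionLT := ⟨n, hn⟩ }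

variable [IsNoetherianRing A] {ω : Dual.D A} {W : DRing.Cx A} [W.IsKInjective] [∀ i, Injective (W.X i)] (a b : ℤ)

theorem gorenstein_at_iff (hω : Dual.IsDualizing A ω) (hzero : ∀ i, (i < a ∨ b < i) → IsZero (W.X i))
    (e : DerivedCategory.Q.obj W ≅ ω) (p : PrimeSpectrum A) :
    LocCoh.IsGorensteinLocalRing (Localization.AtPrime p.asIdeal) ↔
      ∃ k : ℤ, (∀ i, i ≠ k → p ∉ Module.support A (W.homology i)) ∧ p ∈ Module.freeLocus A (W.homology k) ∧
        Module.rankAtStalk (W.homology k) p = 1 := by
  let B := Localization.AtPrime p.asIdeal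
  have hB := isLocHom_prime p.asIdeal
  haveI : IsNoetherianRing B := IsLocalization.isNoetherianRing p.asIdeal.primeCompl _ inferInstance
  have hω' := isDualizing_extC hB hω a b hzero e (Iso.refl (DerivedCategory.Q.obj (WAt W p.asIdeal)))
  haveI := fun i => finite_homology_model e hω.finite_cohomology i
  have hloc : ∀ i, Nonempty ((WAt W p.asIdeal).homology i ≅
      ModuleCat.of B (LocalizedModule p.asIdeal.primeCompl (W.homology i))) := fun i => by
    obtain ⟨g⟩ := nonempty_locIso p.asIdeal (W.homology i)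
    exact ⟨homologyWAt W p.asIdeal i ≪≫ g⟩
  rw [gorenstein_iff_single hω']
  refine exists_congr fun k => ?_
  constructor
  · rintro ⟨g⟩
    have hg : ∀ i, (WAt W p.asIdeal).homology i ≅ (DerivedCategory.homologyFunctor (ModuleCat.{u} B) i).obj
        ((DerivedCategory.singleFunctor (ModuleCat.{u} B) k).obj (ModuleCat.of B B)) := fun i =>
      ((DerivedCategory.homologyFunctorFactors (ModuleCat.{u} B) i).app (WAt W p.asIdeal)).symm ≪≫
        (DerivedCategory.homologyFunctor (ModuleCat.{u} B) i).mapIso g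
    refine ⟨fun i hi => ?_, ?_⟩
    · obtain ⟨l⟩ := hloc i
      rw [Module.notMem_support_iff]
      refine ModuleCat.subsingleton_of_isZero (IsZero.of_iso ?_ (l.symm ≪≫ hg i))
      rcases lt_or_gt_of_ne hi with h | h
      · exact DerivedCategory.isZero_of_isGE _ k i h
      · exact DerivedCategory.isZero_of_isLE _ k i h
    · obtain ⟨l⟩ := hloc k
      let E : LocalizedModule p.asIdeal.primeCompl (W.homology k) ≃ₗ[B] B := (l.symm ≪≫ hg k ≪≫
        (DerivedCategory.singleFunctorCompHomologyFunctorIso (ModuleCat.{u} B) k).app (ModuleCat.of B B)).toLinearEquiv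
      exact ⟨Module.Free.of_equiv E.symm, E.finrank_eq.trans (Module.finrank_self B)⟩
  · rintro ⟨h0, hfree, hrank⟩
    have hz : ∀ i, i ≠ k → IsZero ((WAt W p.asIdeal).homology i) := fun i hi => by
      obtain ⟨l⟩ := hloc i
      haveI := Module.notMem_support_iff.1 (h0 i hi)
      exact (ModuleCat.isZero_of_subsingleton _).of_iso l
    obtain ⟨g⟩ := nonempty_iso_single _ k hz
    obtain ⟨l⟩ := hloc k
    haveI : Module.Free B (LocalizedModule p.asIdeal.primeCompl (W.homology k)) := hfree
    haveI : Module.Finite B (LocalizedModule p.asIdeal.primeCompl (W.homology k)) :=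
      Module.Finite.of_isLocalizedModule p.asIdeal.primeCompl (LocalizedModule.mkLinearMap p.asIdeal.primeCompl (W.homology k))
    let E : LocalizedModule p.asIdeal.primeCompl (W.homology k) ≃ₗ[B] B :=
      LinearEquiv.ofFinrankEq _ _ (hrank.trans (Module.finrank_self B).symm)
    exact ⟨g ≪≫ (DerivedCategory.singleFunctor (ModuleCat.{u} B) k).mapIso (l ≪≫ E.toModuleIso)⟩

/-- The Gorenstein locus is open. -/
theorem isOpen_gorenstein (hω : Dual.IsDualizing A ω) (hzero : ∀ i, (i < a ∨ b < i) → IsZero (W.X i))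
    (e : DerivedCategory.Q.obj W ≅ ω) :
    IsOpen {p : PrimeSpectrum A | LocCoh.IsGorensteinLocalRing (Localization.AtPrime p.asIdeal)} := by
  haveI := fun i => finite_homology_model e hω.finite_cohomology i
  have hset : {p : PrimeSpectrum A | LocCoh.IsGorensteinLocalRing (Localization.AtPrime p.asIdeal)} =
      ⋃ k : ℤ, (⋂ i ∈ (Finset.Icc a b).erase k, (Module.support A (W.homology i))ᶜ) ∩
        (Subtype.val '' {x : Module.freeLocus A (W.homology k) | Module.rankAtStalk (W.homology k) x.1 = 1}) := by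
    ext p
    simp only [Set.mem_setOf_eq, gorenstein_at_iff a b hω hzero e, Set.mem_iUnion, Set.mem_inter_iff, Set.mem_iInter,
      Set.mem_compl_iff, Finset.mem_erase, Finset.mem_Icc]
    refine exists_congr fun k => and_congr ⟨fun h i hi => h i hi.1, fun h i hi => ?_⟩
      ⟨fun h => ⟨⟨p, h.1⟩, h.2, rfl⟩, fun ⟨x, hx, hxp⟩ => hxp ▸ ⟨x.2, hx⟩⟩
    by_cases hin : a ≤ i ∧ i ≤ b
    · exact h i ⟨hi, hin⟩
    · haveI : Subsingleton (W.homology i) := ModuleCat.subsingleton_of_isZero
        (ShortComplex.isZero_homology_of_isZero_X₂ _ (hzero i (by omega)))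
      simp [Module.support_eq_empty]
  rw [hset]
  refine isOpen_iUnion fun k => IsOpen.inter (isOpen_biInter_finset fun i _ => ?_) ?_
  · rw [isOpen_compl_iff, Module.support_eq_zeroLocus]
    exact PrimeSpectrum.isClosed_zeroLocus _
  · haveI : Module.FinitePresentation A (W.homology k) := Module.finitePresentation_of_finite A _
    exact Module.isOpen_freeLocus.isOpenMap_subtype_val _
      (Module.isLocallyConstant_rankAtStalk_freeLocus.isOpen_fiber 1)

end Groth.Agent.DualCx
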