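import Groth.Agent.DualCx.Existence
import Groth.Agent.DualCx.GorLocus
import Groth.Agent.DualCx.LocalDepth
import Groth.Agent.GorLib.RingLevel
import Groth.Agent.GorLib.FlatFibre
import Groth.Agent.FlatAscent.Fibres
import Mathlib.RingTheory.Finiteness.Descent

/-!
# Base change of dualizing complexes along flat maps with Gorenstein fibres
-/

set_option autoImplicit false
set_option linter.style.haveILetI false

open CategoryTheory CategoryTheory.Limits TensorProduct

universe u

attribute [local instance] HasDerivedCategory.standard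

namespace Groth.Agent.DualCx

open Groth.Agent.LocCohLib Groth.Agent.RGamma

variable {A B : Type u} [CommRing A] [CommRing B] [Algebra A B]

/-- A finite module killed by the maximal ideal is a power of the residue field. -/
theorem exists_equiv_pi_residue {R : Type u} [CommRing R] [IsLocalRing R] (H : Type u) [AddCommGroup H] [Module R H]
    [Module.Finite R H] (hH : ∀ c ∈ IsLocalRing.maximalIdeal R, ∀ x : H, c • x = 0) :
    ∃ r : ℕ, Nonempty (H ≃ₗ[R] (Fin r → R ⧸ IsLocalRing.maximalIdeal R)) := by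
  have h : Module.IsTorsionBySet R H (IsLocalRing.maximalIdeal R : Set R) := fun x c => hH c.1 c.2 x
  letI : Module (R ⧸ IsLocalRing.maximalIdeal R) H := h.module
  letI := Ideal.Quotient.field (IsLocalRing.maximalIdeal R)
  haveI : Module.Finite (R ⧸ IsLocalRing.maximalIdeal R) H := Module.Finite.of_restrictScalars_finite R _ H
  exact ⟨_, ⟨(Module.finBasis (R ⧸ IsLocalRing.maximalIdeal R) H).equivFun.restrictScalars R⟩⟩

/-- The residual dual through a Gorenstein quotient. -/
theorem residue_of_gorenstein_quotient {C : Type u} [CommRing C] [IsLocalRing C] [IsNoetherianRing C]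
    {V : DRing.Cx C} [∀ i, Injective (V.X i)] (a : ℤ) (hV : ∀ i, i < a → IsZero (V.X i))
    (hfin : ∀ i, Module.Finite C (V.homology i)) (P : Ideal C)
    [LocCoh.IsGorensteinLocalRing (C ⧸ P)] (d : ℤ)
    (hvan : ∀ i, i ≠ d → Subsingleton (EH V (C ⧸ P) i)) (hd : Nonempty (EH V (C ⧸ P) d ≃ₗ[C] C ⧸ P))
    (D : ℕ) (hD : ringKrullDim C ≤ D) :
    ∃ c : ℤ, c ≤ d + D ∧ (∀ i, i ≠ c → Subsingleton (EH V (C ⧸ IsLocalRing.maximalIdeal C) i)) ∧
      Nonempty (EH V (C ⧸ IsLocalRing.maximalIdeal C) c ≃ₗ[C] C ⧸ IsLocalRing.maximalIdeal C) := by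
  obtain ⟨e⟩ := hd
  let F := C ⧸ P
  let π := Ideal.Quotient.mk P
  have hπ : Function.Surjective π := Ideal.Quotient.mk_surjective
  haveI : IsLocalHom π := IsLocalHom.of_surjective π hπ
  let V' := (coC π).obj V
  haveI : ∀ i, Injective (V'.X i) := coC_injective π V
  haveI : CochainComplex.IsStrictlyGE V' a :=
    (CochainComplex.isStrictlyGE_iff _ _).2 fun i hi => (coM π).map_isZero (hV i hi)
  haveI : V'.IsKInjective := CochainComplex.isKInjective_of_injective V' a
  let FF := ModuleCat.of F F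
  obtain ⟨eF⟩ : Nonempty ((resM π).obj FF ≅ ModuleCat.of C F) :=
    ⟨(LinearEquiv.mk (M := (resM π).obj FF) (M₂ := F)
      { toFun := fun x => x, map_add' := fun _ _ => rfl, map_smul' := fun c x => (Algebra.smul_def c (show F from x)).symm }
      (fun x => x) (fun _ => rfl) (fun _ => rfl)).toModuleIso⟩
  let hself : ∀ i, V'.homology i ≅ (dCx V' FF).homology i := fun i =>
    ((HomologicalComplex.homologyFunctor _ _ i).mapIso (dSelfIso V')).symm
  have hzero' : ∀ i, i ≠ d → IsZero (V'.homology i) := fun i hi => by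
    obtain ⟨T, -⟩ := exists_coT (φ := π) V FF i
    haveI := hvan i hi
    haveI := (EH_congr V eF i).some.toLinearEquiv.toEquiv.subsingleton
    haveI : Subsingleton ((dCx V' FF).homology i) := T.toEquiv.subsingleton
    exact (ModuleCat.isZero_of_subsingleton _).of_iso (hself i)
  obtain ⟨gd⟩ : Nonempty (V'.homology d ≅ FF) := by
    obtain ⟨T, hT⟩ := exists_coT (φ := π) V FF d
    let g : (dCx V' FF).homology d ≃+ F :=
      T.trans (((EH_congr V eF d).some.toLinearEquiv).toAddEquiv.trans e.toAddEquiv) |>.trans (AddEquiv.refl F)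
    refine ⟨hself d ≪≫ (LinearEquiv.toModuleIso (X₂ := F)
      { g with map_smul' := fun r x => ?_ })⟩
    obtain ⟨c, rfl⟩ := hπ r
    show e ((EH_congr V eF d).some.toLinearEquiv (T (π c • x))) =
      π c • e ((EH_congr V eF d).some.toLinearEquiv (T x))
    refine (congrArg (fun z => e ((EH_congr V eF d).some.toLinearEquiv z)) (hT c x)).trans ?_
    refine (congrArg e (map_smul (EH_congr V eF d).some.toLinearEquiv c (T x))).trans ((map_smul e _ _).trans ?_)
    exact Algebra.smul_def c _
  obtain ⟨gV⟩ := nonempty_iso_single V' d hzero'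
  obtain ⟨n, hn⟩ := LocCoh.IsGorensteinLocalRing.exists_hasInjectiveDimensionLT (A := F)
  let K := DerivedCategory.Q.obj V'
  have hK : Dual.IsDualizing F K := isDualizing_of_iso
    (((DerivedCategory.singleFunctors (ModuleCat.{u} F)).shiftIso (-d) d 0 (by omega)).app FF ≪≫
      (DerivedCategory.singleFunctor (ModuleCat.{u} F) d).mapIso gd.symm ≪≫ gV.symm)
    (isDualizing_shift (isDualizing_self hn) (-d))
  obtain ⟨W', a', b', hW', hinj', hzeroW, ⟨eW'⟩⟩ := exists_model hK.finite_injective_dimension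
  haveI := hW'
  haveI := hinj'
  obtain ⟨c, hc, ⟨gc⟩⟩ := exists_degree W' (IsLocalRing.maximalIdeal F) a' b' hzeroW eW' hK
  let kF := ModuleCat.of F (F ⧸ IsLocalRing.maximalIdeal F)
  let g' : ∀ i, (dCx V' kF).homology i ≃ₗ[F] (dCx W' kF).homology i := fun i =>
    (homIso V' (Iso.refl K) kF i).symm ≪≫ₗ homIso W' eW' kF i
  obtain ⟨ek⟩ : Nonempty ((C ⧸ IsLocalRing.maximalIdeal C) ≃ₗ[C] (resM π).obj kF) := by
    let l : C →ₗ[C] (resM π).obj kF :=
      LinearMap.toSpanSingleton C ((resM π).obj kF) (show (resM π).obj kF from (1 : F ⧸ IsLocalRing.maximalIdeal F))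
    have hl : ∀ x, l x = (show (resM π).obj kF from Ideal.Quotient.mk (IsLocalRing.maximalIdeal F) (π x)) := fun x => by
      show π x • (1 : F ⧸ IsLocalRing.maximalIdeal F) = _
      rw [Algebra.smul_def, mul_one]
      rfl
    have hs : Function.Surjective l := fun z => by
      obtain ⟨y, hy⟩ := Ideal.Quotient.mk_surjective (show F ⧸ IsLocalRing.maximalIdeal F from z)
      obtain ⟨x, rfl⟩ := hπ y
      exact ⟨x, (hl x).trans hy⟩
    refine ⟨Submodule.quotEquivOfEq _ _ ?_ ≪≫ₗ LinearMap.quotKerEquivOfSurjective l hs⟩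
    ext x
    rw [LinearMap.mem_ker, hl]
    refine Iff.trans ?_ (Ideal.Quotient.eq_zero_iff_mem (I := IsLocalRing.maximalIdeal F) (a := π x)).symm
    simp [IsLocalRing.mem_maximalIdeal, mem_nonunits_iff, isUnit_map_iff]
  have hk : ∀ i, ∃ T : EH V (C ⧸ IsLocalRing.maximalIdeal C) i ≃+ (dCx W' kF).homology i,
      ∀ (x : C) v, T (x • v) = π x • T v := fun i => by
    obtain ⟨T, hT⟩ := exists_coT (φ := π) V kF i
    let E := (EH_congr V (show ModuleCat.of C (C ⧸ IsLocalRing.maximalIdeal C) ≅ (resM π).obj kF from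
      ek.toModuleIso) i).some.toLinearEquiv
    refine ⟨(E.toAddEquiv.trans T.symm).trans (g' i).toAddEquiv, fun x v => ?_⟩
    show g' i (T.symm (E (x • v))) = π x • g' i (T.symm (E v))
    rw [map_smul, ← map_smul (g' i)]
    exact congrArg (g' i) (T.injective (by rw [T.apply_symm_apply, hT, T.apply_symm_apply]))
  have h1 : ∀ i, i ≠ c → Subsingleton (EH V (C ⧸ IsLocalRing.maximalIdeal C) i) := fun i hi =>
    haveI := hc i hi
    (hk i).choose.toEquiv.subsingleton
  obtain ⟨h2⟩ : Nonempty (EH V (C ⧸ IsLocalRing.maximalIdeal C) c ≃ₗ[C] C ⧸ IsLocalRing.maximalIdeal C) := by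
    obtain ⟨T, hT⟩ := hk c
    refine ⟨LinearEquiv.trans (M₂ := (resM π).obj kF) { T.trans gc.toAddEquiv with map_smul' := fun x v => ?_ } ek.symm⟩
    show gc (T (x • v)) = π x • gc (T v)
    rw [hT, map_smul]
  refine ⟨c, ?_, h1, ⟨h2⟩⟩
  have hres : IsResidual V c := ⟨inferInstance, fun N _ i => finite_dual a hV hfin N i, h1, h2.toEquiv.nontrivial⟩
  haveI : Nontrivial (C ⧸ P) := inferInstance
  obtain ⟨m, hm⟩ := DepthLib.exists_nat_supportDim (R := C) (C ⧸ P)
  have hm' : ringKrullDim (C ⧸ P) = m := (Module.supportDim_quotient_eq_ringKrullDim P).symm.trans hm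
  have hmD : m ≤ D := by exact_mod_cast (hm' ▸ (ringKrullDim_quotient_le P).trans hD)
  haveI := hres.nontrivial_top (C ⧸ P) m hm
  have hdc : c - (m : ℕ) = d := by
    by_contra hne
    haveI := hvan _ hne
    exact not_nontrivial (EH V (C ⧸ P) (c - (m : ℕ))) inferInstance
  omega

/-- Duals of the fibre at a prime of a flat algebra. -/
theorem exists_fibre_duals [IsNoetherianRing A] [Module.Flat A B] {W : DRing.Cx A} [∀ i, Injective (W.X i)] (a : ℤ)
    (hzero : ∀ i, i < a → IsZero (W.X i)) (n : Ideal B) [n.IsPrime] {V : DRing.Cx (Localization.AtPrime n)}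
    [∀ i, Injective (V.X i)] (hV : ∀ i, i < a → IsZero (V.X i))
    (g : (extC ((algebraMap B (Localization.AtPrime n)).comp (algebraMap A B))).obj W ⟶ V) [QuasiIso g] :
    ∃ (ψ : Localization.AtPrime (n.comap (algebraMap A B)) →+* Localization.AtPrime n), ψ.Flat ∧ IsLocalHom ψ ∧
      (IsLocalRing.maximalIdeal (Localization.AtPrime (n.comap (algebraMap A B)))).map ψ =
        (n.comap (algebraMap A B)).map (algebraMap A (Localization.AtPrime n)) ∧
      ∀ i, Nonempty (EH V (Localization.AtPrime n ⧸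
          (n.comap (algebraMap A B)).map (algebraMap A (Localization.AtPrime n))) i ≃ₗ[Localization.AtPrime n]
        (extM ψ).obj (EH (WAt W (n.comap (algebraMap A B)))
          (Localization.AtPrime (n.comap (algebraMap A B)) ⧸
            IsLocalRing.maximalIdeal (Localization.AtPrime (n.comap (algebraMap A B)))) i)) := by
  let p := n.comap (algebraMap A B)
  let C := Localization.AtPrime n
  let Ap := Localization.AtPrime p
  let l := algebraMap A Ap
  let ψ : Ap →+* C := Localization.localRingHom p n (algebraMap A B) rfl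
  have hAC : algebraMap A C = (algebraMap B C).comp (algebraMap A B) := IsScalarTower.algebraMap_eq A B C
  have hcomp : ψ.comp l = (algebraMap B C).comp (algebraMap A B) :=
    RingHom.ext fun x => Localization.localRingHom_to_map p n (algebraMap A B) rfl x
  have hψ : ψ.Flat := by
    letI := ψ.toAlgebra
    haveI : IsScalarTower A Ap C := IsScalarTower.of_algebraMap_eq' (hAC.trans hcomp.symm)
    haveI : Module.Flat A C := Module.Flat.trans A B C
    exact (Module.flat_iff_of_isLocalization (R := A) (S := Ap) p.primeCompl C).2 inferInstance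
  have hl := isLocHom_prime p
  haveI : IsNoetherianRing Ap := IsLocalization.isNoetherianRing p.primeCompl _ inferInstance
  haveI : ∀ i, Injective ((WAt W p).X i) := fun i => hl.injective_ext (W.X i)
  let g₂ : (extC ψ).obj (WAt W p) ⟶ V :=
    (DTen.extCompCx l ψ).hom.app W ≫ eqToHom (show (extC (ψ.comp l)).obj W = _ by rw [hcomp]) ≫ g
  haveI : QuasiIso g₂ := inferInstance
  have hmax : (IsLocalRing.maximalIdeal Ap).map ψ = p.map (algebraMap A C) := by
    rw [← Localization.AtPrime.map_eq_maximalIdeal, Ideal.map_map, hAC]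
    exact congrArg (fun f => Ideal.map f p) hcomp
  refine ⟨ψ, hψ, Localization.isLocalHom_localRingHom p n (algebraMap A B) rfl, hmax, fun i => ?_⟩
  let kA := ModuleCat.of Ap (Ap ⧸ IsLocalRing.maximalIdeal Ap)
  haveI : Module.FinitePresentation Ap kA := Module.finitePresentation_of_finite Ap _
  obtain ⟨ek⟩ : Nonempty ((extM ψ).obj kA ≅ ModuleCat.of C (C ⧸ p.map (algebraMap A C))) := by
    letI := ψ.toAlgebra
    exact ⟨((Algebra.TensorProduct.quotIdealMapEquivTensorQuot C (IsLocalRing.maximalIdeal Ap)).symm.toLinearEquiv ≪≫ₗ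
      Submodule.quotEquivOfEq _ _ hmax).toModuleIso⟩
  obtain ⟨g0⟩ := nonempty_dual_ext hψ a (fun j hj => (extM l).map_isZero (hzero j hj)) hV g₂ kA i
  exact ⟨(EH_congr V ek i).some.toLinearEquiv.symm ≪≫ₗ g0⟩

/-- The local rings of Gorenstein fibres. -/
theorem gorenstein_fibLocRing (hG : ∀ p : PrimeSpectrum A, LocCoh.IsGorensteinRing (B ⊗[A] p.asIdeal.ResidueField))
    (n : Ideal B) [n.IsPrime] : LocCoh.IsGorensteinLocalRing
      (Localization.AtPrime n ⧸ (n.comap (algebraMap A B)).map (algebraMap A (Localization.AtPrime n))) := by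
  obtain ⟨Q, _, ⟨e⟩⟩ := FlatAscent.exists_fibre_prime (A := A) n
  haveI := hG ⟨n.comap (algebraMap A B), inferInstance⟩
  haveI : LocCoh.IsGorensteinRing ((n.comap (algebraMap A B)).Fiber B) :=
    SegreOne.isGorensteinRing_of_ringEquiv
      (Algebra.TensorProduct.comm A B (n.comap (algebraMap A B)).ResidueField).toRingEquiv
  haveI := LocCoh.IsGorensteinRing.isGorensteinLocalRing_localization (A := (n.comap (algebraMap A B)).Fiber B) Q
  exact (GorLib.gorenstein_iff_of_ringEquiv (A := Localization.AtPrime Q) e).1 inferInstance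

theorem subsingleton_of_extM {φ : A →+* B} (h : φ.FaithfullyFlat) (M : ModuleCat.{u} A)
    (hM : Subsingleton ((extM φ).obj M)) : Subsingleton M := by
  letI := φ.toAlgebra
  haveI : Module.FaithfullyFlat A B := h
  exact (Module.FaithfullyFlat.subsingleton_tensorProduct_iff_right A B).1 hM

theorem finite_of_extM {φ : A →+* B} (h : φ.FaithfullyFlat) (M : ModuleCat.{u} A)
    (hM : Module.Finite B ((extM φ).obj M)) : Module.Finite A M := by
  letI := φ.toAlgebra
  haveI : Module.FaithfullyFlat A B := h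
  haveI : Module.Finite B (B ⊗[A] M) := hM
  exact Module.Finite.of_finite_tensorProduct_of_faithfullyFlat B

variable [IsNoetherianRing A] [IsNoetherianRing B]

/-- Ascent along flat maps with Gorenstein fibres. -/
theorem isDualizing_of_gorenstein_fibres [Module.Flat A B]
    (hG : ∀ p : PrimeSpectrum A, LocCoh.IsGorensteinRing (B ⊗[A] p.asIdeal.ResidueField))
    (D : ℕ) (hD : ringKrullDim B ≤ D) [DRing.HasLBaseChange (algebraMap A B)] {ω : Dual.D A}
    (hω : Dual.IsDualizing A ω) : Dual.IsDualizing B ((DRing.LBaseChange (algebraMap A B)).obj ω) := by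
  obtain ⟨W, a, b, hW, hinj, hzero, ⟨e⟩⟩ := exists_model hω.finite_injective_dimension
  haveI := hW
  haveI := hinj
  have hflat : (algebraMap A B).Flat := RingHom.flat_algebraMap_iff.2 inferInstance
  obtain ⟨eW⟩ := nonempty_extC_iso_LBC_flat hflat W e
  refine isDualizing_LBC_of_points hflat hω a (b + D) (fun i hi => hzero i (Or.inl hi)) e eW fun n hn V _ hV g _ => ?_
  obtain ⟨ψ, hψ, -, hmax, hdual⟩ := exists_fibre_duals a (fun i hi => hzero i (Or.inl hi)) n hV g
  let p := n.comap (algebraMap A B)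
  let C := Localization.AtPrime n
  let Ap := Localization.AtPrime p
  haveI : IsNoetherianRing C := IsLocalization.isNoetherianRing n.primeCompl _ inferInstance
  haveI : IsNoetherianRing Ap := IsLocalization.isNoetherianRing p.primeCompl _ inferInstance
  have hl := isLocHom_prime p
  haveI : ∀ i, Injective ((WAt W p).X i) := fun i => hl.injective_ext (W.X i)
  have hzero' : ∀ i, (i < a ∨ b < i) → IsZero ((WAt W p).X i) := fun i hi => (extM _).map_isZero (hzero i hi)
  haveI : CochainComplex.IsStrictlyGE (WAt W p) a :=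
    (CochainComplex.isStrictlyGE_iff _ _).2 fun i hi => hzero' i (Or.inl hi)
  haveI : (WAt W p).IsKInjective := CochainComplex.isKInjective_of_injective _ a
  have hωp := isDualizing_extC hl hω a b hzero e (Iso.refl (DerivedCategory.Q.obj (WAt W p)))
  obtain ⟨d, hd, ⟨gd⟩⟩ := exists_degree (WAt W p) (IsLocalRing.maximalIdeal Ap) a b hzero' (Iso.refl _) hωp
  have hdb : d ≤ b := by
    by_contra hcon
    haveI := subsingleton_dual_of_isZero (hzero' d (Or.inr (not_le.1 hcon))) (ModuleCat.of Ap (Ap ⧸ IsLocalRing.maximalIdeal Ap))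
    haveI := gd.symm.toEquiv.subsingleton
    exact not_nontrivial (Ap ⧸ IsLocalRing.maximalIdeal Ap) inferInstance
  haveI := gorenstein_fibLocRing hG n
  have hfin : ∀ i, Module.Finite C (V.homology i) := fun i => by
    haveI := finite_homology_model e hω.finite_cohomology i
    haveI : Module.Finite A (W.sc i).homology := ‹_›
    let ψ' := (algebraMap B C).comp (algebraMap A B)
    haveI := preservesLimits_extM (RingHom.Flat.comp hflat (isLocHom_prime n).flat)
    haveI : PreservesFiniteColimits (extM ψ') :=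
      haveI : PreservesColimitsOfSize.{0, 0} (extM ψ') :=
        (ModuleCat.extendRestrictScalarsAdj.{u, u, u} ψ').leftAdjoint_preservesColimits
      inferInstance
    haveI := finite_extM ψ' (W.sc i).homology
    exact Module.Finite.equiv (((W.sc i).mapHomologyIso (extM ψ')).symm ≪≫ isoOfQuasiIsoAt g i).toLinearEquiv
  have hdimC : ringKrullDim C ≤ D := by
    refine le_trans ?_ hD
    rw [IsLocalization.AtPrime.ringKrullDim_eq_height n C]
    exact Ideal.height_le_ringKrullDim_of_ne_top hn.ne_top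
  obtain ⟨c, hc, h1, h2⟩ := residue_of_gorenstein_quotient a hV hfin _ d (fun i hi => by
    haveI := hd i hi
    haveI := ModuleCat.subsingleton_of_isZero ((extM ψ).map_isZero
      (ModuleCat.isZero_of_subsingleton (EH (WAt W p) (Ap ⧸ IsLocalRing.maximalIdeal Ap) i)))
    exact (hdual i).some.toEquiv.subsingleton)
    (by
      letI := ψ.toAlgebra
      exact ⟨(hdual d).some ≪≫ₗ ((extM ψ).mapIso gd.toModuleIso).toLinearEquiv ≪≫ₗ
        (Algebra.TensorProduct.quotIdealMapEquivTensorQuot C (IsLocalRing.maximalIdeal Ap)).symm.toLinearEquiv ≪≫ₗ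
        Submodule.quotEquivOfEq _ _ hmax⟩) D hdimC
  exact ⟨c, by omega, h1, h2⟩

/-- Descent along faithfully flat maps with Gorenstein fibres. -/
theorem isDualizing_descent [Module.FaithfullyFlat A B]
    (hG : ∀ p : PrimeSpectrum A, LocCoh.IsGorensteinRing (B ⊗[A] p.asIdeal.ResidueField))
    [DRing.HasLBaseChange (algebraMap A B)] {K : Dual.D A}
    (hR : Dual.IsDualizing B ((DRing.LBaseChange (algebraMap A B)).obj K)) : Dual.IsDualizing A K := by
  let φ := algebraMap A B
  set R := (DRing.LBaseChange φ).obj K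
  have hflat : φ.Flat := RingHom.flat_algebraMap_iff.2 inferInstance
  haveI := preservesLimits_extM hflat
  haveI : PreservesFiniteColimits (extM φ) :=
    haveI : PreservesColimitsOfSize.{0, 0} (extM φ) :=
      (ModuleCat.extendRestrictScalarsAdj.{u, u, u} φ).leftAdjoint_preservesColimits
    inferInstance
  obtain ⟨E, aE, bE, hEK, hEinj, hEzero, ⟨eE⟩⟩ := exists_model hR.finite_injective_dimension
  haveI := hEK
  haveI := hEinj
  let W0 := (DerivedCategory.Q (C := ModuleCat.{u} A)).objPreimage K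
  let e0 : DerivedCategory.Q.obj W0 ≅ K := (DerivedCategory.Q (C := ModuleCat.{u} A)).objObjPreimageIso K
  obtain ⟨eW0⟩ := nonempty_extC_iso_LBC_flat hflat W0 e0
  have hH : ∀ i, Nonempty ((DerivedCategory.homologyFunctor (ModuleCat.{u} B) i).obj R ≅
      (extM φ).obj (ModuleCat.of A (Dual.HD A K i))) := fun i =>
    ⟨(DerivedCategory.homologyFunctor (ModuleCat.{u} B) i).mapIso eW0.symm ≪≫
      (DerivedCategory.homologyFunctorFactors (ModuleCat.{u} B) i).app ((extC φ).obj W0) ≪≫
      (W0.sc i).mapHomologyIso (extM φ) ≪≫ (extM φ).mapIso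
        (((DerivedCategory.homologyFunctorFactors (ModuleCat.{u} A) i).app W0).symm ≪≫
          (DerivedCategory.homologyFunctor (ModuleCat.{u} A) i).mapIso e0)⟩
  have hff : φ.FaithfullyFlat := RingHom.faithfullyFlat_algebraMap_iff.2 inferInstance
  have hfin : ∀ i, Module.Finite A (Dual.HD A K i) := fun i => by
    haveI : Module.Finite B ((DerivedCategory.homologyFunctor (ModuleCat.{u} B) i).obj R) := hR.finite_cohomology i
    exact finite_of_extM hff _ (Module.Finite.equiv (hH i).some.toLinearEquiv)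
  have hlow : ∀ i, i < aE → Subsingleton (Dual.HD A K i) := fun i hi => by
    haveI := ModuleCat.subsingleton_of_isZero (((E.sc i).isZero_homology_of_isZero_X₂ (hEzero i (Or.inl hi))))
    have hs : Subsingleton ((DerivedCategory.homologyFunctor (ModuleCat.{u} B) i).obj R) :=
      (((DerivedCategory.homologyFunctor (ModuleCat.{u} B) i).mapIso eE.symm ≪≫
        (DerivedCategory.homologyFunctorFactors (ModuleCat.{u} B) i).app E).toLinearEquiv.toEquiv.subsingleton_congr).2 ‹_›
    exact subsingleton_of_extM hff _ ((hH i).some.toLinearEquiv.toEquiv.subsingleton_congr.1 hs)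
  obtain ⟨W, hWK, hWinj, hW, ⟨eW⟩⟩ := exists_model_below aE hlow
  haveI := hWK
  haveI := hWinj
  have qis : ∀ (W : DRing.Cx A), (DerivedCategory.Q.obj W ≅ K) →
      ∃ f : (extC φ).obj W ⟶ E, QuasiIso f := fun W eW => by
    obtain ⟨eB⟩ := nonempty_extC_iso_LBC_flat hflat W eW
    obtain ⟨f', hf'⟩ := (CochainComplex.IsKInjective.Qh_map_bijective
      ((HomotopyCategory.quotient _ _).obj ((extC φ).obj W)) E).surjective
      ((DerivedCategory.quotientCompQhIso _).hom.app _ ≫ (eB ≪≫ eE.symm).hom ≫
        (DerivedCategory.quotientCompQhIso _).inv.app E)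
    obtain ⟨f, rfl⟩ := (HomotopyCategory.quotient _ _).map_surjective f'
    haveI : IsIso (DerivedCategory.Q.map f) := by
      have h1 : DerivedCategory.Q.map f = (eB ≪≫ eE.symm).hom := by
        have h2 := (DerivedCategory.quotientCompQhIso (ModuleCat.{u} B)).hom.naturality f
        rw [Functor.comp_map, hf'] at h2
        simpa using h2.symm
      rw [h1]; infer_instance
    exact ⟨f, (DerivedCategory.isIso_Q_map_iff_quasiIso _ _).1 inferInstance⟩
  obtain ⟨f, hf⟩ := qis W eW
  obtain ⟨V, hvan, hVinj, ⟨eV⟩⟩ := DRingPC.injAmp_of_extD (A := A) (K := K) aE bE fun I i hi => by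
    refine (homIso W eW (ModuleCat.of A (A ⧸ I)) i).toEquiv.subsingleton_congr.2 ?_
    rcases hi with hi | hi
    · exact subsingleton_dual_of_isZero (hW i hi) _
    · haveI : Module.FinitePresentation A (ModuleCat.of A (A ⧸ I)) := Module.finitePresentation_of_finite A _
      obtain ⟨g⟩ := nonempty_dual_ext hflat aE hW (fun j hj => hEzero j (Or.inl hj)) f (ModuleCat.of A (A ⧸ I)) i
      haveI := subsingleton_dual_of_isZero (hEzero i (Or.inr hi)) ((extM φ).obj (ModuleCat.of A (A ⧸ I)))
      exact subsingleton_of_extM hff _ g.symm.toEquiv.subsingleton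
  haveI : ∀ i, Injective (V.X i) := fun i => by
    haveI := hVinj i
    exact (Module.injective_iff_injective_object A (V.X i)).1 (hVinj i)
  haveI : V.IsStrictlyGE aE := (CochainComplex.isStrictlyGE_iff _ _).2 fun i hi => hvan i (Or.inl hi)
  haveI : V.IsKInjective := CochainComplex.isKInjective_of_injective V aE
  obtain ⟨fV, hfV⟩ := qis V eV
  refine isDualizing_of_local aE bE hvan eV hfin fun m hm => ?_
  obtain ⟨⟨n, hn⟩, hnm⟩ := PrimeSpectrum.comap_surjective_of_faithfullyFlat (A := A) (B := B) ⟨m, hm.isPrime⟩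
  have hnm' : n.comap φ = m := congrArg PrimeSpectrum.asIdeal hnm
  clear hnm
  subst hnm'
  let p := n.comap φ
  let C := Localization.AtPrime n
  let Ap := Localization.AtPrime p
  let χ := algebraMap B C
  have hχ := isLocHom_prime n
  haveI := preservesLimits_extM hχ.flat
  haveI : PreservesFiniteColimits (extM χ) :=
    haveI : PreservesColimitsOfSize.{0, 0} (extM χ) :=
      (ModuleCat.extendRestrictScalarsAdj.{u, u, u} χ).leftAdjoint_preservesColimits
    inferInstance
  haveI : ∀ i, Injective ((WAt E n).X i) := fun i => hχ.injective_ext (E.X i)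
  have hEn : ∀ i, (i < aE ∨ bE < i) → IsZero ((WAt E n).X i) := fun i hi => (extM χ).map_isZero (hEzero i hi)
  haveI : CochainComplex.IsStrictlyGE (WAt E n) aE :=
    (CochainComplex.isStrictlyGE_iff _ _).2 fun i hi => hEn i (Or.inl hi)
  haveI : (WAt E n).IsKInjective := CochainComplex.isKInjective_of_injective _ aE
  haveI : QuasiIso ((extC χ).map fV) := inferInstance
  let f₂ : (extC (χ.comp φ)).obj V ⟶ WAt E n := (DTen.extCompCx φ χ).inv.app V ≫ (extC χ).map fV
  haveI : QuasiIso f₂ := inferInstance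
  obtain ⟨ψ, hψ, hψloc, hmax, hdual⟩ := exists_fibre_duals aE (fun i hi => hvan i (Or.inl hi)) n
    (fun i hi => hEn i (Or.inl hi)) f₂
  haveI := gorenstein_fibLocRing hG n
  haveI : IsNoetherianRing C := IsLocalization.isNoetherianRing n.primeCompl _ inferInstance
  haveI : IsNoetherianRing Ap := IsLocalization.isNoetherianRing p.primeCompl _ inferInstance
  let P := p.map (algebraMap A C)
  let π := Ideal.Quotient.mk P
  have hE' := isDualizing_extC hχ hR aE bE hEzero eE (Iso.refl (DerivedCategory.Q.obj (WAt E n)))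
  have hC := isDualizing_coC_global (φ := π) (RingHom.Finite.of_surjective π Ideal.Quotient.mk_surjective) hE' aE bE hEn
    (Iso.refl _)
  obtain ⟨k, ⟨gk⟩⟩ := (gorenstein_iff_single hC).1 inferInstance
  let V' := (coC π).obj (WAt E n)
  let FF := ModuleCat.of (C ⧸ P) (C ⧸ P)
  let G := (DerivedCategory.singleFunctor (ModuleCat.{u} (C ⧸ P)) k).obj FF
  let hself : ∀ i, (dCx V' FF).homology i ≅ (DerivedCategory.homologyFunctor (ModuleCat.{u} (C ⧸ P)) i).obj G := fun i =>
    (HomologicalComplex.homologyFunctor _ _ i).mapIso (dSelfIso V') ≪≫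
      ((DerivedCategory.homologyFunctorFactors (ModuleCat.{u} (C ⧸ P)) i).app V').symm ≪≫
      (DerivedCategory.homologyFunctor (ModuleCat.{u} (C ⧸ P)) i).mapIso gk
  obtain ⟨eF⟩ : Nonempty ((resM π).obj FF ≅ ModuleCat.of C (C ⧸ P)) :=
    ⟨(LinearEquiv.mk (M := (resM π).obj FF) (M₂ := C ⧸ P)
      { toFun := fun x => x, map_add' := fun _ _ => rfl, map_smul' := fun c x => (Algebra.smul_def c (show C ⧸ P from x)).symm }
      (fun x => x) (fun _ => rfl) (fun _ => rfl)).toModuleIso⟩
  have hT : ∀ i, ∃ T : EH (WAt E n) (C ⧸ P) i ≃+ (DerivedCategory.homologyFunctor (ModuleCat.{u} (C ⧸ P)) i).obj G,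
      ∀ (x : C) v, T (x • v) = π x • T v := fun i => by
    obtain ⟨T, hT⟩ := exists_coT (φ := π) (WAt E n) FF i
    let Ee := (EH_congr (WAt E n) eF i).some.toLinearEquiv.symm
    refine ⟨(Ee.toAddEquiv.trans T.symm).trans (hself i).toLinearEquiv.toAddEquiv, fun x v => ?_⟩
    show (hself i).toLinearEquiv (T.symm (Ee (x • v))) = π x • (hself i).toLinearEquiv (T.symm (Ee v))
    rw [map_smul Ee, ← map_smul (hself i).toLinearEquiv]
    exact congrArg _ (T.injective (by rw [T.apply_symm_apply, hT, T.apply_symm_apply]))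
  letI := ψ.toAlgebra
  haveI : IsLocalHom (algebraMap Ap C) := hψloc
  haveI : Module.Flat Ap C := hψ
  haveI : Module.FaithfullyFlat Ap C := Module.FaithfullyFlat.of_flat_of_isLocalHom
  let H := fun i => EH (WAt V p) (Ap ⧸ IsLocalRing.maximalIdeal Ap) i
  have hl := isLocHom_prime p
  haveI : ∀ i, Injective ((WAt V p).X i) := fun i => hl.injective_ext (V.X i)
  have hVp : ∀ i, (i < aE ∨ bE < i) → IsZero ((WAt V p).X i) := fun i hi => (extM _).map_isZero (hvan i hi)
  haveI : CochainComplex.IsStrictlyGE (WAt V p) aE :=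
    (CochainComplex.isStrictlyGE_iff _ _).2 fun i hi => hVp i (Or.inl hi)
  haveI : (WAt V p).IsKInjective := CochainComplex.isKInjective_of_injective _ aE
  have hvanH : ∀ i, i ≠ k → Subsingleton (H i) := fun i hi => by
    obtain ⟨T, -⟩ := hT i
    haveI : Subsingleton ((DerivedCategory.homologyFunctor (ModuleCat.{u} (C ⧸ P)) i).obj G) :=
      ModuleCat.subsingleton_of_isZero (by
        rcases lt_or_gt_of_ne hi with hi | hi
        · exact DerivedCategory.isZero_of_isGE G k i hi
        · exact DerivedCategory.isZero_of_isLE G k i hi)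
    haveI : Subsingleton (EH (WAt E n) (C ⧸ P) i) := T.toEquiv.subsingleton
    haveI : Subsingleton (C ⊗[Ap] H i) := (hdual i).some.symm.toEquiv.subsingleton
    exact (Module.FaithfullyFlat.subsingleton_tensorProduct_iff_right Ap C).1 ‹_›
  have hfinH : ∀ i, Module.Finite Ap ((WAt V p).homology i) := fun i => by
    haveI : Module.Finite A (V.sc i).homology := finite_homology_model eV hfin i
    haveI := preservesLimits_extM hl.flat
    haveI : PreservesFiniteColimits (extM (algebraMap A Ap)) :=
      haveI : PreservesColimitsOfSize.{0, 0} (extM (algebraMap A Ap)) :=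
        (ModuleCat.extendRestrictScalarsAdj.{u, u, u} (algebraMap A Ap)).leftAdjoint_preservesColimits
      inferInstance
    haveI := finite_extM (algebraMap A Ap) (V.sc i).homology
    exact Module.Finite.equiv ((V.sc i).mapHomologyIso (extM (algebraMap A Ap))).toLinearEquiv.symm
  haveI : Module.Finite Ap (H k) := finite_dual aE (fun i hi => hVp i (Or.inl hi)) hfinH _ k
  obtain ⟨r, ⟨er⟩⟩ := exists_equiv_pi_residue (H k) fun c hc x =>
    smul_eq_zero_of_killed (WAt V p) (ModuleCat.of Ap (Ap ⧸ IsLocalRing.maximalIdeal Ap))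
      (fun y => by
        obtain ⟨z, rfl⟩ := Ideal.Quotient.mk_surjective y
        exact Ideal.Quotient.eq_zero_iff_mem.2 (Ideal.mul_mem_right _ _ hc)) k x
  obtain ⟨ek⟩ : Nonempty ((C ⊗[Ap] H k) ≃ₗ[C] C ⧸ P) := by
    obtain ⟨T, hT⟩ := hT k
    let gG : (DerivedCategory.homologyFunctor (ModuleCat.{u} (C ⧸ P)) k).obj G ≃ₗ[C ⧸ P] (C ⧸ P) :=
      ((DerivedCategory.singleFunctorCompHomologyFunctorIso (ModuleCat.{u} (C ⧸ P)) k).app FF).toLinearEquiv
    have hlin : ∀ (x : C) v, (T.trans gG.toAddEquiv) (x • v) = x • (T.trans gG.toAddEquiv) v := fun x v => by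
      show gG (T (x • v)) = x • gG (T v)
      rw [hT, map_smul]
      exact (Algebra.smul_def x (gG (T v))).symm
    let T' : EH (WAt E n) (C ⧸ P) k ≃ₗ[C] C ⧸ P := (T.trans gG.toAddEquiv).toLinearEquiv hlin
    exact ⟨(hdual k).some.symm ≪≫ₗ T'⟩
  let kC : C ⊗[Ap] (Ap ⧸ IsLocalRing.maximalIdeal Ap) ≃ₗ[C] C ⧸ P :=
    (Algebra.TensorProduct.quotIdealMapEquivTensorQuot C (IsLocalRing.maximalIdeal Ap)).symm.toLinearEquiv ≪≫ₗ
      Submodule.quotEquivOfEq _ _ hmax
  let epi : (Fin r → C ⧸ P) ≃ₗ[C] C ⧸ P :=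
    (LinearEquiv.piCongrRight fun _ : Fin r => kC.symm) ≪≫ₗ
      (TensorProduct.piRight Ap C C (fun _ : Fin r => Ap ⧸ IsLocalRing.maximalIdeal Ap)).symm ≪≫ₗ
      er.symm.baseChange Ap C ≪≫ₗ ek
  have hr : r = 1 := by
    have h := (epi.extendScalarsOfSurjective (S := C ⧸ P) Ideal.Quotient.mk_surjective).finrank_eq
    rwa [Module.finrank_fin_fun, Module.finrank_self] at h
  subst hr
  have hdp : Dual.IsDualizing Ap (DerivedCategory.Q.obj (WAt V p)) := by
    refine isDualizing_of_residue _ (fun i => ?_) ⟨aE, fun i hi => ?_⟩ k (fun i hi => ?_) ?_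
    · haveI : Module.Finite Ap ((HomologicalComplex.homologyFunctor (ModuleCat.{u} Ap) (ComplexShape.up ℤ) i).obj (WAt V p)) :=
        hfinH i
      exact Module.Finite.equiv
        ((DerivedCategory.homologyFunctorFactors (ModuleCat.{u} Ap) i).app (WAt V p)).toLinearEquiv.symm
    · haveI := ModuleCat.subsingleton_of_isZero ((WAt V p).sc i |>.isZero_homology_of_isZero_X₂ (hVp i (Or.inl hi)))
      exact (((DerivedCategory.homologyFunctorFactors (ModuleCat.{u} Ap) i).app (WAt V p)).toLinearEquiv.toEquiv.subsingleton_congr).2 ‹_›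
    · haveI := hvanH i hi
      exact (homIso (WAt V p) (Iso.refl _) (ModuleCat.of Ap (Ap ⧸ IsLocalRing.maximalIdeal Ap)) i).toEquiv.subsingleton
    · exact ⟨homIso (WAt V p) (Iso.refl _) (ModuleCat.of Ap (Ap ⧸ IsLocalRing.maximalIdeal Ap)) k ≪≫ₗ er ≪≫ₗ
        LinearEquiv.funUnique (Fin 1) Ap _⟩
  exact ⟨_, ⟨Iso.refl _⟩, hdp⟩

end Groth.Agent.DualCx

namespace Groth.Agent.DualCx

variable {A B : Type u} [CommRing A] [CommRing B] [Algebra A B] [IsNoetherianRing A] [IsNoetherianRing B]

/-- Ascent and descent along faithfully flat finite type maps with Gorenstein fibres. -/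
theorem isDualizing_iff_gorenstein_fibres [Module.FaithfullyFlat A B] [Algebra.FiniteType A B]
    (hG : ∀ p : PrimeSpectrum A, LocCoh.IsGorensteinRing (B ⊗[A] p.asIdeal.ResidueField))
    [DRing.HasLBaseChange (algebraMap A B)] (K : Dual.D A) :
    Dual.IsDualizing A K ↔ Dual.IsDualizing B ((DRing.LBaseChange (algebraMap A B)).obj K) := by
  refine ⟨fun hK => ?_, isDualizing_descent hG⟩
  obtain ⟨ω, hω⟩ := HasDC.of_finiteType (A := A) (B := B) ⟨K, hK⟩
  obtain ⟨D, hD⟩ : ∃ D : ℕ, ringKrullDim B ≤ D := by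
    obtain ⟨W, a, b, hW, hinj, hzero, ⟨e⟩⟩ := exists_model hω.finite_injective_dimension
    haveI := hW
    haveI := hinj
    refine ⟨(b - a).toNat, (ringKrullDim_le_iff_height_le _).2 fun I hI => ?_⟩
    rw [← IsLocalization.AtPrime.ringKrullDim_eq_height I (Localization.AtPrime I)]
    exact ringKrullDim_localization_le a b hω hzero e I
  exact isDualizing_of_gorenstein_fibres hG D hD hK

end Groth.Agent.DualCx
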