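import Groth.Agent.DualCx.Existence
import Groth.Agent.DualCx.Gorenstein
import Groth.Agent.DualCx.Primes
import Groth.Agent.S0345

/-!
# A Gorenstein ring with a dualizing complex is its own dualizing complex
-/

set_option autoImplicit false

open CategoryTheory

universe u

attribute [local instance] HasDerivedCategory.standard

namespace Groth.Agent.DualCx

theorem isDualizing_self_of_hasDC {A : Type u} [CommRing A] (h : HasDC A) (hG : LocCoh.IsGorensteinRing A) :
    Dual.IsDualizing A (Dual.inD A A) := by
  obtain ⟨ω, hω⟩ := h
  haveI := hω.isNoetherianRing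
  obtain ⟨W, a, b, hW, hinj, hzero, ⟨e⟩⟩ := exists_model hω.finite_injective_dimension
  haveI := hW
  haveI := hinj
  have hdim : ringKrullDim A ≤ ((b - a).toNat : WithBot ℕ∞) :=
    (ringKrullDim_le_iff_height_le _).2 fun I hI => by
      rw [← IsLocalization.AtPrime.ringKrullDim_eq_height I (Localization.AtPrime I)]
      exact ringKrullDim_localization_le a b hω hzero e I
  obtain ⟨n, hn⟩ := (Groth.Agent.S0345.result A).2 ⟨hG, hdim.trans_lt (WithBot.coe_lt_coe.2 (ENat.coe_lt_top _))⟩
  exact isDualizing_self hn

end Groth.Agent.DualCx
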