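import Groth.Agent.DualCx.Basic
import Mathlib.Algebra.Category.ModuleCat.Descent
import Mathlib.RingTheory.Localization.BaseChange
import Mathlib.RingTheory.LocalProperties.Injective
import Mathlib.RingTheory.Flat.Localization

/-!
# Localization and complexes of homomorphisms
-/

set_option autoImplicit false
set_option linter.style.haveILetI false

open CategoryTheory CategoryTheory.Limits CochainComplex CochainComplex.HomComplex

universe u

attribute [local instance] HasDerivedCategory.standard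

namespace Groth.Agent.DualCx

variable {A B : Type u} [CommRing A] [CommRing B] (φ : A →+* B) (S : Submonoid A)

/-- `φ` is a localization at `S`. -/
structure IsLocHom : Prop where
  isUnit : ∀ s ∈ S, IsUnit (φ s)
  surj : ∀ b : B, ∃ a : A, ∃ s ∈ S, b * φ s = φ a
  ker : ∀ a : A, φ a = 0 → ∃ s ∈ S, s * a = 0

theorem isLocHom_algebraMap {A : Type u} [CommRing A] (S : Submonoid A) (B : Type u) [CommRing B] [Algebra A B]
    [IsLocalization S B] : IsLocHom (algebraMap A B) S where
  isUnit s hs := IsLocalization.map_units B ⟨s, hs⟩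
  surj b := by
    obtain ⟨⟨a, s⟩, h⟩ := IsLocalization.surj S b
    exact ⟨a, s.1, s.2, h⟩
  ker a ha := by
    obtain ⟨s, hs⟩ := (IsLocalization.map_eq_zero_iff S B a).1 ha
    exact ⟨s.1, s.2, hs⟩

/-- Extension of scalars of modules. -/
noncomputable abbrev extM : ModuleCat.{u} A ⥤ ModuleCat.{u} B := ModuleCat.extendScalars.{u, u, u} φ

/-- Extension of scalars of complexes. -/
noncomputable abbrev extC : DRing.Cx A ⥤ DRing.Cx B := (extM φ).mapHomologicalComplex (ComplexShape.up ℤ)

/-- The element `1 ⊗ x`. -/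
noncomputable def one' {M : ModuleCat.{u} A} (x : M) : (extM φ).obj M :=
  ((ModuleCat.extendRestrictScalarsAdj.{u, u, u} φ).unit.app M).hom x

theorem one'_add {M : ModuleCat.{u} A} (x y : M) : one' φ (x + y) = one' φ x + one' φ y :=
  map_add ((ModuleCat.extendRestrictScalarsAdj.{u, u, u} φ).unit.app M).hom x y

theorem one'_smul {M : ModuleCat.{u} A} (a : A) (x : M) : one' φ (a • x) = φ a • one' φ x :=
  map_smul ((ModuleCat.extendRestrictScalarsAdj.{u, u, u} φ).unit.app M).hom a x

theorem one'_zero {M : ModuleCat.{u} A} : one' φ (0 : M) = 0 :=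
  map_zero ((ModuleCat.extendRestrictScalarsAdj.{u, u, u} φ).unit.app M).hom

theorem map_one' {M N : ModuleCat.{u} A} (f : M ⟶ N) (x : M) :
    ((extM φ).map f).hom (one' φ x) = one' φ (f.hom x) := rfl

/-- Maps out of an extension of scalars are determined on `1 ⊗ x`. -/
theorem hom_ext_one' {M : ModuleCat.{u} A} {N : ModuleCat.{u} B} {f g : (extM φ).obj M ⟶ N}
    (he : ∀ m : M, f.hom (one' φ m) = g.hom (one' φ m)) : f = g :=
  ((ModuleCat.extendRestrictScalarsAdj.{u, u, u} φ).homEquiv M N).injective (by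
    rw [Adjunction.homEquiv_unit, Adjunction.homEquiv_unit]
    exact ModuleCat.hom_ext (LinearMap.ext he))

theorem map_smul_loc {M N : ModuleCat.{u} A} (a : A) (f : M ⟶ N) :
    (extM φ).map (a • f) = φ a • (extM φ).map f :=
  hom_ext_one' φ fun m => by
    rw [map_one', ModuleCat.hom_smul, LinearMap.smul_apply, one'_smul, ← map_one']
    rfl

variable {φ S} (h : IsLocHom φ S)
include h

theorem IsLocHom.isLocalization : letI := φ.toAlgebra; IsLocalization S B := by
  letI := φ.toAlgebra
  refine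
    { map_units := fun s => h.isUnit s.1 s.2
      surj := fun b => ?_
      exists_of_eq := fun {a c} hac => ?_ }
  · obtain ⟨a, s, hs, he⟩ := h.surj b
    exact ⟨⟨a, ⟨s, hs⟩⟩, he⟩
  · obtain ⟨s, hs, he⟩ := h.ker (a - c) (by rw [map_sub, sub_eq_zero]; exact hac)
    exact ⟨⟨s, hs⟩, sub_eq_zero.1 (by rw [← mul_sub]; exact he)⟩

theorem IsLocHom.isLocalizedModule (M : ModuleCat.{u} A) :
    letI := φ.toAlgebra; IsLocalizedModule S (TensorProduct.mk A B M 1) := by
  letI := φ.toAlgebra
  haveI := h.isLocalization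
  exact inferInstance

theorem IsLocHom.flat : φ.Flat := by
  letI := φ.toAlgebra
  haveI := h.isLocalization
  exact IsLocalization.flat B S

theorem IsLocHom.exists_one' {M : ModuleCat.{u} A} (v : (extM φ).obj M) :
    ∃ s ∈ S, ∃ m : M, φ s • v = one' φ m := by
  let N : Submodule B ((extM φ).obj M) :=
    { carrier := {v | ∃ s ∈ S, ∃ m : M, φ s • v = one' φ m}
      zero_mem' := ⟨1, S.one_mem, 0, by rw [one'_zero, smul_zero]⟩
      add_mem' := by
        rintro v w ⟨s, hs, m, hm⟩ ⟨t, ht, n, hn⟩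
        refine ⟨s * t, S.mul_mem hs ht, t • m + s • n, ?_⟩
        rw [one'_add, one'_smul, one'_smul, ← hm, ← hn, smul_add, map_mul, smul_smul, smul_smul, mul_comm (φ t)]
      smul_mem' := by
        rintro b v ⟨t, ht, m, hm⟩
        obtain ⟨a, s, hs, he⟩ := h.surj b
        refine ⟨s * t, S.mul_mem hs ht, a • m, ?_⟩
        rw [one'_smul, ← hm, smul_smul, smul_smul, map_mul, ← he]
        congr 1
        ring }
  have hq : ModuleCat.ofHom N.mkQ = (0 : (extM φ).obj M ⟶ ModuleCat.of B (((extM φ).obj M) ⧸ N)) :=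
    _root_.Groth.Agent.DualCx.hom_ext_one' φ fun m => (Submodule.Quotient.mk_eq_zero N).2
      ⟨1, S.one_mem, m, by rw [map_one, one_smul]⟩
  exact (Submodule.Quotient.mk_eq_zero N).1 (ConcreteCategory.congr_hom hq v)

theorem IsLocHom.exists_of_one'_eq_zero {M : ModuleCat.{u} A} {m : M} (hm : one' φ m = 0) :
    ∃ s ∈ S, s • m = 0 := by
  letI := φ.toAlgebra
  haveI := h.isLocalizedModule M
  obtain ⟨s, hs⟩ := (IsLocalizedModule.eq_zero_iff S (TensorProduct.mk A B M 1)).1 hm
  exact ⟨s.1, s.2, hs⟩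

theorem IsLocHom.injective_ext [IsNoetherianRing A] (M : ModuleCat.{u} A) [Injective M] :
    Injective ((extM φ).obj M) := by
  letI := φ.toAlgebra
  haveI := h.isLocalization
  haveI := h.isLocalizedModule M
  haveI : Module.Injective A M := Module.injective_module_of_injective_object A M
  haveI : Module.Injective B (TensorProduct A B M) :=
    Module.injective_of_isLocalizedModule (Rₛ := B) S (TensorProduct.mk A B M 1)
  exact (Module.injective_iff_injective_object B ((extM φ).obj M)).1 this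

/-- Maps from finite free modules lift up to a denominator. -/
theorem IsLocHom.exists_map {P M : ModuleCat.{u} A} [Module.Finite A P] [Module.Free A P]
    (g : (extM φ).obj P ⟶ (extM φ).obj M) : ∃ s ∈ S, ∃ f : P ⟶ M, φ s • g = (extM φ).map f := by
  classical
  let bs := Module.Free.chooseBasis A P
  choose s hs m hm using fun j => h.exists_one' (g.hom (one' φ (bs j)))
  refine ⟨∏ j, s j, S.prod_mem fun j _ => hs j,
    ModuleCat.ofHom (bs.constr A fun j => (∏ k ∈ Finset.univ.erase j, s k) • m j), ?_⟩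
  refine _root_.Groth.Agent.DualCx.hom_ext_one' φ fun x => ?_
  have hbs : ∀ j, (φ (∏ k, s k) • g).hom (one' φ (bs j)) = one' φ ((∏ k ∈ Finset.univ.erase j, s k) • m j) :=
    fun j => by
      rw [one'_smul, ← hm, ModuleCat.hom_smul, LinearMap.smul_apply, smul_smul, ← map_mul,
        Finset.prod_erase_mul _ _ (Finset.mem_univ j)]
  have hl : ((ModuleCat.restrictScalars φ).map (φ (∏ k, s k) • g)).hom ∘ₗ
        ((ModuleCat.extendRestrictScalarsAdj.{u, u, u} φ).unit.app P).hom =
      ((ModuleCat.extendRestrictScalarsAdj.{u, u, u} φ).unit.app M).hom ∘ₗ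
        (bs.constr A fun j => (∏ k ∈ Finset.univ.erase j, s k) • m j) := bs.ext fun j =>
    (hbs j).trans (congrArg (one' φ) (bs.constr_basis A (fun j => (∏ k ∈ Finset.univ.erase j, s k) • m j) j).symm)
  exact LinearMap.congr_fun hl x

/-- Maps from finite modules vanishing after localization are killed by a denominator. -/
theorem IsLocHom.exists_kill {P M : ModuleCat.{u} A} [Module.Finite A P] (f : P ⟶ M)
    (hf : (extM φ).map f = 0) : ∃ s ∈ S, s • f = 0 := by
  classical
  obtain ⟨T, hT⟩ := (Module.Finite.fg_top : (⊤ : Submodule A P).FG)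
  choose s hs he using fun x : P => h.exists_of_one'_eq_zero (m := f.hom x) (by
    rw [← map_one', hf]; rfl)
  refine ⟨∏ x ∈ T, s x, S.prod_mem fun x _ => hs x, ModuleCat.hom_ext (LinearMap.ext_on hT fun x hx => ?_)⟩
  rw [ModuleCat.hom_smul, LinearMap.smul_apply, ← Finset.prod_erase_mul T s hx, mul_smul, he x, smul_zero]
  rfl

omit h in
/-- The map on cochains. -/
noncomputable def cloc {P W : DRing.Cx A} {n : ℤ} (c : Cochain P W n) : Cochain ((extC φ).obj P) ((extC φ).obj W) n :=
  Cochain.mk fun p q hpq => (extM φ).map (c.v p q hpq)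

omit h in
theorem cloc_v {P W : DRing.Cx A} {n : ℤ} (c : Cochain P W n) (p q : ℤ) (hpq : p + n = q) :
    (cloc (φ := φ) c).v p q hpq = (extM φ).map (c.v p q hpq) := rfl

omit h in
theorem cloc_sub {P W : DRing.Cx A} {n : ℤ} (c c' : Cochain P W n) :
    cloc (φ := φ) (c - c') = cloc c - cloc c' :=
  Cochain.ext _ _ fun p q hpq => by
    rw [Cochain.sub_v, cloc_v, cloc_v, cloc_v, Cochain.sub_v, Functor.map_sub]
    exact rfl

omit h in
theorem cloc_smul {P W : DRing.Cx A} {n : ℤ} (a : A) (c : Cochain P W n) :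
    cloc (φ := φ) (a • c) = φ a • cloc c :=
  Cochain.ext _ _ fun p q hpq => by
    rw [Cochain.smul_v, cloc_v, cloc_v, Cochain.smul_v, map_smul_loc]
    exact rfl

omit h in
theorem cloc_ofHom {P W : DRing.Cx A} (f : P ⟶ W) :
    cloc (φ := φ) (Cochain.ofHom f) = Cochain.ofHom ((extC φ).map f) :=
  Cochain.ext _ _ fun p q hpq => by
    obtain rfl : p = q := by omega
    rw [cloc_v, Cochain.ofHom_v, Cochain.ofHom_v]
    rfl

omit h in
theorem cloc_δ {P W : DRing.Cx A} (n m : ℤ) (hnm : n + 1 = m) (c : Cochain P W n) :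
    cloc (φ := φ) (δ n m c) = δ n m (cloc c) :=
  Cochain.ext _ _ fun p q hpq => by
    rw [cloc_v, δ_v n m hnm c p q hpq (q - 1) (p + 1) rfl rfl,
      δ_v n m hnm (cloc c) p q hpq (q - 1) (p + 1) rfl rfl, Functor.map_add, Functor.map_comp,
      Units.smul_def, Units.smul_def, Functor.map_zsmul, Functor.map_comp, cloc_v, cloc_v]
    rfl

theorem IsLocHom.exists_cloc {P W : DRing.Cx A} (a b : ℤ) (hzero : ∀ i, (i < a ∨ b < i) → IsZero (W.X i))
    (hP : ∀ i, Module.Finite A (P.X i) ∧ Module.Free A (P.X i)) {n : ℤ}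
    (c' : Cochain ((extC φ).obj P) ((extC φ).obj W) n) :
    ∃ s ∈ S, ∃ c : Cochain P W n, φ s • c' = cloc c := by
  classical
  have hex : ∀ p : ℤ, ∃ s ∈ S, ∃ f : P.X p ⟶ W.X (p + n), φ s • c'.v p (p + n) rfl = (extM φ).map f := fun p => by
    haveI := (hP p).1
    haveI := (hP p).2
    exact h.exists_map _
  choose s hs f hf using hex
  let I := Finset.Icc (a - n) (b - n)
  refine ⟨∏ p ∈ I, s p, S.prod_mem fun p _ => hs p,
    Cochain.mk fun p q hpq => (∏ k ∈ I.erase p, s k) • (f p ≫ (W.XIsoOfEq hpq).hom), ?_⟩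
  refine Cochain.ext _ _ fun p q hpq => ?_
  subst hpq
  rw [Cochain.smul_v, cloc_v, Cochain.mk_v, HomologicalComplex.XIsoOfEq_rfl, Iso.refl_hom, Category.comp_id,
    map_smul_loc, ← hf]
  by_cases hp : p ∈ I
  · refine (congrArg (· • _) ?_).trans (mul_smul _ _ _)
    rw [← map_mul, Finset.prod_erase_mul _ _ hp]
  · exact (Functor.map_isZero (extM φ) (hzero (p + n) (by simp only [I, Finset.mem_Icc] at hp; omega))).eq_of_tgt _ _

theorem IsLocHom.exists_kill_cochain {P W : DRing.Cx A} (a b : ℤ) (hzero : ∀ i, (i < a ∨ b < i) → IsZero (W.X i))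
    (hP : ∀ i, Module.Finite A (P.X i)) {n : ℤ} (c : Cochain P W n) (hc : cloc (φ := φ) c = 0) :
    ∃ s ∈ S, s • c = 0 := by
  classical
  have hex : ∀ p : ℤ, ∃ s ∈ S, s • c.v p (p + n) rfl = 0 := fun p => by
    haveI := hP p
    exact h.exists_kill _ (congrArg (fun γ : Cochain ((extC φ).obj P) ((extC φ).obj W) n => γ.v p (p + n) rfl) hc)
  choose s hs hs0 using hex
  let I := Finset.Icc (a - n) (b - n)
  refine ⟨∏ p ∈ I, s p, S.prod_mem fun p _ => hs p, Cochain.ext _ _ fun p q hpq => ?_⟩
  subst hpq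
  rw [Cochain.smul_v, Cochain.zero_v]
  by_cases hp : p ∈ I
  · rw [← Finset.prod_erase_mul _ _ hp, mul_smul, hs0, smul_zero]
  · exact (hzero (p + n) (by simp only [I, Finset.mem_Icc] at hp; omega)).eq_of_tgt _ _

end Groth.Agent.DualCx
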