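import Groth.Agent.DualCx.Normalized
import Groth.Agent.DualCx.DerDevissage
import Groth.Agent.DualCx.Devissage
import Mathlib.Algebra.Homology.DerivedCategory.SingleTriangle
import Mathlib.CategoryTheory.Limits.ConcreteCategory.WithAlgebraicStructures
import Mathlib.Algebra.Homology.DerivedCategory.Linear

/-!
# Local duality

For a normalized dualizing complex `ω` over a Noetherian local ring and a bounded object `X` with finite cohomology
the pairing of `colim Hom(A/m^n, X)` with `Hom(X, ω)` into `H^0_m(ω)` identifies the former with the dual of the latter.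
-/

set_option autoImplicit false
set_option linter.style.haveILetI false

open CategoryTheory CategoryTheory.Limits CategoryTheory.Pretriangulated DerivedCategory

universe u

attribute [local instance] HasDerivedCategory.standard

namespace Groth.Agent.DualCx.LD

open Groth.Agent.LocCohLib Groth.Agent.RGamma

variable {A : Type u} [CommRing A]

/-- `A/I^n` in degree zero. -/
noncomputable abbrev sA (I : Ideal A) (n : ℕ) : Dual.D A :=
  (singleFunctor (ModuleCat.{u} A) 0).obj (ModuleCat.of A (A ⧸ I ^ n))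

/-- The projection. -/
noncomputable def sπ (I : Ideal A) {n m : ℕ} (h : n ≤ m) : sA I m ⟶ sA I n :=
  (singleFunctor (ModuleCat.{u} A) 0).map (ModuleCat.ofHom (Submodule.factor (Ideal.pow_le_pow_right h)))

theorem sπ_comp (I : Ideal A) {n m p : ℕ} (h : n ≤ m) (h' : m ≤ p) : sπ I h' ≫ sπ I h = sπ I (h.trans h') := by
  rw [sπ, sπ, sπ, ← Functor.map_comp]
  refine congrArg _ (ModuleCat.hom_ext (LinearMap.ext fun x => ?_))
  obtain ⟨a, rfl⟩ := Submodule.Quotient.mk_surjective _ x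
  rfl

theorem sπ_comp_assoc (I : Ideal A) {n m p : ℕ} (h : n ≤ m) (h' : m ≤ p) {X : Dual.D A} (v : sA I n ⟶ X) :
    sπ I h' ≫ sπ I h ≫ v = sπ I (h.trans h') ≫ v := by
  rw [← Category.assoc, sπ_comp]

theorem smul_sA (I : Ideal A) {n : ℕ} {a : A} (ha : a ∈ I ^ n) {X : Dual.D A} (v : sA I n ⟶ X) : a • v = 0 := by
  have h : (a • 𝟙 (ModuleCat.of A (A ⧸ I ^ n))) = 0 :=
    ModuleCat.hom_ext (LinearMap.ext fun x => killed_quotient I le_rfl a ha x)
  have h2 := congrArg (fun f => (singleFunctor (ModuleCat.{u} A) 0).map f ≫ v) h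
  simp only [Functor.map_smul, CategoryTheory.Functor.map_id, Linear.smul_comp, Category.id_comp, Functor.map_zero,
    zero_comp] at h2
  exact h2

variable (I : Ideal A)

/-- Killed further down the system. -/
def Dies {X : Dual.D A} {n : ℕ} (v : sA I n ⟶ X) : Prop := ∃ (m : ℕ) (h : n ≤ m), sπ I h ≫ v = 0

theorem Dies.of_restrict {X : Dual.D A} {n m : ℕ} {h : n ≤ m} {v : sA I n ⟶ X} (hv : Dies I (sπ I h ≫ v)) :
    Dies I v := by
  obtain ⟨p, h', hp⟩ := hv
  exact ⟨p, h.trans h', by rw [← sπ_comp_assoc I h h', hp]⟩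

variable {W : DRing.Cx A} [W.IsKInjective] {ω : Dual.D A} (e : DerivedCategory.Q.obj W ≅ ω)

/-- The class of a morphism `A/I^n ⟶ ω` in the torsion cohomology. -/
noncomputable def L (n : ℕ) : (sA I n ⟶ ω) →ₗ[A] H0Γ I W :=
  leg W 0 e I n ∘ₗ Linear.rightComp A _ (((CategoryTheory.shiftFunctorZero (Dual.D A) ℤ).inv).app ω)

theorem exists_psi (n : ℕ) (φ : sA I n ⟶ ω) : ∃ z, psi W 0 e (ModuleCat.of A (A ⧸ I ^ n)) z =
    φ ≫ ((CategoryTheory.shiftFunctorZero (Dual.D A) ℤ).inv).app ω :=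
  psi_surjective W 0 e _ _

theorem L_sπ {n m : ℕ} (h : n ≤ m) (φ : sA I n ⟶ ω) : L I e m (sπ I h ≫ φ) = L I e n φ := by
  obtain ⟨z, hz⟩ := exists_psi I e n φ
  show leg W 0 e I m ((sπ I h ≫ φ) ≫ _) = leg W 0 e I n (φ ≫ _)
  rw [Category.assoc, ← hz, sπ, psi_comp]
  refine (leg_psi W 0 e I m _).trans (Eq.trans ?_ (leg_psi W 0 e I n z).symm)
  exact congrArg (scCls (((gammaCx I).obj W).sc 0)) (Subtype.ext (Subtype.ext rfl))

/-- The pairing. -/
noncomputable def val {X : Dual.D A} (n : ℕ) (v : sA I n ⟶ X) : (X ⟶ ω) →ₗ[A] H0Γ I W :=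
  L I e n ∘ₗ Linear.leftComp A ω v

theorem val_apply {X : Dual.D A} (n : ℕ) (v : sA I n ⟶ X) (φ : X ⟶ ω) : val I e n v φ = L I e n (v ≫ φ) := rfl

theorem val_sπ {X : Dual.D A} {n m : ℕ} (h : n ≤ m) (v : sA I n ⟶ X) : val I e m (sπ I h ≫ v) = val I e n v :=
  LinearMap.ext fun φ => by rw [val_apply, val_apply, Category.assoc, L_sπ]

theorem val_comp {X Y : Dual.D A} (n : ℕ) (v : sA I n ⟶ X) (f : X ⟶ Y) (φ : Y ⟶ ω) :
    val I e n (v ≫ f) φ = val I e n v (f ≫ φ) := by rw [val_apply, val_apply, Category.assoc]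

theorem val_add {X : Dual.D A} (n : ℕ) (v w : sA I n ⟶ X) : val I e n (v + w) = val I e n v + val I e n w :=
  LinearMap.ext fun φ => by rw [LinearMap.add_apply, val_apply, val_apply, val_apply, Preadditive.add_comp, map_add]

theorem val_sub {X : Dual.D A} (n : ℕ) (v w : sA I n ⟶ X) : val I e n (v - w) = val I e n v - val I e n w :=
  LinearMap.ext fun φ => by rw [LinearMap.sub_apply, val_apply, val_apply, val_apply, Preadditive.sub_comp, map_sub]

theorem val_smul {X : Dual.D A} (n : ℕ) (a : A) (v : sA I n ⟶ X) : val I e n (a • v) = a • val I e n v :=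
  LinearMap.ext fun φ => by rw [LinearMap.smul_apply, val_apply, val_apply, Linear.smul_comp, map_smul]

theorem val_zero {X : Dual.D A} (n : ℕ) : val I e n (0 : sA I n ⟶ X) = 0 :=
  LinearMap.ext fun φ => by rw [LinearMap.zero_apply, val_apply, zero_comp, map_zero]

theorem val_eq_zero_of_dies {X : Dual.D A} {n : ℕ} {v : sA I n ⟶ X} (h : Dies I v) : val I e n v = 0 := by
  obtain ⟨m, h, hv⟩ := h
  rw [← val_sπ I e h, hv, val_zero]

/-- The pairing is surjective. -/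
def SurjQ (X : Dual.D A) : Prop := ∀ l : (X ⟶ ω) →ₗ[A] H0Γ I W, ∃ (n : ℕ) (v : sA I n ⟶ X), val I e n v = l

/-- The pairing is injective. -/
def InjQ (X : Dual.D A) : Prop := ∀ (n : ℕ) (v : sA I n ⟶ X), val I e n v = 0 → Dies I v

theorem SurjQ.of_iso {X Y : Dual.D A} (h : SurjQ I e X) (f : X ≅ Y) : SurjQ I e Y := fun l => by
  obtain ⟨n, v, hv⟩ := h (l ∘ₗ Linear.leftComp A ω f.inv)
  refine ⟨n, v ≫ f.hom, LinearMap.ext fun φ => ?_⟩
  rw [val_comp, hv]
  show l (f.inv ≫ f.hom ≫ φ) = l φ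
  rw [f.inv_hom_id_assoc]

theorem InjQ.of_iso {X Y : Dual.D A} (h : InjQ I e X) (f : X ≅ Y) : InjQ I e Y := fun n v hv => by
  obtain ⟨m, hm, h0⟩ := h n (v ≫ f.inv) (LinearMap.ext fun φ => by rw [val_comp, hv]; rfl)
  exact ⟨m, hm, (cancel_mono f.inv).1 (by rw [Category.assoc, h0, zero_comp])⟩

/-- Extension into an injective module. -/
theorem exists_extend {E : Type u} [AddCommGroup E] [Module A E] [Module.Injective A E] {B C : Type*}
    [AddCommGroup B] [Module A B] [AddCommGroup C] [Module A C] (a : B →ₗ[A] C) (l : B →ₗ[A] E)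
    (h : ∀ b, a b = 0 → l b = 0) : ∃ μ : C →ₗ[A] E, ∀ b, μ (a b) = l b := by
  obtain ⟨μ, hμ⟩ := (Module.Baer.of_injective (R := A) (Q := E) inferInstance).extension_property
    ((LinearMap.ker a).liftQ a le_rfl) (by
      rw [← LinearMap.ker_eq_bot, Submodule.ker_liftQ_eq_bot _ _ _ le_rfl])
    ((LinearMap.ker a).liftQ l h)
  exact ⟨μ, fun b => LinearMap.congr_fun hμ (Submodule.Quotient.mk b)⟩

variable [Module.Injective A (H0Γ I W)]

theorem injStep (T : Triangle (Dual.D A)) (hT : T ∈ distTriang (Dual.D A)) (hX : InjQ I e T.obj₁)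
    (hZ : SurjQ I e (T.obj₃⟦(-1 : ℤ)⟧)) (n : ℕ) (v : sA I n ⟶ T.obj₂) (hval : val I e n v = 0)
    (hg : v ≫ T.mor₂ = 0) : Dies I v := by
  have hT' := inv_rot_of_distTriang T hT
  obtain ⟨w, hw⟩ := T.coyoneda_exact₂ hT v hg
  let δ : T.obj₃⟦(-1 : ℤ)⟧ ⟶ T.obj₁ := T.invRotate.mor₁
  obtain ⟨μ, hμ⟩ := exists_extend (Linear.leftComp A ω δ) (val I e n w) fun φ hφ => by
    obtain ⟨ψ, hψ⟩ := T.invRotate.yoneda_exact₂ hT' φ hφ
    have h := LinearMap.congr_fun hval ψ
    rw [hw, val_comp] at h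
    exact (congrArg (val I e n w) hψ).trans h
  obtain ⟨l, u, hu⟩ := hZ μ
  obtain ⟨p, hp, h0⟩ := hX (max n l) (sπ I (le_max_left n l) ≫ w - (sπ I (le_max_right n l) ≫ u) ≫ δ) (by
    refine LinearMap.ext fun φ => ?_
    rw [val_sub, LinearMap.sub_apply, val_sπ, val_comp, val_sπ, hu, LinearMap.zero_apply, sub_eq_zero]
    exact (hμ φ).symm)
  refine ⟨p, (le_max_left n l).trans hp, ?_⟩
  rw [Preadditive.comp_sub, sub_eq_zero, sπ_comp_assoc] at h0
  rw [hw, ← Category.assoc, h0, Category.assoc, Category.assoc,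
    show δ ≫ T.mor₁ = 0 from comp_distTriang_mor_zero₁₂ _ hT', comp_zero, comp_zero]

theorem surjStep (T : Triangle (Dual.D A)) (hT : T ∈ distTriang (Dual.D A)) (hX : SurjQ I e T.obj₁)
    (l : (T.obj₂ ⟶ ω) →ₗ[A] H0Γ I W) (hl : ∀ φ, l (T.mor₂ ≫ φ) = 0) :
    ∃ (n : ℕ) (v : sA I n ⟶ T.obj₂), val I e n v = l := by
  obtain ⟨μ, hμ⟩ := exists_extend (Linear.leftComp A ω T.mor₁) l fun φ hφ => by
    obtain ⟨ψ, rfl⟩ := T.yoneda_exact₂ hT φ hφ
    exact hl ψ
  obtain ⟨n, w, hw⟩ := hX μ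
  exact ⟨n, w ≫ T.mor₁, LinearMap.ext fun φ => by rw [val_comp, hw]; exact hμ φ⟩

theorem injQ₂ (T : Triangle (Dual.D A)) (hT : T ∈ distTriang (Dual.D A)) (hX : InjQ I e T.obj₁)
    (hZ : InjQ I e T.obj₃) (hZ' : SurjQ I e (T.obj₃⟦(-1 : ℤ)⟧)) : InjQ I e T.obj₂ := fun n v hv => by
  obtain ⟨m, hm, h0⟩ := hZ n (v ≫ T.mor₂) (LinearMap.ext fun φ => by rw [val_comp, hv]; rfl)
  refine Dies.of_restrict I (h := hm) (injStep I e T hT hX hZ' m _ ?_ ?_)
  · rw [val_sπ, hv]
  · rw [Category.assoc, h0]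

theorem surjQ₂ (T : Triangle (Dual.D A)) (hT : T ∈ distTriang (Dual.D A)) (hX : SurjQ I e T.obj₁)
    (hX' : InjQ I e (T.obj₁⟦(1 : ℤ)⟧)) (hZ : SurjQ I e T.obj₃) : SurjQ I e T.obj₂ := fun l => by
  obtain ⟨n, u, hu⟩ := hZ (l ∘ₗ Linear.leftComp A ω T.mor₂)
  obtain ⟨m, hm, h0⟩ := hX' n (u ≫ T.mor₃) (LinearMap.ext fun φ => by
    rw [val_comp, hu]
    show l (T.mor₂ ≫ T.mor₃ ≫ φ) = 0
    rw [← Category.assoc, comp_distTriang_mor_zero₂₃ T hT, zero_comp, map_zero])
  rw [← Category.assoc] at h0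
  obtain ⟨v, hv⟩ := T.coyoneda_exact₃ hT (sπ I hm ≫ u) h0
  obtain ⟨p, w, hw⟩ := surjStep I e T hT hX (l - val I e m v) fun φ => by
    rw [LinearMap.sub_apply, sub_eq_zero, ← val_comp, ← hv, val_sπ, hu]
    rfl
  refine ⟨max m p, sπ I (le_max_left m p) ≫ v + sπ I (le_max_right m p) ≫ w, ?_⟩
  rw [val_add, val_sπ, val_sπ, hw, add_sub_cancel]

/-- Duality holds for all shifts. -/
def P (X : Dual.D A) : Prop := ∀ k : ℤ, SurjQ I e (X⟦k⟧) ∧ InjQ I e (X⟦k⟧)

theorem P.of_iso {X Y : Dual.D A} (f : X ≅ Y) (h : P I e X) : P I e Y := fun k =>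
  ⟨(h k).1.of_iso I e ((CategoryTheory.shiftFunctor (Dual.D A) k).mapIso f),
    (h k).2.of_iso I e ((CategoryTheory.shiftFunctor (Dual.D A) k).mapIso f)⟩

theorem P.shift {X : Dual.D A} (h : P I e X) (j : ℤ) : P I e (X⟦j⟧) := fun k =>
  ⟨(h (j + k)).1.of_iso I e ((CategoryTheory.shiftFunctorAdd (Dual.D A) j k).app X),
    (h (j + k)).2.of_iso I e ((CategoryTheory.shiftFunctorAdd (Dual.D A) j k).app X)⟩

omit [Module.Injective A (H0Γ I W)] in
theorem P.of_isZero {X : Dual.D A} (h : IsZero X) : P I e X := fun k => by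
  have hz : IsZero (X⟦k⟧) := Functor.map_isZero _ h
  exact ⟨fun l => ⟨0, 0, LinearMap.ext fun φ => by rw [hz.eq_of_src φ 0, map_zero, map_zero]⟩,
    fun n v _ => ⟨n, le_rfl, hz.eq_of_tgt _ _⟩⟩

theorem P.mid {T : Triangle (Dual.D A)} (hT : T ∈ distTriang (Dual.D A)) (h₁ : P I e T.obj₁) (h₃ : P I e T.obj₃) :
    P I e T.obj₂ := fun k =>
  ⟨surjQ₂ I e _ (Triangle.shift_distinguished T hT k) (h₁ k).1 (h₁.shift I e k 1).2 (h₃ k).1,
    injQ₂ I e _ (Triangle.shift_distinguished T hT k) (h₁ k).2 (h₃ k).2 (h₃.shift I e k (-1)).1⟩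

/-- Morphisms out of a shift. -/
noncomputable def shiftHomEquiv (X Y : Dual.D A) (k : ℤ) : (X ⟶ Y⟦-k⟧) ≃ₗ[A] (X⟦k⟧ ⟶ Y) :=
  homShiftEquiv X (Y⟦-k⟧) k ≪≫ₗ
    Linear.homCongr A (Iso.refl _) ((CategoryTheory.shiftFunctorCompIsoId (Dual.D A) (-k) k (neg_add_cancel k)).app Y)

/-- Multiplication by an element of `I`. -/
theorem smul_triangle (X Q : Dual.D A) {c : A} (hc : c ∈ I) (g : X ⟶ Q) (δ : Q ⟶ X⟦(1 : ℤ)⟧)
    (hT : Triangle.mk (c • 𝟙 X) g δ ∈ distTriang (Dual.D A)) (hQ : InjQ I e Q)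
    (hQ' : SurjQ I e (Q⟦(-1 : ℤ)⟧)) (hfin : Module.Finite A (X ⟶ ω))
    (htors : ∀ x : H0Γ I W, ∃ n : ℕ, ∀ a ∈ I ^ n, a • x = 0) : SurjQ I e X := fun l => by
  have hT' := inv_rot_of_distTriang _ hT
  suffices H : ∀ (j : ℕ) (l : (X ⟶ ω) →ₗ[A] H0Γ I W), c ^ j • l = 0 → ∃ (n : ℕ) (v : sA I n ⟶ X), val I e n v = l by
    obtain ⟨k, hk⟩ := exists_uniform_pow I (LinearMap.range l) fun x => by
      obtain ⟨n, hn⟩ := htors x.1
      exact ⟨n, fun a ha => Subtype.ext (hn a ha)⟩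
    exact H k l (LinearMap.ext fun φ => congrArg Subtype.val (hk _ (Ideal.pow_mem_pow hc k) ⟨l φ, φ, rfl⟩))
  intro j
  induction j with
  | zero => exact fun l hl => ⟨0, 0, by rw [val_zero, ← hl, pow_zero, one_smul]⟩
  | succ j ih =>
    intro l hl
    obtain ⟨n, u, hu⟩ := ih (c • l) (by rw [smul_smul, ← pow_succ, hl])
    have hg : c • g = 0 := by
      have h : (c • 𝟙 X) ≫ g = 0 := comp_distTriang_mor_zero₁₂ _ hT
      rwa [Linear.smul_comp, Category.id_comp] at h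
    obtain ⟨m, hm, h0⟩ := hQ n (u ≫ g) (LinearMap.ext fun φ => by
      rw [val_comp, hu, LinearMap.smul_apply, ← map_smul, ← Linear.smul_comp, hg, zero_comp, map_zero,
        LinearMap.zero_apply])
    rw [← Category.assoc] at h0
    obtain ⟨w, hw⟩ : ∃ w : sA I m ⟶ X, sπ I hm ≫ u = w ≫ (c • 𝟙 X) :=
      Triangle.coyoneda_exact₂ _ hT (sπ I hm ≫ u) h0
    obtain ⟨p, z, hz⟩ : ∃ (p : ℕ) (z : sA I p ⟶ X), val I e p z = l - val I e m w :=
      surjStep I e _ hT' hQ' (l - val I e m w) fun (φ : X ⟶ ω) => by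
      show (l - val I e m w) ((c • 𝟙 X) ≫ φ) = 0
      rw [Linear.smul_comp, Category.id_comp, map_smul, LinearMap.sub_apply, smul_sub, sub_eq_zero]
      have h := congrArg (fun v => val I e m v φ) hw
      simp only [val_sπ, hu, LinearMap.smul_apply] at h
      refine h.trans ?_
      show val I e m (w ≫ (c • 𝟙 X)) φ = _
      rw [val_comp, Linear.smul_comp, Category.id_comp, map_smul]
    refine ⟨max m p, sπ I (le_max_left m p) ≫ w + sπ I (le_max_right m p) ≫ z, ?_⟩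
    rw [val_add, val_sπ, val_sπ, hz]
    exact add_sub_cancel _ _

theorem smul_triangle_inj (X Q : Dual.D A) {c : A} (hc : c ∈ I) (g : X ⟶ Q) (δ : Q ⟶ X⟦(1 : ℤ)⟧)
    (hT : Triangle.mk (c • 𝟙 X) g δ ∈ distTriang (Dual.D A)) (hQ : InjQ I e (Q⟦(-1 : ℤ)⟧))
    (hX' : SurjQ I e (X⟦(-1 : ℤ)⟧)) : InjQ I e X := by
  have hT' := inv_rot_of_distTriang _ hT
  suffices H : ∀ (j n : ℕ) (v : sA I n ⟶ X), c ^ j • v = 0 → val I e n v = 0 → Dies I v from
    fun n v hv => H n n v (smul_sA I (Ideal.pow_mem_pow hc n) v) hv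
  intro j
  induction j with
  | zero => exact fun n v h _ => ⟨n, le_rfl, by rw [pow_zero, one_smul] at h; rw [h, comp_zero]⟩
  | succ j ih =>
    intro n v hv hval
    obtain ⟨m, hm, h0⟩ := ih n (c • v) (by rw [smul_smul, ← pow_succ, hv]) (by rw [val_smul, hval, smul_zero])
    refine Dies.of_restrict I (h := hm) (injStep I e _ hT' hQ hX' m _ ?_ ?_)
    · exact (val_sπ I e hm v).trans hval
    · show (sπ I hm ≫ v) ≫ (c • 𝟙 X) = 0
      rw [Linear.comp_smul, Category.comp_id, ← Linear.comp_smul, h0]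

theorem P.of_smul_triangle {X Q : Dual.D A} {c : A} (hc : c ∈ I) (g : X ⟶ Q) (δ : Q ⟶ X⟦(1 : ℤ)⟧)
    (hT : Triangle.mk (c • 𝟙 X) g δ ∈ distTriang (Dual.D A)) (hQ : P I e Q)
    (hfin : ∀ k : ℤ, Module.Finite A (X⟦k⟧ ⟶ ω))
    (htors : ∀ x : H0Γ I W, ∃ n : ℕ, ∀ a ∈ I ^ n, a • x = 0) : P I e X := by
  have key : ∀ k : ℤ, ∃ (c' : A), c' ∈ I ∧ ∃ (g' : X⟦k⟧ ⟶ Q⟦k⟧) (δ' : Q⟦k⟧ ⟶ (X⟦k⟧)⟦(1 : ℤ)⟧),
      Triangle.mk (c' • 𝟙 (X⟦k⟧)) g' δ' ∈ distTriang (Dual.D A) := fun k => by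
    refine ⟨((k.negOnePow : ℤ) : A) * c, I.mul_mem_left _ hc, ?_⟩
    have h : Triangle.mk (k.negOnePow • (c • 𝟙 X)⟦k⟧') _ _ ∈ distTriang (Dual.D A) :=
      Triangle.shift_distinguished _ hT k
    rw [Functor.map_smul, CategoryTheory.Functor.map_id, Units.smul_def, ← Int.cast_smul_eq_zsmul A, smul_smul] at h
    exact ⟨_, _, h⟩
  have hs : ∀ k : ℤ, SurjQ I e (X⟦k⟧) := fun k => by
    obtain ⟨c', hc', g', δ', h⟩ := key k
    exact smul_triangle I e _ _ hc' g' δ' h (hQ k).2 (hQ.shift I e k (-1)).1 (hfin k) htors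
  refine fun k => ⟨hs k, ?_⟩
  obtain ⟨c', hc', g', δ', h⟩ := key k
  exact smul_triangle_inj I e _ _ hc' g' δ' h (hQ.shift I e k (-1)).2
    ((hs (k + -1)).of_iso I e ((CategoryTheory.shiftFunctorAdd (Dual.D A) k (-1)).app X))

/-- Vanishing of the cohomology of `RΓ_I`. -/
theorem subsingleton_HD_iff [DRing.HasRgammaI I] (K : Dual.D A) (i : ℤ) :
    Subsingleton (Dual.HD A ((DRing.RgammaI I).obj K) i) ↔ ∀ (n : ℕ) (v : sA I n ⟶ K⟦i⟧), Dies I v := by
  obtain ⟨E⟩ := nonempty_HD_equiv i I K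
  refine E.toEquiv.subsingleton_congr.trans ⟨fun h n v => ?_, fun h => ?_⟩
  · obtain ⟨J, hJ, -, eJ, -, -⟩ := RGamma.exists_model I K
    haveI := hJ
    obtain ⟨z, rfl⟩ := psi_surjective J i eJ (ModuleCat.of A (A ⧸ I ^ n)) v
    have h1 : cls J i I n z = 0 := by
      have h2 := ConcreteCategory.congr_hom (colimit.ι_desc (hdCocone J i eJ I) (Opposite.op (Opposite.op n)))
        (psi J i eJ _ z)
      have h3 : (colimit.ι (diag i I K) (Opposite.op (Opposite.op n))).hom (psi J i eJ _ z) = 0 :=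
        @Subsingleton.elim _ h _ _
      have h4 : (ULift.moduleEquiv (R := A) (M := ((gammaCx I).obj J).homology i)).symm
          (leg J i eJ I n (psi J i eJ _ z)) = 0 :=
        h2.symm.trans ((congrArg _ h3).trans (map_zero (colimit.desc _ (hdCocone J i eJ I)).hom))
      rw [leg_psi] at h4
      exact (ULift.moduleEquiv (R := A) (M := ((gammaCx I).obj J).homology i)).symm.injective (h4.trans (map_zero _).symm)
    obtain ⟨⟨y, m, hm⟩, hy⟩ := (cls_eq_zero_iff J i I n z).1 h1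
    let w : (A ⧸ I ^ max n m) →ₗ[A] J.X (i - 1) := Submodule.liftQ _ (LinearMap.toSpanSingleton A _ y) fun a ha => by
      rw [LinearMap.mem_ker, LinearMap.toSpanSingleton_apply]
      exact hm a (Ideal.pow_le_pow_right (le_max_right n m) ha)
    refine ⟨max n m, le_max_left n m, (psi_comp J i eJ _ z).trans (psi_eq_zero J i eJ _ w fun v => ?_)⟩
    obtain ⟨a, rfl⟩ := Submodule.Quotient.mk_surjective _ v
    show z.1 (Submodule.Quotient.mk a) = (J.d (i - 1) i).hom (a • y)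
    rw [map_smul, hy, ← map_smul, ← Submodule.Quotient.mk_smul, smul_eq_mul, mul_one]
  · refine subsingleton_of_forall_eq 0 fun x => ?_
    obtain ⟨n, v, rfl⟩ := exists_rep_colimit (diag i I K) x
    obtain ⟨m, hm, hv⟩ := h n v
    refine (ConcreteCategory.congr_hom (colimit.w (diag i I K) (homOfLE hm).op.op) v).symm.trans ?_
    show (colimit.ι (diag i I K) _).hom (sπ I hm ≫ v) = 0
    exact (congrArg _ hv).trans (map_zero _)

section base

variable [IsLocalRing A] [IsNoetherianRing A]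

local notation "𝔪" => IsLocalRing.maximalIdeal A

omit [Module.Injective A (H0Γ I W)] in
theorem L_injective (hW : IsResidual W 0) (n : ℕ) : Function.Injective (L 𝔪 e n) := by
  refine (injective_iff_map_eq_zero _).2 fun φ hφ => ?_
  obtain ⟨z, hz⟩ := exists_psi 𝔪 e n φ
  have h : cls W 0 𝔪 n z = 0 := by
    rw [← leg_psi W 0 e 𝔪 n z, hz]
    exact hφ
  have h1 : theta 𝔪 W (killed_quotient 𝔪 (le_refl (𝔪 ^ n))) (dcls W _ 0 z) = 0 := by
    rw [theta_dcls]
    refine quot_ext (Eq.trans ?_ h)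
    exact congrArg (scCls (((gammaCx 𝔪).obj W).sc 0)) (Subtype.ext (Subtype.ext rfl))
  have h2 : psi W 0 e _ z = 0 := by
    rw [← LinearMap.mem_ker, psi_ker, LinearMap.mem_ker]
    exact (hW.theta_injective_quot le_rfl) (h1.trans (map_zero _).symm)
  rw [h2] at hz
  exact (cancel_mono (((CategoryTheory.shiftFunctorZero (Dual.D A) ℤ).inv).app ω)).1 (hz.symm.trans zero_comp.symm)

omit [Module.Injective A (H0Γ I W)] in
theorem L_surjective (hW : IsResidual W 0) (n : ℕ) (x : H0Γ 𝔪 W) (hx : ∀ a ∈ 𝔪 ^ n, a • x = 0) :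
    ∃ φ, L 𝔪 e n φ = x := by
  obtain ⟨y, hy⟩ := (hW.theta_bijective_quot (le_refl (𝔪 ^ n))).2
    (Submodule.liftQ (𝔪 ^ n) (LinearMap.toSpanSingleton A _ x) fun a ha => hx a ha)
  obtain ⟨z, rfl⟩ := dcls_surjective W _ 0 y
  refine ⟨psi W 0 e _ z ≫ ((CategoryTheory.shiftFunctorZero (Dual.D A) ℤ).hom).app ω, ?_⟩
  show leg W 0 e 𝔪 n ((_ ≫ _) ≫ _) = x
  rw [Category.assoc, Iso.hom_inv_id_app, Category.comp_id, leg_psi]
  refine Eq.trans ?_ ((LinearMap.congr_fun hy (Submodule.Quotient.mk 1)).trans (one_smul A x))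
  rw [theta_dcls]
  exact congrArg (scCls (((gammaCx 𝔪).obj W).sc 0)) (Subtype.ext (Subtype.ext rfl))

/-- The residue field as `A/m^1`. -/
noncomputable def iota : sA 𝔪 1 ≅ (singleFunctor (ModuleCat.{u} A) 0).obj (ModuleCat.of A (A ⧸ 𝔪)) :=
  (singleFunctor (ModuleCat.{u} A) 0).mapIso (Submodule.quotEquivOfEq _ _ (pow_one 𝔪)).toModuleIso

omit [Module.Injective A (H0Γ I W)] in
theorem P.residue [DRing.HasRgammaI 𝔪] (hW : IsResidual W 0) (hn : Dual.IsNormalized A ω)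
    (hk : Nonempty ((dCx W (ModuleCat.of A (A ⧸ 𝔪))).homology 0 ≃ₗ[A] (A ⧸ 𝔪))) :
    P 𝔪 e ((singleFunctor (ModuleCat.{u} A) 0).obj (ModuleCat.of A (A ⧸ 𝔪))) := by
  intro k
  by_cases hk0 : k = 0
  · subst hk0
    let s := ((CategoryTheory.shiftFunctorZero (Dual.D A) ℤ).app
      ((singleFunctor (ModuleCat.{u} A) 0).obj (ModuleCat.of A (A ⧸ 𝔪)))).symm
    obtain ⟨g0⟩ := hk
    let g : ((singleFunctor (ModuleCat.{u} A) 0).obj (ModuleCat.of A (A ⧸ 𝔪)) ⟶ ω) ≃ₗ[A] A ⧸ 𝔪 :=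
      Linear.homCongr A (Iso.refl _) ((CategoryTheory.shiftFunctorZero (Dual.D A) ℤ).app ω).symm ≪≫ₗ
        homIso W e _ 0 ≪≫ₗ g0
    let φ0 := g.symm (Submodule.Quotient.mk 1)
    have hgen : ∀ φ, ∃ a : A, φ = a • φ0 := fun φ => by
      obtain ⟨a, ha⟩ := Submodule.Quotient.mk_surjective _ (g φ)
      refine ⟨a, g.injective ?_⟩
      rw [map_smul, LinearEquiv.apply_symm_apply, ← ha, ← Submodule.Quotient.mk_smul, smul_eq_mul, mul_one]
    have hkill : ∀ a ∈ 𝔪, a • φ0 = 0 := fun a ha => g.injective (by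
      rw [map_smul, map_zero, LinearEquiv.apply_symm_apply, ← Submodule.Quotient.mk_smul, smul_eq_mul, mul_one,
        (Submodule.Quotient.mk_eq_zero _).2 ha])
    refine ⟨SurjQ.of_iso 𝔪 e (fun l => ?_) s, InjQ.of_iso 𝔪 e (fun n v hv => ?_) s⟩
    · obtain ⟨ψ, hψ⟩ := L_surjective e hW 1 (l φ0) fun a ha => by
        rw [← map_smul, hkill a (by rwa [pow_one] at ha), map_zero]
      obtain ⟨c, hc⟩ := hgen (iota.inv ≫ ψ)
      refine ⟨1, c • iota.hom, LinearMap.ext fun φ => ?_⟩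
      obtain ⟨a, rfl⟩ := hgen φ
      rw [map_smul, map_smul, val_apply, Linear.smul_comp, ← Linear.comp_smul, ← hc, Iso.hom_inv_id_assoc, hψ]
    · refine Dies.of_restrict 𝔪 (h := Nat.le_succ n) ⟨n + 1, le_rfl, ?_⟩
      obtain ⟨f, hf⟩ := (singleFunctor (ModuleCat.{u} A) 0).map_surjective (sπ 𝔪 (Nat.le_succ n) ≫ v)
      obtain ⟨b, hb⟩ := Submodule.Quotient.mk_surjective _ (f.hom (Submodule.Quotient.mk 1))
      have hfac : sπ 𝔪 (Nat.le_succ n) ≫ v = b • (sπ 𝔪 (show 1 ≤ n + 1 by omega) ≫ iota.hom) := by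
        rw [← hf, sπ, iota, Functor.mapIso_hom, ← Functor.map_comp, ← Functor.map_smul]
        refine congrArg _ (ModuleCat.hom_ext (quot_ext (hb.symm.trans ?_)))
        show Submodule.Quotient.mk b = b • (Submodule.Quotient.mk (1 : A) : A ⧸ 𝔪)
        rw [← Submodule.Quotient.mk_smul, smul_eq_mul, mul_one]
      suffices h : sπ 𝔪 (Nat.le_succ n) ≫ v = 0 by rw [h, comp_zero]
      by_contra hne
      have hb' : IsUnit b := not_not.1 fun h => hne (by
        rw [← hf, show f = 0 from ModuleCat.hom_ext (quot_ext (hb.symm.trans ((Submodule.Quotient.mk_eq_zero _).2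
          ((IsLocalRing.mem_maximalIdeal b).2 h)))), Functor.map_zero])
      have h0 : val 𝔪 e _ (b • (sπ 𝔪 (show 1 ≤ n + 1 by omega) ≫ iota.hom)) φ0 = 0 := by
        rw [← hfac, val_sπ, hv, LinearMap.zero_apply]
      rw [val_smul, val_sπ, LinearMap.smul_apply, val_apply, hb'.smul_eq_zero] at h0
      have h1 : φ0 = 0 := (cancel_epi iota.hom).1 (((L_injective e hW 1) (h0.trans (map_zero _).symm)).trans comp_zero.symm)
      have h2 : (Submodule.Quotient.mk (1 : A) : A ⧸ 𝔪) = 0 := g.symm.map_eq_zero_iff.1 h1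
      exact (IsLocalRing.maximalIdeal.isMaximal A).ne_top ((Ideal.eq_top_iff_one _).2 ((Submodule.Quotient.mk_eq_zero _).1 h2))
  · have hz : Subsingleton ((((singleFunctor (ModuleCat.{u} A) 0).obj (ModuleCat.of A (A ⧸ 𝔪)))⟦k⟧) ⟶ ω) :=
      (shiftHomEquiv _ ω k).toEquiv.subsingleton_congr.1 (hn (-k) (neg_ne_zero.2 hk0))
    refine ⟨fun l => ⟨0, 0, LinearMap.ext fun φ => by rw [Subsingleton.elim φ 0, map_zero, map_zero]⟩,
      fun n v _ => (subsingleton_HD_iff 𝔪 _ k).1 ?_ n v⟩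
    haveI := RGamma.isIso_ε 𝔪 ((singleFunctor (ModuleCat.{u} A) 0).obj (ModuleCat.of A (A ⧸ 𝔪))) fun f hf q => by
      by_cases hq : q = 0
      · subst hq
        exact tors_of_linearEquiv ((singleFunctorCompHomologyFunctorIso (ModuleCat.{u} A) 0).app
          (ModuleCat.of A (A ⧸ 𝔪))).toLinearEquiv.symm fun x => ⟨1, by
            rw [pow_one]
            exact killed_quotient 𝔪 (pow_one 𝔪).le f (by rwa [pow_one]) x⟩
      · intro x
        haveI : Subsingleton (Dual.HD A ((singleFunctor (ModuleCat.{u} A) 0).obj (ModuleCat.of A (A ⧸ 𝔪))) q) :=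
          ModuleCat.subsingleton_of_isZero (by
            rcases lt_or_gt_of_ne hq with h | h
            · exact DerivedCategory.isZero_of_isGE _ 0 q h
            · exact DerivedCategory.isZero_of_isLE _ 0 q h)
        exact ⟨0, Subsingleton.elim _ _⟩
    refine ModuleCat.subsingleton_of_isZero (IsZero.of_iso ?_ ((DerivedCategory.homologyFunctor (ModuleCat.{u} A) k).mapIso
      (asIso ((DRing.RgammaIε 𝔪).app _))))
    rcases lt_or_gt_of_ne hk0 with h | h
    · exact DerivedCategory.isZero_of_isGE ((singleFunctor (ModuleCat.{u} A) 0).obj (ModuleCat.of A (A ⧸ 𝔪))) 0 k h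
    · exact DerivedCategory.isZero_of_isLE ((singleFunctor (ModuleCat.{u} A) 0).obj (ModuleCat.of A (A ⧸ 𝔪))) 0 k h

include e in
theorem finite_hom (hW : IsResidual W 0) (a : ℤ) (hzero : ∀ i, i < a → IsZero (W.X i))
    (hω : ∀ i, Module.Finite A (Dual.HD A ω i)) (N : ModuleCat.{u} A) [Module.Finite A N] (k : ℤ) :
    Module.Finite A ((((singleFunctor (ModuleCat.{u} A) 0).obj N)⟦k⟧) ⟶ ω) := by
  haveI := hW.injective
  haveI := finite_dual a hzero (finite_homology_model e hω) N (-k)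
  exact Module.Finite.equiv ((homIso W e N (-k)).symm ≪≫ₗ shiftHomEquiv _ ω k)

end base

end Groth.Agent.DualCx.LD

namespace Groth.Agent.DualCx

open LD Groth.Agent.LocCohLib Groth.Agent.RGamma

variable {A : Type u} [CommRing A] [IsLocalRing A] [IsNoetherianRing A]

local notation "𝔪" => IsLocalRing.maximalIdeal A

/-- Local duality, in the form of a bijective pairing. -/
theorem exists_pairing {ω : Dual.D A} (hω : Dual.IsDualizing A ω) (hn : Dual.IsNormalized A ω)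
    [DRing.HasRgammaI 𝔪] :
    ∃ (W : DRing.Cx A) (_ : W.IsKInjective) (e : DerivedCategory.Q.obj W ≅ ω), IsResidual W 0 ∧
      (∃ x : H0Γ 𝔪 W, x ≠ 0 ∧ ∀ a ∈ 𝔪, a • x = 0) ∧
      (∃ a b : ℤ, ∀ i, (i < a ∨ b < i) → IsZero (W.X i)) ∧
      (∀ (E : Type u) [AddCommGroup E] [Module A E] (f : IsLocalRing.ResidueField A →ₗ[A] E),
        InjHull.IsInjectiveHull f → Nonempty (H0Γ 𝔪 W ≃ₗ[A] E)) ∧
      ∀ M : Dual.D A, (∀ i : ℤ, Module.Finite A (Dual.HD A M i)) →
        (∃ a b : ℤ, ∀ i : ℤ, (i < a ∨ b < i) → Subsingleton (Dual.HD A M i)) → P 𝔪 e M := by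
  obtain ⟨W, a₀, b₀, hK, hW, hzero, ⟨e⟩, hk⟩ := exists_residual' hω hn
  haveI := hK
  haveI := hW.injective_H0
  refine ⟨W, hK, e, hW, ?_, ⟨a₀, b₀, hzero⟩, fun E _ _ f hf => hW.exists_hull hk f hf, fun M hfin ⟨a, b, hbd⟩ => ?_⟩
  · obtain ⟨g0⟩ := hk
    obtain ⟨φ, hφ⟩ : ∃ φ : (singleFunctor (ModuleCat.{u} A) 0).obj (ModuleCat.of A (A ⧸ 𝔪)) ⟶ ω, φ ≠ 0 := by
      by_contra h
      push Not at h
      have h1 : ∀ x : A ⧸ 𝔪, x = 0 := fun x => by
        obtain ⟨φ, hφ⟩ := (Linear.homCongr A (Iso.refl _) ((CategoryTheory.shiftFunctorZero (Dual.D A) ℤ).app ω).symm ≪≫ₗ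
          homIso W e _ 0 ≪≫ₗ g0).surjective x
        rw [← hφ, h φ, map_zero]
      exact (IsLocalRing.maximalIdeal.isMaximal A).ne_top ((Ideal.eq_top_iff_one _).2
        ((Submodule.Quotient.mk_eq_zero _).1 (h1 (Submodule.Quotient.mk 1))))
    refine ⟨L 𝔪 e 1 (iota.hom ≫ φ), fun h => hφ ((cancel_epi iota.hom).1
      (((L_injective e hW 1) (h.trans (map_zero _).symm)).trans comp_zero.symm)), fun c hc => ?_⟩
    rw [← map_smul, smul_sA 𝔪 (by rwa [pow_one]), map_zero]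
  · have hmod : ∀ (N : Type u) [AddCommGroup N] [Module A N] [Module.Finite A N],
        P 𝔪 e ((singleFunctor (ModuleCat.{u} A) 0).obj (ModuleCat.of A N)) := by
      intro N _ _ _
      refine devissage (fun (N : Type u) (_ : AddCommGroup N) (_ : Module A N) (_ : Module.Finite A N) =>
        P 𝔪 e ((singleFunctor (ModuleCat.{u} A) 0).obj (ModuleCat.of A N))) ?_ ?_ ?_ N
      · intro N _ _ _ _
        exact P.of_isZero 𝔪 e (Functor.map_isZero _ (ModuleCat.isZero_of_subsingleton _))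
      · intro N₁ _ _ _ N₂ _ _ _ N₃ _ _ _ f g hf hg hfg h₁ h₃
        let S : ShortComplex (ModuleCat.{u} A) := ShortComplex.mk (ModuleCat.ofHom f) (ModuleCat.ofHom g)
          (ModuleCat.hom_ext hfg.linearMap_comp_eq_zero)
        have hS : S.ShortExact :=
          { exact := (ShortComplex.ShortExact.moduleCat_exact_iff_function_exact S).2 hfg
            mono_f := (ModuleCat.mono_iff_injective _).2 hf
            epi_g := (ModuleCat.epi_iff_surjective _).2 hg }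
        exact P.mid 𝔪 e hS.singleTriangle_distinguished h₁ h₃
      · intro p hp hind
        by_cases hpm : p = 𝔪
        · subst hpm
          exact P.residue e hW hn hk
        · obtain ⟨x, hxm, hxp⟩ := SetLike.exists_of_lt ((IsLocalRing.le_maximalIdeal hp.ne_top).lt_of_ne hpm)
          let f : (A ⧸ p) →ₗ[A] A ⧸ p := x • LinearMap.id
          have hf : Function.Injective f := (injective_iff_map_eq_zero _).2 fun v hv => by
            obtain ⟨r, rfl⟩ := Submodule.Quotient.mk_surjective p v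
            have h : x * r ∈ p := (Submodule.Quotient.mk_eq_zero p).1 hv
            exact (Submodule.Quotient.mk_eq_zero p).2 ((hp.mem_or_mem h).resolve_left hxp)
          let S : ShortComplex (ModuleCat.{u} A) := ShortComplex.mk (x • 𝟙 (ModuleCat.of A (A ⧸ p)))
            (ModuleCat.ofHom (LinearMap.range f).mkQ)
            (ModuleCat.hom_ext (LinearMap.ext fun v => (Submodule.Quotient.mk_eq_zero _).2 ⟨v, rfl⟩))
          have hS : S.ShortExact :=
            { exact := (ShortComplex.ShortExact.moduleCat_exact_iff_function_exact S).2 fun v =>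
                ⟨fun hv => (Submodule.Quotient.mk_eq_zero _).1 hv, by
                  rintro ⟨w, rfl⟩
                  exact (Submodule.Quotient.mk_eq_zero _).2 ⟨w, rfl⟩⟩
              mono_f := (ModuleCat.mono_iff_injective _).2 hf
              epi_g := (ModuleCat.epi_iff_surjective _).2 (Submodule.mkQ_surjective _) }
          have hQ : P 𝔪 e ((singleFunctor (ModuleCat.{u} A) 0).obj (ModuleCat.of A ((A ⧸ p) ⧸ LinearMap.range f))) := by
            refine hind (p ⊔ Ideal.span {x}) (lt_of_le_of_ne le_sup_left fun h => hxp (h.symm ▸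
              Ideal.mem_sup_right (Ideal.mem_span_singleton_self x))) _ (sup_le ?_ ?_)
            · intro a ha
              refine Module.mem_annihilator.2 fun v => ?_
              obtain ⟨v, rfl⟩ := Submodule.Quotient.mk_surjective _ v
              obtain ⟨r, rfl⟩ := Submodule.Quotient.mk_surjective p v
              rw [← Submodule.Quotient.mk_smul, ← Submodule.Quotient.mk_smul, smul_eq_mul,
                (Submodule.Quotient.mk_eq_zero p).2 (p.mul_mem_right r ha), Submodule.Quotient.mk_zero]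
            · rw [Ideal.span_singleton_le_iff_mem]
              refine Module.mem_annihilator.2 fun v => ?_
              obtain ⟨v, rfl⟩ := Submodule.Quotient.mk_surjective _ v
              exact (Submodule.Quotient.mk_eq_zero _).2 ⟨v, rfl⟩
          have hT : Triangle.mk ((singleFunctor (ModuleCat.{u} A) 0).map (x • 𝟙 (ModuleCat.of A (A ⧸ p))))
              ((singleFunctor (ModuleCat.{u} A) 0).map S.g) hS.singleδ ∈ distTriang (Dual.D A) :=
            hS.singleTriangle_distinguished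
          rw [Functor.map_smul, CategoryTheory.Functor.map_id] at hT
          exact P.of_smul_triangle 𝔪 e hxm _ _ hT hQ
            (finite_hom e hW a₀ (fun i hi => hzero i (Or.inl hi)) hω.finite_cohomology _)
            (exists_pow_smul_eq_zero 𝔪 W)
    refine der_devissage (P 𝔪 e) (fun f h => h.of_iso 𝔪 e f) (fun h => P.of_isZero 𝔪 e h)
      (fun T hT h₁ h₃ => P.mid 𝔪 e hT h₁ h₃) (b + 1 - a).toNat a M (fun i hi => ?_) fun i _ _ => ?_
    · haveI := hbd i (by omega)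
      exact ModuleCat.isZero_of_subsingleton _
    · haveI := hfin i
      exact P.of_iso 𝔪 e (((CategoryTheory.shiftFunctor (Dual.D A) (-i)).mapIso (Iso.refl _)) ≪≫
        (PCohLib.singleShiftIso (-i) i 0 (by omega) (ModuleCat.of A (Dual.HD A M i)))) ((hmod (Dual.HD A M i)).shift 𝔪 e (-i))

/-- Local duality: vanishing. -/
theorem local_duality_vanishing {ω : Dual.D A} (hω : Dual.IsDualizing A ω) (hn : Dual.IsNormalized A ω)
    [DRing.HasRgammaI 𝔪] (M : Dual.D A) (hfin : ∀ i : ℤ, Module.Finite A (Dual.HD A M i))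
    (hbd : ∃ a b : ℤ, ∀ i : ℤ, (i < a ∨ b < i) → Subsingleton (Dual.HD A M i)) (k : ℤ) :
    Subsingleton (M ⟶ ω⟦-k⟧) ↔ Subsingleton (Dual.HD A ((DRing.RgammaI 𝔪).obj M) k) := by
  obtain ⟨W, hK, e, hW, ⟨x0, hx0, hx0'⟩, -, -, hP⟩ := exists_pairing hω hn
  haveI := hK
  haveI := hW.injective_H0
  obtain ⟨hs, hi⟩ := hP M hfin hbd k
  rw [subsingleton_HD_iff, (shiftHomEquiv M ω k).toEquiv.subsingleton_congr]
  refine ⟨fun h n v => hi n v (LinearMap.ext fun φ => by rw [Subsingleton.elim φ 0, map_zero, map_zero]), fun h => ?_⟩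
  refine subsingleton_of_forall_eq 0 fun φ => ?_
  by_contra hφ
  obtain ⟨l, hl⟩ := exists_extend (E := H0Γ 𝔪 W) (LinearMap.toSpanSingleton A _ φ) (LinearMap.toSpanSingleton A _ x0)
    fun a ha => hx0' a ((IsLocalRing.mem_maximalIdeal a).2 fun hu => hφ (hu.smul_eq_zero.1 ha))
  obtain ⟨n, v, hv⟩ := hs l
  have h1 : l = 0 := hv ▸ val_eq_zero_of_dies 𝔪 e (h n v)
  refine hx0 ?_
  have h2 := hl 1
  rw [h1, LinearMap.toSpanSingleton_apply_one, LinearMap.toSpanSingleton_apply_one, LinearMap.zero_apply] at h2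
  exact h2.symm

end Groth.Agent.DualCx
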