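import Groth.Agent.DualCx.Local
import Groth.Agent.RGamma.HDI
import Groth.Agent.S0302
import Mathlib.RingTheory.Filtration

/-!
# Torsion in a residual complex
-/

set_option autoImplicit false
set_option linter.style.haveILetI false

open CategoryTheory CategoryTheory.Limits
open scoped Pointwise

universe u

attribute [local instance] HasDerivedCategory.standard

namespace Groth.Agent.DualCx

open Groth.Agent.LocCohLib Groth.Agent.RGamma

variable {A : Type u} [CommRing A]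

theorem hmap_add (W : DRing.Cx A) {N N' : ModuleCat.{u} A} (f g : N ⟶ N') (i : ℤ) :
    hmap W (f + g) i = hmap W f i + hmap W g i := by
  refine LinearMap.ext fun x => ?_
  obtain ⟨z, rfl⟩ := dcls_surjective W N' i x
  rw [LinearMap.add_apply, hmap_dcls, hmap_dcls, hmap_dcls, ← map_add]
  exact congrArg _ (Subtype.ext (LinearMap.ext fun v => map_add z.1 (f.hom v) (g.hom v)))

theorem hmap_sum (W : DRing.Cx A) {ι : Type*} (s : Finset ι) {N N' : ModuleCat.{u} A} (f : ι → (N ⟶ N')) (i : ℤ) :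
    hmap W (∑ t ∈ s, f t) i = ∑ t ∈ s, hmap W (f t) i :=
  map_sum (AddMonoidHom.mk' (fun φ : N ⟶ N' => hmap W φ i) (fun φ ψ => hmap_add W φ ψ i)) f s

variable (I : Ideal A) (W : DRing.Cx A)

/-- The degree `0` cohomology of the torsion subcomplex. -/
noncomputable abbrev H0Γ : ModuleCat.{u} A := ((gammaCx I).obj W).homology 0

/-- A cycle with torsion values. -/
noncomputable def tz {N : ModuleCat.{u} A} {n : ℕ} (hN : ∀ a ∈ I ^ n, ∀ x : N, a • x = 0) :
    cyc W 0 N →ₗ[A] (N →ₗ[A] H0Γ I W) where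
  toFun z := scCls (((gammaCx I).obj W).sc 0) ∘ₗ LinearMap.codRestrict _
    (LinearMap.codRestrict (DRing.torsionSub I (W.X 0)) z.1 fun x => ⟨n, fun a ha => by
      rw [← map_smul, hN a ha, map_zero]⟩) fun x => by
      rw [LinearMap.mem_ker]
      have h : ∀ b, b = (0 : ℤ) + 1 → ∀ v : DRing.torsionSub I (W.X 0), (W.d 0 (0 + 1)).hom v.1 = 0 →
          ((gammaCx I).obj W).d 0 b v = 0 := fun b hb v hv => by
        subst hb
        exact Subtype.ext hv
      exact h _ (CochainComplex.next ℤ 0) _ (cyc_apply W 0 z x)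
  map_add' z z' := LinearMap.ext fun x => by
    simp only [LinearMap.comp_apply, LinearMap.add_apply]
    exact (congrArg (scCls (((gammaCx I).obj W).sc 0)) (Subtype.ext (Subtype.ext (show (z + z').1 x = z.1 x + z'.1 x from rfl)))).trans
      (map_add (scCls (((gammaCx I).obj W).sc 0)) _ _)
  map_smul' a z := LinearMap.ext fun x => by
    simp only [LinearMap.comp_apply, LinearMap.smul_apply, RingHom.id_apply]
    exact (congrArg (scCls (((gammaCx I).obj W).sc 0)) (Subtype.ext (Subtype.ext (show (a • z).1 x = a • z.1 x from rfl)))).trans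
      (map_smul (scCls (((gammaCx I).obj W).sc 0)) a _)

theorem ker_dcls_le {N : ModuleCat.{u} A} {n : ℕ} (hN : ∀ a ∈ I ^ n, ∀ x : N, a • x = 0) :
    LinearMap.ker (dcls W N 0) ≤ LinearMap.ker (tz I W hN) := fun z hz => by
  obtain ⟨w, hw⟩ := (dcls_eq_zero_iff W N 0 z).1 hz
  refine LinearMap.ext fun x => (scCls_eq_zero _).2 ?_
  show ∃ y, ((gammaCx I).obj W).d ((ComplexShape.up ℤ).prev 0) 0 y = _
  rw [CochainComplex.prev]
  exact ⟨⟨w x, n, fun a ha => by rw [← map_smul, hN a ha, map_zero]⟩, Subtype.ext (hw x).symm⟩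

/-- The comparison map on torsion modules. -/
noncomputable def theta {N : ModuleCat.{u} A} {n : ℕ} (hN : ∀ a ∈ I ^ n, ∀ x : N, a • x = 0) :
    (dCx W N).homology 0 →ₗ[A] (N →ₗ[A] H0Γ I W) :=
  Submodule.liftQ _ (tz I W hN) (ker_dcls_le I W hN) ∘ₗ
    (LinearMap.quotKerEquivOfSurjective _ (dcls_surjective W N 0)).symm.toLinearMap

theorem theta_dcls {N : ModuleCat.{u} A} {n : ℕ} (hN : ∀ a ∈ I ^ n, ∀ x : N, a • x = 0) (z : cyc W 0 N) :
    theta I W hN (dcls W N 0 z) = tz I W hN z := by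
  have h : (LinearMap.quotKerEquivOfSurjective _ (dcls_surjective W N 0)).symm (dcls W N 0 z) =
      Submodule.Quotient.mk z := by
    rw [LinearEquiv.symm_apply_eq]
    rfl
  exact (congrArg (Submodule.liftQ _ (tz I W hN) (ker_dcls_le I W hN)) h).trans rfl

theorem theta_natural {M N : ModuleCat.{u} A} {n k : ℕ} (hM : ∀ a ∈ I ^ k, ∀ x : M, a • x = 0)
    (hN : ∀ a ∈ I ^ n, ∀ x : N, a • x = 0) (f : M ⟶ N) (y : (dCx W N).homology 0) :
    theta I W hM (hmap W f 0 y) = theta I W hN y ∘ₗ f.hom := by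
  obtain ⟨z, rfl⟩ := dcls_surjective W N 0 y
  rw [hmap_dcls, theta_dcls, theta_dcls]
  exact LinearMap.ext fun x => congrArg (scCls _) (Subtype.ext (Subtype.ext rfl))

/-- Cycles of the torsion subcomplex come from cyclic modules. -/
theorem exists_cls (q : ℤ) (x : ((gammaCx I).obj W).homology q) :
    ∃ (n : ℕ) (z : cyc W q (ModuleCat.of A (A ⧸ I ^ n))), cls W q I n z = x := by
  obtain ⟨⟨⟨v, n, hn⟩, hv⟩, rfl⟩ := scCls_surjective (((gammaCx I).obj W).sc q) x
  have hd : (W.d q (q + 1)).hom v = 0 := by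
    have h : ((gammaCx I).obj W).d q ((ComplexShape.up ℤ).next q) ⟨v, n, hn⟩ = 0 := hv
    rw [CochainComplex.next] at h
    exact congrArg Subtype.val h
  let z0 : (A ⧸ I ^ n) →ₗ[A] W.X q := Submodule.liftQ (I ^ n) (LinearMap.toSpanSingleton A _ v)
    fun a ha => by rw [LinearMap.mem_ker, LinearMap.toSpanSingleton_apply]; exact hn a ha
  refine ⟨n, ⟨z0, LinearMap.ext fun w => by
    obtain ⟨a, rfl⟩ := Submodule.Quotient.mk_surjective _ w
    show (W.d q (q + 1)).hom (a • v) = 0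
    rw [map_smul, hd, smul_zero]⟩, congrArg (scCls _) (Subtype.ext (Subtype.ext ?_))⟩
  show (1 : A) • v = v
  rw [one_smul]

theorem killed_quotient {n : ℕ} {J : Ideal A} (hJ : I ^ n ≤ J) (a : A) (ha : a ∈ I ^ n) (x : A ⧸ J) : a • x = 0 := by
  obtain ⟨b, rfl⟩ := Submodule.Quotient.mk_surjective J x
  rw [← Submodule.Quotient.mk_smul, Submodule.Quotient.mk_eq_zero]
  exact J.mul_mem_right b (hJ ha)

theorem killed_pi {n k : ℕ} {J : Ideal A} (hJ : I ^ n ≤ J) (a : A) (ha : a ∈ I ^ n) (x : Fin k → A ⧸ J) : a • x = 0 :=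
  funext fun t => killed_quotient I hJ a ha (x t)

theorem exists_cls_eq_theta (x : H0Γ I W) : ∃ (l : ℕ) (z : (dCx W (ModuleCat.of A (A ⧸ I ^ l))).homology 0),
    theta I W (killed_quotient I le_rfl) z (Submodule.Quotient.mk 1) = x := by
  obtain ⟨l, z, rfl⟩ := exists_cls I W 0 x
  refine ⟨l, dcls W _ 0 z, ?_⟩
  rw [theta_dcls]
  exact congrArg (scCls _) (Subtype.ext (Subtype.ext rfl))

theorem exists_pow_smul_eq_zero (x : H0Γ I W) : ∃ n : ℕ, ∀ a ∈ I ^ n, a • x = 0 := by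
  obtain ⟨l, z, rfl⟩ := exists_cls_eq_theta I W x
  exact ⟨l, fun a ha => by rw [← map_smul, killed_quotient I le_rfl a ha, map_zero]⟩

end Groth.Agent.DualCx

namespace Groth.Agent.DualCx

open Groth.Agent.LocCohLib Groth.Agent.RGamma

variable {A : Type u} [CommRing A] [IsLocalRing A] [IsNoetherianRing A] {W : DRing.Cx A}

local notation "𝔪" => IsLocalRing.maximalIdeal A

theorem IsResidual.subsingleton_killed (hW : IsResidual W 0) (N : Type u) [AddCommGroup N] [Module A N]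
    [Module.Finite A N] (n : ℕ) (hN : ∀ a ∈ 𝔪 ^ n, ∀ x : N, a • x = 0) (i : ℤ) (hi : i ≠ 0) :
    Subsingleton (EH W N i) := by
  rcases lt_or_gt_of_ne hi with h | h
  · refine hW.lower N 0 (supportDim_le_iff.2 fun q hq => ?_) i (by omega)
    rw [Module.mem_support_iff_of_finite] at hq
    have hle : 𝔪 ^ n ≤ q.asIdeal := le_trans (fun a ha => Module.mem_annihilator.2 (hN a ha)) hq
    rw [← (IsLocalRing.maximalIdeal.isMaximal A).eq_of_le q.isPrime.ne_top (q.isPrime.le_of_pow_le hle),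
      ringKrullDim_eq_zero_of_isField ((Ideal.Quotient.maximal_ideal_iff_isField_quotient _).1 inferInstance)]
    simp
  · exact hW.upper N i h

theorem IsResidual.pull_injective_of_surjective (hW : IsResidual W 0) {N N' : Type u} [AddCommGroup N] [Module A N]
    [Module.Finite A N] [AddCommGroup N'] [Module A N'] (f : N →ₗ[A] N') (hf : Function.Surjective f)
    (n : ℕ) (hN : ∀ a ∈ 𝔪 ^ n, ∀ x : N, a • x = 0) : Function.Injective (pull W f 0) := by
  haveI := hW.injective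
  refine injective_of_left_zero (f := (LinearMap.ker f).subtype) Subtype.val_injective hf (LinearMap.exact_subtype_ker_map f)
    (-1) 0 rfl fun x => ?_
  haveI := hW.subsingleton_killed (LinearMap.ker f) n (fun a ha v => Subtype.ext (hN a ha v.1)) (-1) (by omega)
  rw [Subsingleton.elim x 0, map_zero]

theorem IsResidual.theta_injective_quot (hW : IsResidual W 0) {n : ℕ} {J : Ideal A} (hJ : 𝔪 ^ n ≤ J) :
    Function.Injective (theta 𝔪 W (N := ModuleCat.of A (A ⧸ J)) (killed_quotient 𝔪 hJ)) := by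
  refine (injective_iff_map_eq_zero _).2 fun y hy => ?_
  obtain ⟨z, rfl⟩ := dcls_surjective W _ 0 y
  rw [theta_dcls] at hy
  obtain ⟨w, hw⟩ := (scCls_eq_zero _).1 (LinearMap.congr_fun hy (Submodule.Quotient.mk (1 : A)))
  have h : ∃ v : DRing.torsionSub 𝔪 (W.X (0 - 1)), (W.d (0 - 1) 0).hom v.1 = z.1 (Submodule.Quotient.mk (1 : A)) := by
    have hw' : ∃ y, ((gammaCx 𝔪).obj W).d ((ComplexShape.up ℤ).prev 0) 0 y = _ := ⟨w, hw⟩
    rw [CochainComplex.prev] at hw'
    obtain ⟨v, hv⟩ := hw'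
    exact ⟨v, congrArg Subtype.val hv⟩
  obtain ⟨⟨v, l, hl⟩, hv⟩ := h
  have hle : 𝔪 ^ max n l ≤ J := (Ideal.pow_le_pow_right (le_max_left n l)).trans hJ
  let π : ModuleCat.of A (A ⧸ 𝔪 ^ max n l) ⟶ ModuleCat.of A (A ⧸ J) := ModuleCat.ofHom (Submodule.factor hle)
  refine (hW.pull_injective_of_surjective (Submodule.factor hle) (Submodule.factor_surjective _) (max n l)
    (killed_quotient 𝔪 le_rfl)) (Eq.trans ?_ (map_zero _).symm)
  show hmap W π 0 (dcls W _ 0 z) = 0
  rw [hmap_dcls]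
  refine (dcls_eq_zero_iff W _ 0 _).2 ⟨Submodule.liftQ _ (LinearMap.toSpanSingleton A _ v) fun a ha => ?_, fun x => ?_⟩
  · rw [LinearMap.mem_ker, LinearMap.toSpanSingleton_apply]
    exact hl a (Ideal.pow_le_pow_right (le_max_right n l) ha)
  · obtain ⟨a, rfl⟩ := Submodule.Quotient.mk_surjective _ x
    show z.1 (Submodule.Quotient.mk a) = (W.d (0 - 1) 0).hom (a • v)
    rw [map_smul, hv, ← map_smul, ← Submodule.Quotient.mk_smul, smul_eq_mul, mul_one]

theorem eq_zero_of_single {W : DRing.Cx A} {R : ModuleCat.{u} A} {k : ℕ} (y : (dCx W (ModuleCat.of A (Fin k → R))).homology 0)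
    (h : ∀ t, hmap W (ModuleCat.ofHom (LinearMap.single A (fun _ : Fin k => R) t)) 0 y = 0) : y = 0 := by
  have hid : (∑ t : Fin k, ModuleCat.ofHom (LinearMap.proj (R := A) (φ := fun _ : Fin k => R) t) ≫
      ModuleCat.ofHom (LinearMap.single A (fun _ : Fin k => R) t)) = 𝟙 (ModuleCat.of A (Fin k → R)) :=
    ModuleCat.hom_ext (LinearMap.ext fun x => by
      rw [ModuleCat.hom_sum, LinearMap.sum_apply]
      exact Finset.univ_sum_single x)
  have h1 := congrArg (fun φ => hmap W φ 0 y) hid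
  simp only [hmap_sum, LinearMap.sum_apply, hmap_comp, LinearMap.comp_apply, h, map_zero, Finset.sum_const_zero] at h1
  exact (h1.trans (by
    show HomologicalComplex.homologyMap (dmap W (𝟙 _)) 0 y = y
    rw [dmap_id, HomologicalComplex.homologyMap_id]
    rfl)).symm

theorem quot_ext {J : Ideal A} {M : Type u} [AddCommGroup M] [Module A M] {f g : (A ⧸ J) →ₗ[A] M}
    (h : f (Submodule.Quotient.mk 1) = g (Submodule.Quotient.mk 1)) : f = g :=
  Submodule.linearMap_qext _ (LinearMap.ext_ring h)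

theorem IsResidual.theta_bijective_quot (hW : IsResidual W 0) {n : ℕ} {J : Ideal A} (hJ : 𝔪 ^ n ≤ J) :
    Function.Bijective (theta 𝔪 W (N := ModuleCat.of A (A ⧸ J)) (killed_quotient 𝔪 hJ)) := by
  haveI := hW.injective
  refine ⟨hW.theta_injective_quot hJ, fun φ => ?_⟩
  obtain ⟨l, y, hy⟩ := exists_cls_eq_theta 𝔪 W (φ (Submodule.Quotient.mk (1 : A)))
  let L := max n l
  have hle : 𝔪 ^ L ≤ J := (Ideal.pow_le_pow_right (le_max_left n l)).trans hJ
  let y' := hmap W (ModuleCat.ofHom (Submodule.factor (Ideal.pow_le_pow_right (le_max_right n l) : 𝔪 ^ L ≤ 𝔪 ^ l))) 0 y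
  have hy' : theta 𝔪 W (killed_quotient 𝔪 le_rfl) y' (Submodule.Quotient.mk (1 : A)) = φ (Submodule.Quotient.mk (1 : A)) :=
    (LinearMap.congr_fun (theta_natural 𝔪 W (killed_quotient 𝔪 le_rfl) (killed_quotient 𝔪 le_rfl) _ y) _).trans hy
  let π : (A ⧸ 𝔪 ^ L) →ₗ[A] A ⧸ J := Submodule.factor hle
  obtain ⟨r, s, hs⟩ := Module.Finite.exists_fin' A (LinearMap.ker π)
  let sq : (Fin r → A ⧸ 𝔪 ^ L) →ₗ[A] LinearMap.ker π := ∑ t, (Submodule.liftQ (𝔪 ^ L)
    (LinearMap.toSpanSingleton A _ (s (Pi.single t 1))) fun a ha => Subtype.ext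
      (killed_quotient 𝔪 le_rfl a ha _)) ∘ₗ LinearMap.proj t
  have hsq : Function.Surjective sq := fun v => by
    obtain ⟨c, rfl⟩ := hs v
    refine ⟨fun t => Submodule.Quotient.mk (c t), ?_⟩
    rw [LinearMap.sum_apply]
    simp only [LinearMap.comp_apply, LinearMap.proj_apply, Submodule.liftQ_apply, LinearMap.toSpanSingleton_apply]
    conv_rhs => rw [← Finset.univ_sum_single c, map_sum]
    refine Finset.sum_congr rfl fun t _ => ?_
    rw [← map_smul, ← Pi.single_smul, smul_eq_mul, mul_one]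
  have h0 : pull W (LinearMap.ker π).subtype 0 y' = 0 := by
    refine (hW.pull_injective_of_surjective sq hsq L (killed_pi 𝔪 le_rfl)) (Eq.trans ?_ (map_zero _).symm)
    refine eq_zero_of_single (R := ModuleCat.of A (A ⧸ 𝔪 ^ L)) _ fun t => hW.theta_injective_quot le_rfl (Eq.trans ?_ (map_zero _).symm)
    show theta 𝔪 W (N := ModuleCat.of A (A ⧸ 𝔪 ^ L)) (killed_quotient 𝔪 le_rfl)
      (hmap W (ModuleCat.ofHom (LinearMap.single A (fun _ : Fin r => A ⧸ 𝔪 ^ L) t)) 0
        (hmap W (ModuleCat.ofHom sq) 0 (hmap W (ModuleCat.ofHom (LinearMap.ker π).subtype) 0 y'))) = 0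
    rw [show hmap W (ModuleCat.ofHom (LinearMap.single A (fun _ : Fin r => A ⧸ 𝔪 ^ L) t)) 0
        (hmap W (ModuleCat.ofHom sq) 0 (hmap W (ModuleCat.ofHom (LinearMap.ker π).subtype) 0 y')) =
      hmap W (ModuleCat.ofHom (LinearMap.single A (fun _ : Fin r => A ⧸ 𝔪 ^ L) t) ≫
        ModuleCat.ofHom sq ≫ ModuleCat.ofHom (LinearMap.ker π).subtype) 0 y' by rw [hmap_comp, hmap_comp]; rfl]
    refine (theta_natural 𝔪 W (killed_quotient 𝔪 le_rfl) (killed_quotient 𝔪 le_rfl) _ y').trans ?_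
    refine quot_ext ?_
    obtain ⟨a, ha⟩ := Submodule.Quotient.mk_surjective _ ((LinearMap.ker π).subtype (sq (Pi.single t (Submodule.Quotient.mk (1 : A)))))
    show theta 𝔪 W (killed_quotient 𝔪 le_rfl) y' ((LinearMap.ker π).subtype (sq (Pi.single t (Submodule.Quotient.mk (1 : A))))) = 0
    have haJ : a ∈ J := by
      have h := (sq (Pi.single t (Submodule.Quotient.mk (1 : A)))).2
      rw [LinearMap.mem_ker, show (sq (Pi.single t (Submodule.Quotient.mk (1 : A)))).1 = Submodule.Quotient.mk a from ha.symm] at h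
      exact (Submodule.Quotient.mk_eq_zero J).1 h
    rw [← ha, show (Submodule.Quotient.mk a : A ⧸ 𝔪 ^ L) = a • Submodule.Quotient.mk 1 by
      rw [← Submodule.Quotient.mk_smul, smul_eq_mul, mul_one]]
    refine (map_smul _ a _).trans ((congrArg (a • ·) hy').trans ?_)
    rw [← map_smul, ← Submodule.Quotient.mk_smul, smul_eq_mul, mul_one, (Submodule.Quotient.mk_eq_zero J).2 haJ, map_zero]
  obtain ⟨x, hx⟩ := (pull_exact (W := W) Subtype.val_injective (Submodule.factor_surjective hle)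
    (LinearMap.exact_subtype_ker_map π) 0 y').1 h0
  refine ⟨x, quot_ext ?_⟩
  rw [← hy', ← hx]
  exact (LinearMap.congr_fun (theta_natural 𝔪 W (M := ModuleCat.of A (A ⧸ 𝔪 ^ L)) (N := ModuleCat.of A (A ⧸ J))
    (killed_quotient 𝔪 le_rfl) (killed_quotient 𝔪 hJ) (ModuleCat.ofHom π) x) (Submodule.Quotient.mk 1)).symm

theorem IsResidual.theta_bijective_pi (hW : IsResidual W 0) (k n : ℕ) :
    Function.Bijective (theta 𝔪 W (N := ModuleCat.of A (Fin k → A ⧸ 𝔪 ^ n)) (killed_pi 𝔪 (n := n) le_rfl)) := by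
  refine ⟨(injective_iff_map_eq_zero _).2 fun y hy => eq_zero_of_single (R := ModuleCat.of A (A ⧸ 𝔪 ^ n)) y fun t =>
    hW.theta_injective_quot le_rfl (Eq.trans ?_ (map_zero _).symm), fun φ => ?_⟩
  · rw [theta_natural 𝔪 W (killed_quotient 𝔪 le_rfl) (killed_pi 𝔪 (n := n) le_rfl)]
    erw [hy]
    exact LinearMap.zero_comp _
  · have hsurj := fun t => (hW.theta_bijective_quot (le_refl (𝔪 ^ n))).2
      (φ ∘ₗ LinearMap.single A (fun _ : Fin k => A ⧸ 𝔪 ^ n) t)
    choose y hy using hsurj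
    refine ⟨∑ t, hmap W (ModuleCat.ofHom (LinearMap.proj (R := A) (φ := fun _ : Fin k => A ⧸ 𝔪 ^ n) t)) 0 (y t),
      LinearMap.ext fun x => ?_⟩
    rw [map_sum, LinearMap.sum_apply]
    conv_rhs => rw [← Finset.univ_sum_single x, map_sum]
    refine Finset.sum_congr rfl fun t _ => ?_
    rw [theta_natural 𝔪 W (killed_pi 𝔪 le_rfl) (killed_quotient 𝔪 le_rfl), hy]
    rfl

/-- Duality for modules killed by a power of the maximal ideal. -/
theorem IsResidual.theta_bijective (hW : IsResidual W 0) (N : Type u) [AddCommGroup N] [Module A N] [Module.Finite A N]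
    {n : ℕ} (hN : ∀ a ∈ 𝔪 ^ n, ∀ x : N, a • x = 0) :
    Function.Bijective (theta 𝔪 W (N := ModuleCat.of A N) hN) := by
  haveI := hW.injective
  obtain ⟨r, s, hs⟩ := Module.Finite.exists_fin' A N
  let p : (Fin r → A ⧸ 𝔪 ^ n) →ₗ[A] N := ∑ t, (Submodule.liftQ (𝔪 ^ n)
    (LinearMap.toSpanSingleton A _ (s (Pi.single t 1))) fun a ha => hN a ha _) ∘ₗ LinearMap.proj t
  have hp : Function.Surjective p := fun v => by
    obtain ⟨c, rfl⟩ := hs v
    refine ⟨fun t => Submodule.Quotient.mk (c t), ?_⟩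
    rw [LinearMap.sum_apply]
    simp only [LinearMap.comp_apply, LinearMap.proj_apply, Submodule.liftQ_apply, LinearMap.toSpanSingleton_apply]
    conv_rhs => rw [← Finset.univ_sum_single c, map_sum]
    refine Finset.sum_congr rfl fun t _ => ?_
    rw [← map_smul, ← Pi.single_smul, smul_eq_mul, mul_one]
  have hpinj := hW.pull_injective_of_surjective p hp n (killed_pi 𝔪 le_rfl)
  have hnat : ∀ x, theta 𝔪 W (killed_pi 𝔪 le_rfl) (pull W p 0 x) = theta 𝔪 W (N := ModuleCat.of A N) hN x ∘ₗ p :=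
    theta_natural 𝔪 W (killed_pi 𝔪 le_rfl) hN (ModuleCat.ofHom p)
  refine ⟨(injective_iff_map_eq_zero _).2 fun x hx => hpinj (Eq.trans ?_ (map_zero _).symm), fun φ => ?_⟩
  · refine (hW.theta_bijective_pi r n).1 ((hnat x).trans (Eq.trans ?_ (map_zero _).symm))
    rw [hx]
    exact LinearMap.zero_comp p
  obtain ⟨y, hy⟩ := (hW.theta_bijective_pi r n).2 (φ ∘ₗ p)
  haveI : Module.Finite A (LinearMap.ker p) := Module.Finite.of_fg (IsNoetherian.noetherian _)
  obtain ⟨r', s', hs'⟩ := Module.Finite.exists_fin' A (LinearMap.ker p)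
  let q : (Fin r' → A ⧸ 𝔪 ^ n) →ₗ[A] LinearMap.ker p := ∑ t, (Submodule.liftQ (𝔪 ^ n)
    (LinearMap.toSpanSingleton A _ (s' (Pi.single t 1))) fun a ha => Subtype.ext (killed_pi 𝔪 le_rfl a ha _)) ∘ₗ
      LinearMap.proj t
  have hq : Function.Surjective q := fun v => by
    obtain ⟨c, rfl⟩ := hs' v
    refine ⟨fun t => Submodule.Quotient.mk (c t), ?_⟩
    rw [LinearMap.sum_apply]
    simp only [LinearMap.comp_apply, LinearMap.proj_apply, Submodule.liftQ_apply, LinearMap.toSpanSingleton_apply]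
    conv_rhs => rw [← Finset.univ_sum_single c, map_sum]
    refine Finset.sum_congr rfl fun t _ => ?_
    rw [← map_smul, ← Pi.single_smul, smul_eq_mul, mul_one]
  have h0 : pull W (LinearMap.ker p).subtype 0 y = 0 := by
    refine (hW.pull_injective_of_surjective q hq n (killed_pi 𝔪 le_rfl)) (Eq.trans ?_ (map_zero _).symm)
    refine (hW.theta_bijective_pi r' n).1 (Eq.trans ?_ (map_zero _).symm)
    refine (congrArg (theta 𝔪 W (killed_pi 𝔪 le_rfl)) (LinearMap.congr_fun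
      (hmap_comp W (ModuleCat.ofHom q) (ModuleCat.ofHom (LinearMap.ker p).subtype) 0) y).symm).trans ?_
    refine (theta_natural 𝔪 W (killed_pi 𝔪 le_rfl) (killed_pi 𝔪 le_rfl) _ y).trans ?_
    rw [hy]
    refine LinearMap.ext fun v => ?_
    show φ (p ((LinearMap.ker p).subtype (q v))) = 0
    rw [show p ((LinearMap.ker p).subtype (q v)) = 0 from (q v).2, map_zero]
  obtain ⟨x, hx⟩ := (pull_exact (W := W) Subtype.val_injective hp (LinearMap.exact_subtype_ker_map p) 0 y).1 h0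
  refine ⟨x, LinearMap.ext fun v => ?_⟩
  obtain ⟨c, rfl⟩ := hp v
  exact LinearMap.congr_fun ((hnat x).symm.trans ((congrArg (theta 𝔪 W (killed_pi 𝔪 le_rfl)) hx).trans hy)) c

theorem IsResidual.homology_gamma (hW : IsResidual W 0) (q : ℤ) (hq : q ≠ 0) :
    Subsingleton (((gammaCx 𝔪).obj W).homology q) := by
  refine subsingleton_of_forall_eq 0 fun x => ?_
  obtain ⟨n, z, rfl⟩ := exists_cls 𝔪 W q x
  haveI := hW.subsingleton_killed (A ⧸ 𝔪 ^ n) n (killed_quotient 𝔪 le_rfl) q hq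
  obtain ⟨w, hw⟩ := (dcls_eq_zero_iff W _ q z).1
    (@Subsingleton.elim (EH W (A ⧸ 𝔪 ^ n) q) inferInstance _ 0)
  refine (cls_eq_zero_iff W q 𝔪 n z).2 ⟨⟨w (Submodule.Quotient.mk (1 : A)), n, fun a ha => ?_⟩, (hw _).symm⟩
  rw [← map_smul, killed_quotient 𝔪 le_rfl a ha, map_zero]

theorem IsResidual.injective_H0 (hW : IsResidual W 0) : Module.Injective A (H0Γ 𝔪 W) := by
  haveI := hW.injective
  refine Module.Baer.injective fun J g => ?_
  obtain ⟨S, hS⟩ := (IsNoetherian.noetherian J : J.FG)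
  obtain ⟨k, hk⟩ : ∃ k, ∀ a ∈ 𝔪 ^ k, ∀ v : J, a • g v = 0 := by
    have : ∀ s : S, ∃ k, ∀ a ∈ 𝔪 ^ k, a • g ⟨s.1, hS ▸ Submodule.subset_span s.2⟩ = 0 := fun s =>
      exists_pow_smul_eq_zero 𝔪 W _
    choose k hk using this
    refine ⟨Finset.univ.sup k, fun a ha ⟨v, hv⟩ => ?_⟩
    rw [← hS] at hv
    induction hv using Submodule.span_induction with
    | mem s hs => exact hk ⟨s, hs⟩ a (Ideal.pow_le_pow_right (Finset.le_sup (Finset.mem_univ _)) ha)
    | zero => exact (congrArg (a • ·) (map_zero g)).trans (smul_zero a)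
    | add s t hs ht h1 h2 =>
      rw [show (⟨s + t, _⟩ : J) = ⟨s, hS ▸ hs⟩ + ⟨t, hS ▸ ht⟩ from rfl, map_add, smul_add, h1, h2, add_zero]
    | smul c s hs h1 =>
      rw [show (⟨c • s, _⟩ : J) = c • ⟨s, hS ▸ hs⟩ from rfl, map_smul, smul_comm, h1, smul_zero]
  obtain ⟨k0, hk0⟩ := Ideal.exists_pow_inf_eq_pow_smul 𝔪 (J : Submodule A A)
  let n := k0 + k
  let φ : J →ₗ[A] A ⧸ 𝔪 ^ n := (𝔪 ^ n).mkQ ∘ₗ J.subtype
  have hker : LinearMap.ker φ ≤ LinearMap.ker g := fun v hv => by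
    have h1 : (v : A) ∈ 𝔪 ^ n • (⊤ : Submodule A A) ⊓ J := ⟨by
      rw [Ideal.smul_top_eq_map]
      simpa using (Submodule.Quotient.mk_eq_zero _).1 hv, v.2⟩
    rw [hk0 n (Nat.le_add_right k0 k), show n - k0 = k by omega] at h1
    have h2 : ∀ u ∈ 𝔪 ^ k • (J : Submodule A A), ∃ hu : u ∈ J, g ⟨u, hu⟩ = 0 := fun u hu => by
      refine Submodule.smul_induction_on hu (fun a ha w hw => ⟨J.mul_mem_left a hw, ?_⟩) fun u w h1 h2 => ?_
      · exact (map_smul g a ⟨w, hw⟩).trans (hk a ha _)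
      · obtain ⟨hu, h1⟩ := h1
        obtain ⟨hw, h2⟩ := h2
        refine ⟨J.add_mem hu hw, ?_⟩
        exact (map_add g ⟨u, hu⟩ ⟨w, hw⟩).trans (by rw [h1, h2, add_zero])
    obtain ⟨hv', h3⟩ := h2 v.1 (Submodule.smul_mono le_rfl inf_le_right h1)
    exact h3
  let g' : LinearMap.range φ →ₗ[A] H0Γ 𝔪 W :=
    Submodule.liftQ _ g hker ∘ₗ (LinearMap.quotKerEquivRange φ).symm.toLinearMap
  have hg' : ∀ v, g' (φ.rangeRestrict v) = g v := fun v => by
    show Submodule.liftQ _ g hker ((LinearMap.quotKerEquivRange φ).symm (φ.rangeRestrict v)) = g v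
    rw [show (LinearMap.quotKerEquivRange φ).symm (φ.rangeRestrict v) = Submodule.Quotient.mk v by
      rw [LinearEquiv.symm_apply_eq]; rfl]
    rfl
  have hkill : ∀ a ∈ 𝔪 ^ n, ∀ v : LinearMap.range φ, a • v = 0 := fun a ha v =>
    Subtype.ext (killed_quotient 𝔪 le_rfl a ha v.1)
  obtain ⟨y, hy⟩ := (hW.theta_bijective (LinearMap.range φ) hkill).2 g'
  haveI := hW.subsingleton_killed ((A ⧸ 𝔪 ^ n) ⧸ LinearMap.range φ) n (fun a ha v => by
    obtain ⟨v, rfl⟩ := Submodule.Quotient.mk_surjective _ v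
    rw [← Submodule.Quotient.mk_smul, killed_quotient 𝔪 le_rfl a ha, Submodule.Quotient.mk_zero]) (0 + 1) (by omega)
  obtain ⟨x, hx⟩ := (pull_conn_exact (W := W) (LinearMap.range φ).injective_subtype (Submodule.mkQ_surjective _)
    (LinearMap.exact_subtype_mkQ _) 0 (0 + 1) rfl y).1 (Subsingleton.elim _ _)
  refine ⟨theta 𝔪 W (N := ModuleCat.of A (A ⧸ 𝔪 ^ n)) (killed_quotient 𝔪 le_rfl) x ∘ₗ (𝔪 ^ n).mkQ, fun v hv => ?_⟩
  have h3 := LinearMap.congr_fun ((theta_natural 𝔪 W hkill (killed_quotient 𝔪 le_rfl)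
    (ModuleCat.ofHom (LinearMap.range φ).subtype) x).symm.trans ((congrArg (theta 𝔪 W hkill) hx).trans hy))
    (φ.rangeRestrict ⟨v, hv⟩)
  exact h3.trans (hg' _)

/-- The torsion cohomology is the injective hull of the residue field. -/
theorem IsResidual.exists_hull (hW : IsResidual W 0)
    (hk : Nonempty ((dCx W (ModuleCat.of A (A ⧸ 𝔪))).homology 0 ≃ₗ[A] (A ⧸ 𝔪)))
    {E : Type u} [AddCommGroup E] [Module A E] (f : IsLocalRing.ResidueField A →ₗ[A] E)
    (hf : InjHull.IsInjectiveHull f) : Nonempty (H0Γ 𝔪 W ≃ₗ[A] E) := by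
  obtain ⟨ψ⟩ := hk
  have hkill : ∀ a ∈ 𝔪 ^ 1, ∀ x : A ⧸ 𝔪, a • x = 0 := killed_quotient 𝔪 (pow_one 𝔪).le
  let hθ := hW.theta_bijective (A ⧸ 𝔪) hkill
  let φ0 := theta 𝔪 W (N := ModuleCat.of A (A ⧸ 𝔪)) hkill (ψ.symm (Submodule.Quotient.mk 1))
  have hne : φ0 (Submodule.Quotient.mk 1) ≠ 0 := fun h => by
    have h1 : φ0 = 0 := quot_ext h
    have h2 := ψ.symm.map_eq_zero_iff.1 (hθ.1 (h1.trans (map_zero _).symm))
    rw [Submodule.Quotient.mk_eq_zero] at h2
    exact (IsLocalRing.maximalIdeal.isMaximal A).ne_top ((Ideal.eq_top_iff_one _).2 h2)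
  have hinj : Function.Injective φ0 := (injective_iff_map_eq_zero φ0).2 fun v hv => by
    obtain ⟨a, rfl⟩ := Submodule.Quotient.mk_surjective _ v
    rw [Submodule.Quotient.mk_eq_zero]
    by_contra ha
    obtain ⟨u, rfl⟩ := IsLocalRing.notMem_maximalIdeal.1 ha
    refine hne ?_
    rw [show (Submodule.Quotient.mk (1 : A) : A ⧸ 𝔪) = (↑u⁻¹ : A) • Submodule.Quotient.mk (↑u : A) by
      rw [← Submodule.Quotient.mk_smul, smul_eq_mul, Units.inv_mul], map_smul, hv, smul_zero]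
  have hess : ∀ N : Submodule A (H0Γ 𝔪 W), N ≠ ⊥ → N ⊓ LinearMap.range φ0 ≠ ⊥ := by
    intro N hN
    obtain ⟨x, hx, hx0⟩ := Submodule.exists_mem_ne_zero_of_ne_bot hN
    obtain ⟨y, hy, hy0, hym⟩ : ∃ y ∈ N, y ≠ 0 ∧ ∀ a ∈ 𝔪, a • y = 0 := by
      obtain ⟨n, hn⟩ := exists_pow_smul_eq_zero 𝔪 W x
      induction n generalizing x with
      | zero => exact absurd (by simpa using hn 1 (by simp)) hx0
      | succ n ih =>
        by_cases h : ∀ a ∈ 𝔪, a • x = 0
        · exact ⟨x, hx, hx0, h⟩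
        · simp only [not_forall] at h
          obtain ⟨a, ha, hax⟩ := h
          exact ih (a • x) (N.smul_mem a hx) hax fun b hb => by
            rw [smul_smul]
            exact hn _ (by rw [pow_succ]; exact Ideal.mul_mem_mul hb ha)
    obtain ⟨v, hv⟩ := hθ.2 (Submodule.liftQ 𝔪 (LinearMap.toSpanSingleton A _ y) fun a ha => hym a ha)
    obtain ⟨a, ha⟩ := Submodule.Quotient.mk_surjective _ (ψ v)
    have hv' : v = a • ψ.symm (Submodule.Quotient.mk 1) := by
      rw [← map_smul, ← Submodule.Quotient.mk_smul, smul_eq_mul, mul_one, LinearEquiv.eq_symm_apply]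
      exact ha.symm
    have hy' : y = φ0 (Submodule.Quotient.mk a) := by
      have h1 := LinearMap.congr_fun hv (Submodule.Quotient.mk (1 : A))
      rw [hv', map_smul] at h1
      have h2 : (Submodule.Quotient.mk a : A ⧸ 𝔪) = a • Submodule.Quotient.mk 1 := by
        rw [← Submodule.Quotient.mk_smul, smul_eq_mul, mul_one]
      rw [h2, map_smul]
      exact ((one_smul A y).symm.trans h1.symm)
    intro hbot
    exact hy0 ((Submodule.eq_bot_iff _).1 hbot y ⟨hy, ⟨_, hy'.symm⟩⟩)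
  obtain ⟨e, -⟩ := Groth.Agent.S0302.result A (IsLocalRing.ResidueField A) (H0Γ 𝔪 W) E φ0
    ⟨⟨hinj, hess⟩, hW.injective_H0⟩ f hf
  exact ⟨e⟩

end Groth.Agent.DualCx
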