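import Groth.Agent.DualCx.Setup
import Groth.Agent.DualCx.Torsion
import Groth.Agent.MatlisLib.Local

/-!
# Normalized dualizing complexes: torsion and finite length
-/

set_option autoImplicit false
set_option linter.style.haveILetI false

open CategoryTheory CategoryTheory.Limits

universe u

attribute [local instance] HasDerivedCategory.standard

namespace Groth.Agent.DualCx

variable {A : Type u} [CommRing A] [IsLocalRing A] [IsNoetherianRing A]

/-- A normalized dualizing complex has a residual model with one dimensional residual dual. -/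
theorem exists_residual' {ω : Dual.D A} (hω : Dual.IsDualizing A ω) (hn : Dual.IsNormalized A ω) :
    ∃ (W : DRing.Cx A) (a b : ℤ), W.IsKInjective ∧ IsResidual W 0 ∧ (∀ i, (i < a ∨ b < i) → IsZero (W.X i)) ∧
      Nonempty (DerivedCategory.Q.obj W ≅ ω) ∧
      Nonempty ((dCx W (ModuleCat.of A (A ⧸ IsLocalRing.maximalIdeal A))).homology 0 ≃ₗ[A]
        (A ⧸ IsLocalRing.maximalIdeal A)) := by
  obtain ⟨W, a, b, hW, hres, hzero, ⟨e⟩⟩ := exists_residual hω hn
  haveI := hW
  haveI := hres.injective
  obtain ⟨n, h1, ⟨g⟩⟩ := exists_degree W (IsLocalRing.maximalIdeal A) a b hzero e hω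
  refine ⟨W, a, b, hW, hres, hzero, ⟨e⟩, ?_⟩
  obtain rfl : n = 0 := by
    by_contra hne
    haveI := h1 0 (Ne.symm hne)
    exact not_nontrivial _ hres.nontrivial
  exact ⟨g⟩

omit [IsLocalRing A] [IsNoetherianRing A] in
theorem exists_uniform_pow (I : Ideal A) (N : Type u) [AddCommGroup N] [Module A N] [Module.Finite A N]
    (h : LocCoh.IsPowerTorsion I N) : ∃ n : ℕ, ∀ a ∈ I ^ n, ∀ x : N, a • x = 0 := by
  obtain ⟨S, hS⟩ := (Module.Finite.fg_top : (⊤ : Submodule A N).FG)
  choose k hk using h
  refine ⟨S.sup k, fun a ha x => ?_⟩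
  have hle : Submodule.span A (S : Set N) ≤ LinearMap.ker (a • LinearMap.id : N →ₗ[A] N) := Submodule.span_le.2
    fun s hs => hk s a (Ideal.pow_le_pow_right (Finset.le_sup hs) ha)
  exact hle (hS ▸ trivial)

/-- Local cohomology of the dualizing complex, in the form of the limit of Homs. -/
theorem nonempty_HDI_equiv {W : DRing.Cx A} [W.IsKInjective] {ω : Dual.D A} (e : DerivedCategory.Q.obj W ≅ ω)
    (I : Ideal A) (q : ℤ) :
    Nonempty (Dual2.HDI A I ω q ≃ₗ[A] ((RGamma.gammaCx I).obj W).homology q) :=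
  ⟨LinearEquiv.ofBijective (colimit.desc _ (RGamma.hdCocone W q e I)).hom (RGamma.hd_bijective W q e I) ≪≫ₗ
    ULift.moduleEquiv (R := A) (M := ((RGamma.gammaCx I).obj W).homology q)⟩

end Groth.Agent.DualCx
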