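import Groth.Agent.DualCx.FlatBCGlobal
import Groth.Agent.DualCx.Primes
import Mathlib.RingTheory.Flat.Localization
import Mathlib.RingTheory.Polynomial.Quotient

/-!
# Dualizing complexes of polynomial rings
-/

set_option autoImplicit false
set_option linter.style.haveILetI false

open CategoryTheory CategoryTheory.Limits TensorProduct
open scoped Polynomial

universe u

attribute [local instance] HasDerivedCategory.standard

namespace Groth.Agent.DualCx

open Groth.Agent.LocCohLib Groth.Agent.RGamma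

variable {A : Type u} [CommRing A]

/-- Cutting a free rank one dual by a regular element. -/
theorem dual_quotient_regular {C : Type u} [CommRing C] {V : DRing.Cx C} [∀ i, Injective (V.X i)] (P : Ideal C) (γ : C)
    (hreg : ∀ x, γ * x ∈ P → x ∈ P) (d : ℤ)
    (hvan : ∀ i, i ≠ d → Subsingleton (EH V (C ⧸ P) i)) (hd : Nonempty (EH V (C ⧸ P) d ≃ₗ[C] C ⧸ P)) :
    (∀ i, i ≠ d + 1 → Subsingleton (EH V (C ⧸ (P ⊔ Ideal.span {γ})) i)) ∧
      Nonempty (EH V (C ⧸ (P ⊔ Ideal.span {γ})) (d + 1) ≃ₗ[C] C ⧸ (P ⊔ Ideal.span {γ})) := by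
  obtain ⟨e⟩ := hd
  let f : (C ⧸ P) →ₗ[C] C ⧸ P := γ • LinearMap.id
  let g : (C ⧸ P) →ₗ[C] C ⧸ (P ⊔ Ideal.span {γ}) := Submodule.factor le_sup_left
  have hf : Function.Injective f := by
    rw [← LinearMap.ker_eq_bot, eq_bot_iff]
    intro z hz
    obtain ⟨x, rfl⟩ := Ideal.Quotient.mk_surjective z
    exact Ideal.Quotient.eq_zero_iff_mem.2 (hreg x (Ideal.Quotient.eq_zero_iff_mem.1 hz))
  have hg : Function.Surjective g := Submodule.factor_surjective le_sup_left
  have hfg : Function.Exact f g := fun z => by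
    obtain ⟨x, rfl⟩ := Ideal.Quotient.mk_surjective z
    constructor
    · intro hz
      obtain ⟨p, hp, q, hq, hx⟩ := Submodule.mem_sup.1 (Ideal.Quotient.eq_zero_iff_mem.1 (show Ideal.Quotient.mk _ x = 0 from hz))
      obtain ⟨t, rfl⟩ := Ideal.mem_span_singleton'.1 hq
      refine ⟨Ideal.Quotient.mk P t, (Ideal.Quotient.eq (I := P)).2 ?_⟩
      rw [← hx]
      change γ * t - (p + t * γ) ∈ P
      rw [show γ * t - (p + t * γ) = -p by ring]
      exact neg_mem hp
    · rintro ⟨w, hw⟩
      obtain ⟨t, rfl⟩ := Ideal.Quotient.mk_surjective w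
      rw [← hw]
      exact (Ideal.Quotient.eq_zero_iff_mem (I := P ⊔ Ideal.span {γ})).2 (Ideal.mem_sup_right (Ideal.mem_span_singleton'.2 ⟨t, mul_comm _ _⟩))
  have hker : ∀ v : EH V (C ⧸ P) d, γ • v = 0 → v = 0 := fun v hv => e.injective <| by
    rw [map_zero]
    refine hf ?_
    show γ • e v = γ • (0 : C ⧸ P)
    rw [← map_smul, hv, map_zero, smul_zero]
  constructor
  · intro i hi
    refine subsingleton_of_forall_eq 0 fun v => ?_
    by_cases hid : i = d
    · subst hid
      haveI := hvan (i - 1) (by omega)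
      have h1 : pull V g i v = 0 := hker _ (by
        rw [← pull_smul V γ i]
        exact (pull_exact hf hg hfg i _).2 ⟨v, rfl⟩)
      obtain ⟨w, rfl⟩ := (conn_pull_exact hf hg hfg (i - 1) i (by omega) v).1 h1
      rw [Subsingleton.elim w 0, map_zero]
    · haveI := hvan i hid
      haveI := hvan (i - 1) (by omega)
      obtain ⟨w, rfl⟩ := (conn_pull_exact hf hg hfg (i - 1) i (by omega) v).1 (Subsingleton.elim _ _)
      rw [Subsingleton.elim w 0, map_zero]
  · haveI := hvan (d + 1) (by omega)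
    let δ := conn hf hg hfg d (d + 1) rfl (W := V)
    have hδ : Function.Surjective δ := fun v => (conn_pull_exact hf hg hfg d (d + 1) rfl v).1 (Subsingleton.elim _ _)
    let h : C →ₗ[C] EH V (C ⧸ (P ⊔ Ideal.span {γ})) (d + 1) := δ ∘ₗ e.symm.toLinearMap ∘ₗ Submodule.mkQ P
    have hs : Function.Surjective h := (hδ.comp e.symm.surjective).comp (Submodule.mkQ_surjective P)
    refine ⟨(LinearMap.quotKerEquivOfSurjective h hs).symm ≪≫ₗ Submodule.quotEquivOfEq _ _ ?_⟩
    ext c
    rw [LinearMap.mem_ker]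
    constructor
    · intro hc
      obtain ⟨v, hv⟩ := (pull_conn_exact hf hg hfg d (d + 1) rfl _).1 hc
      rw [pull_smul] at hv
      obtain ⟨t, ht⟩ := Ideal.Quotient.mk_surjective (e v)
      have h2 := congrArg e hv
      rw [map_smul, ← ht, LinearMap.comp_apply, LinearEquiv.coe_coe, LinearEquiv.apply_symm_apply] at h2
      have h3 := (Ideal.Quotient.eq (I := P)).1 (show Ideal.Quotient.mk P (γ * t) = Ideal.Quotient.mk P c from h2)
      rw [show c = -(γ * t - c) + t * γ by ring]
      exact Submodule.add_mem_sup (neg_mem h3) (Ideal.mem_span_singleton'.2 ⟨t, rfl⟩)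
    · intro hc
      obtain ⟨p, hp, q, hq, rfl⟩ := Submodule.mem_sup.1 hc
      obtain ⟨t, rfl⟩ := Ideal.mem_span_singleton'.1 hq
      show δ (e.symm (Submodule.mkQ P (p + t * γ))) = 0
      rw [map_add, show Submodule.mkQ P p = 0 from (Submodule.Quotient.mk_eq_zero P).2 hp, zero_add,
        show t * γ = γ • t from mul_comm _ _, map_smul, map_smul]
      exact (pull_conn_exact hf hg hfg d (d + 1) rfl _).2 ⟨e.symm (Submodule.mkQ P t), pull_smul V γ d _⟩

/-- A generator of a maximal ideal of a polynomial ring relative to its trace on the base. -/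
theorem exists_relative_generator (n : Ideal A[X]) [n.IsMaximal] :
    ∃ G ∈ n, G ∉ (n.comap Polynomial.C).map Polynomial.C ∧
      ∀ f ∈ n, ∃ s, s ∉ n ∧ s * f ∈ (n.comap Polynomial.C).map Polynomial.C ⊔ Ideal.span {G} := by
  let p := n.comap (Polynomial.C : A →+* A[X])
  let π := Polynomial.mapRingHom (Ideal.Quotient.mk p)
  haveI : p.IsPrime := Ideal.comap_isPrime _ n
  have hπ : Function.Surjective π := Polynomial.map_surjective _ Ideal.Quotient.mk_surjective
  have hkerπ : ∀ f, π f = 0 ↔ f ∈ p.map Polynomial.C := fun f => by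
    rw [← RingHom.mem_ker, Polynomial.ker_mapRingHom, Ideal.mk_ker]
  have hnz : ∃ G ∈ n, π G ≠ 0 := by
    by_contra hcon
    push Not at hcon
    obtain ⟨s, hs, hX⟩ : ∃ y, y ∈ n ∧ ∃ z, Polynomial.X * z - 1 = y := by
      by_cases hX : (Polynomial.X : A[X]) ∈ n
      · exact absurd (hcon _ hX) (by simp [π])
      · obtain ⟨z, y, hy, h⟩ := Ideal.IsMaximal.exists_inv ‹n.IsMaximal› hX
        exact ⟨-y, neg_mem hy, z, by linear_combination h⟩
    obtain ⟨z, rfl⟩ := hX
    have h := hcon _ hs
    rw [map_sub, map_mul, map_one, sub_eq_zero, show π Polynomial.X = Polynomial.X by simp [π]] at h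
    exact Polynomial.not_isUnit_X (IsUnit.of_mul_eq_one _ h)
  classical
  have hex : ∃ k, ∃ G ∈ n, π G ≠ 0 ∧ (π G).natDegree = k := by
    obtain ⟨G, h1, h2⟩ := hnz
    exact ⟨_, G, h1, h2, rfl⟩
  obtain ⟨G, hG, hG0, hdeg⟩ := Nat.find_spec hex
  refine ⟨G, hG, fun h => hG0 ((hkerπ G).2 h), fun f hf => ?_⟩
  obtain ⟨c, hc⟩ := Ideal.Quotient.mk_surjective (π G).leadingCoeff
  have hcn : Polynomial.C c ∉ n := fun h => hG0 (Polynomial.leadingCoeff_eq_zero.1 (by
    rw [← hc]; exact Ideal.Quotient.eq_zero_iff_mem.2 h))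
  induction hk : (π f).natDegree using Nat.strong_induction_on generalizing f with
  | _ k ih =>
    by_cases h0 : π f = 0
    · exact ⟨1, fun h => Ideal.IsPrime.ne_top' ((Ideal.eq_top_iff_one _).2 h),
        Ideal.mem_sup_left ((hkerπ _).1 (by rw [one_mul]; exact h0))⟩
    have hle : (π G).natDegree ≤ k := by
      rw [hdeg, ← hk]
      exact Nat.find_min' hex ⟨f, hf, h0, rfl⟩
    obtain ⟨a, ha⟩ := Ideal.Quotient.mk_surjective (π f).leadingCoeff
    let f' := Polynomial.C c * f - Polynomial.C a * Polynomial.X ^ (k - (π G).natDegree) * G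
    have hf' : f' ∈ n := sub_mem (n.mul_mem_left _ hf) (n.mul_mem_left _ hG)
    have hπf' : π f' = Polynomial.C (π G).leadingCoeff * π f -
        Polynomial.C (π f).leadingCoeff * Polynomial.X ^ (k - (π G).natDegree) * π G := by
      simp only [f', π, map_sub, map_mul, map_pow, Polynomial.coe_mapRingHom, Polynomial.map_mul, Polynomial.map_pow, Polynomial.map_sub, Polynomial.map_C, Polynomial.map_X]
      rw [hc, ha]
      rfl
    rcases eq_or_ne (π f') 0 with hz | hz
    · refine ⟨Polynomial.C c, hcn, ?_⟩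
      rw [show Polynomial.C c * f = f' + Polynomial.C a * Polynomial.X ^ (k - (π G).natDegree) * G by ring]
      exact Submodule.add_mem_sup ((hkerπ _).1 hz) (Ideal.mem_span_singleton'.2 ⟨_, rfl⟩)
    · have hlt : (π f').natDegree < k := by
        refine Polynomial.natDegree_lt_natDegree hz ?_ |>.trans_eq (?_ : (Polynomial.C (π G).leadingCoeff * π f).natDegree = k)
        · rw [hπf']
          refine Polynomial.degree_sub_lt_left ?_ ?_ ?_
          · rw [Polynomial.degree_mul, Polynomial.degree_C (by simpa using hG0), zero_add, Polynomial.degree_mul,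
              Polynomial.degree_mul, Polynomial.degree_C (by simpa using h0), zero_add, Polynomial.degree_X_pow,
              Polynomial.degree_eq_natDegree h0, Polynomial.degree_eq_natDegree hG0, hk]
            rw [← Nat.cast_add, Nat.sub_add_cancel hle]
          · exact mul_ne_zero (by simpa using hG0) h0
          · rw [Polynomial.leadingCoeff_mul, Polynomial.leadingCoeff_mul, Polynomial.leadingCoeff_mul, Polynomial.leadingCoeff_C, Polynomial.leadingCoeff_C, Polynomial.leadingCoeff_X_pow, mul_one, mul_comm]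
        · rw [Polynomial.natDegree_C_mul (by simpa using hG0), hk]
      obtain ⟨s, hs, hsf⟩ := ih _ hlt f' hf' rfl
      refine ⟨s * Polynomial.C c, fun h => (Ideal.IsPrime.mem_or_mem inferInstance h).elim hs hcn, ?_⟩
      rw [show s * Polynomial.C c * f = s * f' + s * (Polynomial.C a * Polynomial.X ^ (k - (π G).natDegree)) * G by ring]
      exact Ideal.add_mem _ hsf (Ideal.mem_sup_right (Ideal.mem_span_singleton'.2 ⟨_, rfl⟩))

/-- A model extends to a dualizing complex of the polynomial ring. -/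
theorem isDualizing_polynomial [IsNoetherianRing A] {ω : Dual.D A} (hω : Dual.IsDualizing A ω)
    {W : DRing.Cx A} [W.IsKInjective] [∀ i, Injective (W.X i)] (a b : ℤ)
    (hzero : ∀ i, (i < a ∨ b < i) → IsZero (W.X i)) (e : DerivedCategory.Q.obj W ≅ ω)
    {R : Dual.D A[X]} (eW : DerivedCategory.Q.obj ((extC (Polynomial.C : A →+* A[X])).obj W) ≅ R) :
    Dual.IsDualizing A[X] R := by
  have hflat : (Polynomial.C : A →+* A[X]).Flat := RingHom.flat_algebraMap_iff.2 (inferInstance : Module.Flat A A[X])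
  refine isDualizing_LBC_of_points hflat hω a (b + 1) (fun i hi => hzero i (Or.inl hi)) e eW fun n hn V _ hV g _ => ?_
  let p := n.comap (Polynomial.C : A →+* A[X])
  haveI : p.IsPrime := Ideal.comap_isPrime _ n
  let C := Localization.AtPrime n
  let χ := algebraMap A[X] C
  let Ap := Localization.AtPrime p
  let l := algebraMap A Ap
  have hl := isLocHom_prime p
  have hu : ∀ y : p.primeCompl, IsUnit ((χ.comp Polynomial.C) y) := fun y =>
    IsLocalization.map_units C (⟨Polynomial.C y.1, fun h => y.2 h⟩ : n.primeCompl)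
  let ψ : Ap →+* C := IsLocalization.lift hu
  have hcomp : ψ.comp l = χ.comp Polynomial.C := IsLocalization.lift_comp hu
  have hψ : ψ.Flat := by
    letI := ψ.toAlgebra
    have hAC : algebraMap A C = χ.comp Polynomial.C := IsScalarTower.algebraMap_eq A A[X] C
    haveI : IsScalarTower A Ap C := IsScalarTower.of_algebraMap_eq' (hAC.trans hcomp.symm)
    have h : Module.Flat A C := RingHom.flat_algebraMap_iff.1 (hAC ▸ RingHom.Flat.comp hflat (isLocHom_prime n).flat)
    exact (Module.flat_iff_of_isLocalization (R := A) (S := Ap) p.primeCompl C).2 h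
  haveI : IsNoetherianRing Ap := IsLocalization.isNoetherianRing p.primeCompl _ inferInstance
  haveI : ∀ i, Injective ((WAt W p).X i) := fun i => hl.injective_ext (W.X i)
  have hzero' : ∀ i, (i < a ∨ b < i) → IsZero ((WAt W p).X i) := fun i hi => (extM l).map_isZero (hzero i hi)
  haveI : CochainComplex.IsStrictlyGE (WAt W p) a :=
    (CochainComplex.isStrictlyGE_iff _ _).2 fun i hi => hzero' i (Or.inl hi)
  haveI : (WAt W p).IsKInjective := CochainComplex.isKInjective_of_injective _ a
  have hωp := isDualizing_extC hl hω a b hzero e (Iso.refl (DerivedCategory.Q.obj (WAt W p)))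
  obtain ⟨d, hd, ⟨gd⟩⟩ := exists_degree (WAt W p) (IsLocalRing.maximalIdeal Ap) a b hzero' (Iso.refl _) hωp
  have hdb : d ≤ b := by
    by_contra hcon
    haveI := subsingleton_dual_of_isZero (hzero' d (Or.inr (not_le.1 hcon))) (ModuleCat.of Ap (Ap ⧸ IsLocalRing.maximalIdeal Ap))
    haveI := gd.symm.toEquiv.subsingleton
    exact not_nontrivial (Ap ⧸ IsLocalRing.maximalIdeal Ap) inferInstance
  let g₂ : (extC ψ).obj (WAt W p) ⟶ V :=
    (DTen.extCompCx l ψ).hom.app W ≫ eqToHom (show (extC (ψ.comp l)).obj W = _ by rw [hcomp]) ≫ g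
  haveI : QuasiIso g₂ := inferInstance
  obtain ⟨G, hGn, hGp, hgen⟩ := exists_relative_generator n
  haveI hpB : (p.map (Polynomial.C : A →+* A[X])).IsPrime := Ideal.isPrime_map_C_of_isPrime
  have hle : p.map (Polynomial.C : A →+* A[X]) ≤ n := Ideal.map_comap_le
  have hdisj : Disjoint (n.primeCompl : Set A[X]) (p.map (Polynomial.C : A →+* A[X])) :=
    Set.disjoint_left.2 fun x hx h => hx (hle h)
  let P := (p.map (Polynomial.C : A →+* A[X])).map χ
  haveI hP : P.IsPrime := IsLocalization.isPrime_of_isPrime_disjoint n.primeCompl C _ hpB hdisj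
  have hPc : P.comap χ = p.map Polynomial.C :=
    IsLocalization.comap_map_of_isPrime_disjoint n.primeCompl C hpB hdisj
  have hPmax : (IsLocalRing.maximalIdeal Ap).map ψ = P := by
    rw [← Localization.AtPrime.map_eq_maximalIdeal, Ideal.map_map, show ψ.comp (algebraMap A Ap) = _ from hcomp,
      ← Ideal.map_map]
  have hreg : ∀ x, χ G * x ∈ P → x ∈ P := fun x hx => (hP.mem_or_mem hx).resolve_left fun h => hGp (by
    rw [show (n.comap Polynomial.C).map Polynomial.C = p.map Polynomial.C from rfl, ← hPc]; exact h)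
  have hmax : P ⊔ Ideal.span {χ G} = IsLocalRing.maximalIdeal C := by
    rw [← Localization.AtPrime.map_eq_maximalIdeal]
    refine le_antisymm (sup_le (Ideal.map_mono hle) ((Ideal.span_singleton_le_iff_mem _).2 (Ideal.mem_map_of_mem χ hGn)))
      (Ideal.map_le_iff_le_comap.2 fun x hx => ?_)
    obtain ⟨s, hs, hsx⟩ := hgen x hx
    refine Ideal.mem_comap.2 ((Ideal.unit_mul_mem_iff_mem _ (IsLocalization.map_units C (⟨s, hs⟩ : n.primeCompl))).1 ?_)
    have h := Ideal.mem_map_of_mem χ hsx
    rwa [Ideal.map_sup, Ideal.map_span, Set.image_singleton, map_mul] at h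
  let kA := ModuleCat.of Ap (Ap ⧸ IsLocalRing.maximalIdeal Ap)
  haveI : Module.FinitePresentation Ap kA := Module.finitePresentation_of_finite Ap _
  obtain ⟨ek⟩ : Nonempty ((extM ψ).obj kA ≅ ModuleCat.of C (C ⧸ P)) := by
    letI := ψ.toAlgebra
    exact ⟨((Algebra.TensorProduct.quotIdealMapEquivTensorQuot C (IsLocalRing.maximalIdeal Ap)).symm.toLinearEquiv ≪≫ₗ
      Submodule.quotEquivOfEq _ _ hPmax).toModuleIso⟩
  have hdual : ∀ i, Nonempty (EH V (C ⧸ P) i ≃ₗ[C] (extM ψ).obj ((dCx (WAt W p) kA).homology i)) := fun i => by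
    obtain ⟨g0⟩ := nonempty_dual_ext hψ a (fun j hj => hzero' j (Or.inl hj)) hV g₂ kA i
    exact ⟨(EH_congr V ek i).some.toLinearEquiv.symm ≪≫ₗ g0⟩
  obtain ⟨h1, ⟨h2⟩⟩ := dual_quotient_regular (V := V) P (χ G) hreg d (fun i hi => by
    haveI := hd i hi
    haveI := ModuleCat.subsingleton_of_isZero ((extM ψ).map_isZero
      (ModuleCat.isZero_of_subsingleton ((dCx (WAt W p) kA).homology i)))
    exact (hdual i).some.toEquiv.subsingleton)
    ⟨(hdual d).some ≪≫ₗ ((extM ψ).mapIso gd.toModuleIso ≪≫ ek).toLinearEquiv⟩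
  refine ⟨d + 1, by omega, ?_, ?_⟩
  · rw [← hmax]; exact h1
  · rw [← hmax]; exact ⟨h2⟩

/-- Dualizing complexes extend to the polynomial ring. -/
theorem isDualizing_LBC_polynomial [IsNoetherianRing A] {φ : A →+* A[X]} (hφ : φ = Polynomial.C)
    [DRing.HasLBaseChange φ] {ω : Dual.D A} (hω : Dual.IsDualizing A ω) :
    Dual.IsDualizing A[X] ((DRing.LBaseChange φ).obj ω) := by
  obtain ⟨W, a, b, hW, hinj, hzero, ⟨e⟩⟩ := exists_model hω.finite_injective_dimension
  haveI := hW
  haveI := hinj
  subst hφ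
  obtain ⟨eW⟩ := nonempty_extC_iso_LBC_flat (RingHom.flat_algebraMap_iff.2 (inferInstance : Module.Flat A A[X])) W e
  exact isDualizing_polynomial hω a b hzero e eW

end Groth.Agent.DualCx
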