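import Groth.Agent.DualCx.Primes
import Groth.Agent.DualCx.Setup

/-!
# The minimal prime degree of a normalized dualizing complex
-/

set_option autoImplicit false
set_option linter.style.haveILetI false

open CategoryTheory CategoryTheory.Limits

universe u

attribute [local instance] HasDerivedCategory.standard

namespace Groth.Agent.DualCx

variable {A : Type u} [CommRing A] [IsLocalRing A] [IsNoetherianRing A]

theorem degree_minimal_eq {ω : Dual.D A} (hω : Dual.IsDualizing A ω) (hn : Dual.IsNormalized A ω) (p : Ideal A)
    [p.IsPrime] (hp : p ∈ minimalPrimes A) (e : ℕ) (he : ringKrullDim (A ⧸ p) = e) (i : ℤ) :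
    Nontrivial (LocalizedModule p.primeCompl (Dual.HD A ω i)) ↔ i = -(e : ℤ) := by
  obtain ⟨W, a, b, hW, hres, hzero, ⟨g⟩⟩ := exists_residual hω hn
  haveI := hW
  haveI := hres.injective
  obtain ⟨n, hresn, hiff⟩ := existsUnique_degree_minimal a b hω hzero g p hp
  have heq : ∀ j, Nontrivial (LocalizedModule p.primeCompl (Dual.HD A ω j)) ↔
      Nontrivial (LocalizedModule p.primeCompl (W.homology j)) := fun j => by
    haveI := (isLocHom_prime p).flat
    rw [← nontrivial_extM_iff (isLocHom_prime p) ((DerivedCategory.homologyFunctor (ModuleCat.{u} A) j).obj ω),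
      ← nontrivial_extM_iff (isLocHom_prime p) (W.homology j)]
    exact ((extM _).mapIso ((DerivedCategory.homologyFunctor (ModuleCat.{u} A) j).mapIso g.symm ≪≫
      (DerivedCategory.homologyFunctorFactors (ModuleCat.{u} A) j).app W)).toLinearEquiv.toEquiv.nontrivial_congr
  have hn' : n = -(e : ℤ) := by
    have hq : (⟨p, inferInstance⟩ : PrimeSpectrum A) ∈ Module.support A (A ⧸ p) := by
      rw [Module.mem_support_iff_of_finite, Ideal.annihilator_quotient]
    have h := hres.top_mem_support (A ⧸ p) e ((Module.supportDim_quotient_eq_ringKrullDim p).trans he).le _ hq he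
    rw [zero_sub] at h
    have hnt := nontrivial_residue_at (W := W) p _ h
    by_contra hne
    haveI := hresn.residue (-(e : ℤ)) (Ne.symm hne)
    exact not_nontrivial _ hnt
  rw [heq, hiff, hn']

end Groth.Agent.DualCx
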