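import Groth.Agent.DualCx.SchemeLocus

/-!
# Dualizing modules force Cohen-Macaulayness
-/

set_option autoImplicit false
set_option linter.style.haveILetI false

open CategoryTheory CategoryTheory.Limits AlgebraicGeometry

universe u

attribute [local instance] HasDerivedCategory.standard

namespace Groth.Agent.DualCx

variable {X : Scheme.{u}}
    [∀ (U : Scheme.{u}) (j : U ⟶ X) [IsOpenImmersion j], PreservesFiniteLimits (Scheme.Modules.restrictFunctor j)]
    [∀ (R : CommRingCat.{u}), PreservesFiniteLimits (tilde.functor R)]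

theorem cm_stalk_of_single [IsLocallyNoetherian X] (ω : X.Modules)
    (hK : Dual2.IsDualizingSch X (DCoh.inD X ω)) (x : X) : LocCoh.IsCohenMacaulayLocalRing (X.presheaf.stalk x) := by
  obtain ⟨U, hU, hxU, -⟩ := exists_isAffineOpen_mem_and_subset (x := x) (U := ⊤) trivial
  obtain ⟨p, rfl⟩ : x ∈ Set.range hU.fromSpec.base := by rw [hU.range_fromSpec]; exact hxU
  obtain ⟨ω₀, hω₀, ⟨g⟩⟩ := hK Γ(X, U) hU.fromSpec
  haveI := hω₀.isNoetherianRing
  obtain ⟨e'⟩ := nonempty_stalk_equiv hU.fromSpec p
  suffices h : LocCoh.IsCohenMacaulayLocalRing (Localization.AtPrime p.asIdeal) from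
    Catenary.isCohenMacaulayLocalRing_of_ringEquiv e'.symm
  obtain ⟨W, a, b, hW, hinj, hzero, ⟨e⟩⟩ := exists_model hω₀.finite_injective_dimension
  haveI := hW
  haveI := hinj
  have hnt : Nontrivial (LocalizedModule p.asIdeal.primeCompl Γ(X, U)) := Module.mem_support_iff.1
    (Module.mem_support_iff_of_finite.2 (le_of_eq_of_le (Module.annihilator_eq_bot.2 inferInstance) bot_le))
  have key : ∀ i, p ∈ Module.support Γ(X, U) (EH W Γ(X, U) i) → i = 0 := fun i hi => by
    let ge : EH W Γ(X, U) i ≃ₗ[Γ(X, U)] Dual.HD Γ(X, U) ω₀ i := (((HomologicalComplex.homologyFunctor _ _ _).mapIso (dSelfIso W) ≪≫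
      ((DerivedCategory.homologyFunctorFactors (ModuleCat.{u} Γ(X, U)) i).app W).symm ≪≫
      (DerivedCategory.homologyFunctor (ModuleCat.{u} Γ(X, U)) i).mapIso e).toLinearEquiv)
    rw [ge.support_eq] at hi
    have h1 := (nontrivial_stalk_HD_iff hU.fromSpec g p i).2 hi
    by_contra hne
    have hz : IsZero (DCoh.HD (DCoh.inD X ω) i) := by
      rcases lt_or_gt_of_ne hne with h | h
      · exact DerivedCategory.isZero_of_isGE _ 0 i h
      · exact DerivedCategory.isZero_of_isLE _ 0 i h
    haveI := QCohLib.subsingleton_stalk_of_isZero hz (hU.fromSpec.base p)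
    exact not_nontrivial _ h1
  exact (cm_ring_iff p).2 (((cm_iff a b hω₀ hzero e Γ(X, U) p).2 fun i j hi hj => (key i hi).trans (key j hj).symm).resolve_left
    (not_subsingleton_iff_nontrivial.2 hnt))

end Groth.Agent.DualCx
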