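import Groth.Agent.DualCx.GorLocus
import Groth.Agent.DualCx.CMLocus
import Groth.Agent.SegreOne.Socle
import Groth.Agent.Catenary.CM
import Groth.Agent.QCohLib.StalkRestrict
import Groth.Agent.DerAdj.Devissage
import Groth.Prelude.Def_DualSch

/-!
# Cohen-Macaulay and Gorenstein loci of schemes with dualizing complexes
-/

set_option autoImplicit false
set_option linter.style.haveILetI false

open CategoryTheory CategoryTheory.Limits AlgebraicGeometry

universe u

attribute [local instance] HasDerivedCategory.standard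

namespace Groth.Agent.DualCx

/-- The stalk along an affine open immersion. -/
theorem nonempty_stalk_equiv {X : Scheme.{u}} {A : Type u} [CommRing A] (j : Spec (CommRingCat.of A) ⟶ X)
    [IsOpenImmersion j] (p : PrimeSpectrum A) :
    Nonempty (X.presheaf.stalk (j.base p) ≃+* Localization.AtPrime p.asIdeal) :=
  ⟨(asIso (j.stalkMap p)).commRingCatIsoToRingEquiv.trans (StructureSheaf.stalkIso A p).toRingEquiv.symm⟩

/-- Openness of a stalkwise property checked on affine charts. -/
theorem isOpen_of_charts {X : Scheme.{u}} (P : X → Prop)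
    (h : ∀ (A : Type u) [CommRing A] (j : Spec (CommRingCat.of A) ⟶ X) [IsOpenImmersion j],
      IsOpen {p : PrimeSpectrum A | P (j.base p)}) : IsOpen {x : X | P x} := by
  refine isOpen_iff_forall_mem_open.2 fun x hx => ?_
  obtain ⟨U, hU, hxU, -⟩ := exists_isAffineOpen_mem_and_subset (x := x) (U := ⊤) trivial
  let j : Spec (CommRingCat.of Γ(X, U)) ⟶ X := hU.fromSpec
  obtain ⟨p, rfl⟩ : x ∈ Set.range j.base := by
    show x ∈ Set.range hU.fromSpec.base
    rw [hU.range_fromSpec]; exact hxU
  exact ⟨j.base '' {q | P (j.base q)}, by rintro _ ⟨q, hq, rfl⟩; exact hq,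
    j.isOpenEmbedding.isOpenMap _ (h Γ(X, U) j), p, hx, rfl⟩

theorem cm_ring_iff_exists_unique {A : Type u} [CommRing A] [IsNoetherianRing A] {ω : Dual.D A}
    (hω : Dual.IsDualizing A ω) (p : PrimeSpectrum A) :
    LocCoh.IsCohenMacaulayLocalRing (Localization.AtPrime p.asIdeal) ↔
      ∃! i : ℤ, p ∈ Module.support A (Dual.HD A ω i) := by
  obtain ⟨W, a, b, hW, hinj, hzero, ⟨e⟩⟩ := exists_model hω.finite_injective_dimension
  haveI := hW
  haveI := hinj
  have hS : ∀ i, Module.support A (EH W A i) = Module.support A (Dual.HD A ω i) := fun i =>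
    (((HomologicalComplex.homologyFunctor _ _ _).mapIso (dSelfIso W) ≪≫
      ((DerivedCategory.homologyFunctorFactors (ModuleCat.{u} A) i).app W).symm ≪≫
      (DerivedCategory.homologyFunctor (ModuleCat.{u} A) i).mapIso e).toLinearEquiv).support_eq
  simp only [← hS]
  let B := Localization.AtPrime p.asIdeal
  haveI : IsNoetherianRing B := IsLocalization.isNoetherianRing p.asIdeal.primeCompl _ inferInstance
  haveI hnt : Nontrivial (LocalizedModule p.asIdeal.primeCompl A) := Module.mem_support_iff.1
    (Module.mem_support_iff_of_finite.2 (le_of_eq_of_le (Module.annihilator_eq_bot.2 inferInstance) bot_le))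
  refine ((cm_ring_iff p).trans (or_iff_right (not_subsingleton _)).symm).trans ((cm_iff a b hω hzero e A p).trans ?_)
  refine ⟨fun h => ?_, fun ⟨k, _, hk⟩ i j hi hj => (hk i hi).trans (hk j hj).symm⟩
  obtain ⟨n, hn, -, -⟩ := exists_residual_at a b hω hzero e p.asIdeal
  haveI : Module.Finite B (LocalizedModule p.asIdeal.primeCompl A) :=
    Module.Finite.of_isLocalizedModule p.asIdeal.primeCompl (LocalizedModule.mkLinearMap p.asIdeal.primeCompl A)
  obtain ⟨d, hd⟩ := DepthLib.exists_nat_supportDim (R := B) (LocalizedModule p.asIdeal.primeCompl A)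
  have htop := (mem_support_EH_iff W A p _).2 (hn.nontrivial_top _ d hd)
  exact ⟨n - d, htop, fun i hi => h i _ hi htop⟩

theorem nontrivial_stalk_tilde_iff {R : CommRingCat.{u}} (M : ModuleCat.{u} R) (q : PrimeSpectrum.Top R) :
    Nontrivial ((tilde M).presheaf.stalk q) ↔ Nontrivial (LocalizedModule q.asIdeal.primeCompl M) := by
  have : IsLocalizedModule q.asIdeal.primeCompl (tilde.toStalk M q).hom :=
    inferInstanceAs (IsLocalizedModule q.asIdeal.primeCompl (StructureSheaf.toStalkₗ _ M q))
  exact (IsLocalizedModule.iso q.asIdeal.primeCompl (tilde.toStalk M q).hom).toEquiv.nontrivial_congr.symm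

variable {X : Scheme.{u}}
    [∀ (U : Scheme.{u}) (j : U ⟶ X) [IsOpenImmersion j], PreservesFiniteLimits (Scheme.Modules.restrictFunctor j)]
    [∀ (R : CommRingCat.{u}), PreservesFiniteLimits (tilde.functor R)]

/-- Cohomology stalks in a chart. -/
theorem nontrivial_stalk_HD_iff {K : DCoh.D X} {A : Type u} [CommRing A] (j : Spec (CommRingCat.of A) ⟶ X)
    [IsOpenImmersion j] {ω : Dual.D A} (g : (DCoh.restrictD j).obj K ≅ (DCoh.tildeD (CommRingCat.of A)).obj ω)
    (p : PrimeSpectrum A) (i : ℤ) :
    Nontrivial ((DCoh.HD K i).presheaf.stalk (j.base p)) ↔ p ∈ Module.support A (Dual.HD A ω i) := by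
  haveI : PreservesFiniteColimits (Scheme.Modules.restrictFunctor j) := inferInstance
  haveI : PreservesFiniteColimits (tilde.functor (CommRingCat.of A)) := by
    have : PreservesColimitsOfSize.{u, u} (tilde.functor (CommRingCat.of A)) :=
      (tilde.adjunction).leftAdjoint_preservesColimits
    exact PreservesColimitsOfSize.preservesFiniteColimits _
  haveI : (tilde.functor (CommRingCat.of A)).Additive := Functor.additive_of_preserves_binary_products _
  obtain ⟨g1⟩ := DerAdj.homology_mapDerivedCategory (Scheme.Modules.restrictFunctor j) K i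
  obtain ⟨g2⟩ := DerAdj.homology_mapDerivedCategory (tilde.functor (CommRingCat.of A)) ω i
  let M := (DerivedCategory.homologyFunctor (ModuleCat.{u} A) i).obj ω
  let gg : (Scheme.Modules.restrictFunctor j).obj (DCoh.HD K i) ≅ (tilde.functor (CommRingCat.of A)).obj M :=
    g1.symm ≪≫ (DerivedCategory.homologyFunctor _ i).mapIso g ≪≫ g2
  let gs := (TopCat.Presheaf.stalkFunctor Ab.{u} p).mapIso ((Scheme.Modules.toPresheaf (Spec (CommRingCat.of A))).mapIso gg)
  have h1 : Nontrivial ((DCoh.HD K i).presheaf.stalk (j.base p)) ↔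
      Nontrivial (((Scheme.Modules.restrictFunctor j).obj (DCoh.HD K i)).presheaf.stalk p) := by
    rw [← not_subsingleton_iff_nontrivial, ← not_subsingleton_iff_nontrivial, not_iff_not]
    exact (QCohLib.subsingleton_restrict_stalk_iff j (DCoh.HD K i) p).symm
  refine h1.trans ((gs.addCommGroupIsoToAddEquiv.toEquiv.nontrivial_congr).trans ?_)
  rw [Module.mem_support_iff]
  exact nontrivial_stalk_tilde_iff (R := CommRingCat.of A) M p

theorem cm_stalk_iff [IsLocallyNoetherian X] {K : DCoh.D X} (hK : Dual2.IsDualizingSch X K) (x : X) :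
    LocCoh.IsCohenMacaulayLocalRing (X.presheaf.stalk x) ↔ ∃! i : ℤ, Nontrivial ((DCoh.HD K i).presheaf.stalk x) := by
  obtain ⟨U, hU, hxU, -⟩ := exists_isAffineOpen_mem_and_subset (x := x) (U := ⊤) trivial
  obtain ⟨p, rfl⟩ : x ∈ Set.range hU.fromSpec.base := by rw [hU.range_fromSpec]; exact hxU
  obtain ⟨ω, hω, ⟨g⟩⟩ := hK Γ(X, U) hU.fromSpec
  haveI := hω.isNoetherianRing
  obtain ⟨e⟩ := nonempty_stalk_equiv hU.fromSpec p
  rw [show LocCoh.IsCohenMacaulayLocalRing (X.presheaf.stalk (hU.fromSpec.base p)) ↔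
      LocCoh.IsCohenMacaulayLocalRing (Localization.AtPrime p.asIdeal) from
    ⟨fun h => Catenary.isCohenMacaulayLocalRing_of_ringEquiv e,
      fun h => Catenary.isCohenMacaulayLocalRing_of_ringEquiv e.symm⟩, cm_ring_iff_exists_unique hω p]
  exact existsUnique_congr fun i => (nontrivial_stalk_HD_iff hU.fromSpec g p i).symm

theorem isOpen_cm_stalk [IsLocallyNoetherian X] {K : DCoh.D X} (hK : Dual2.IsDualizingSch X K) :
    IsOpen {x : X | LocCoh.IsCohenMacaulayLocalRing (X.presheaf.stalk x)} := by
  refine isOpen_of_charts _ fun A _ j _ => ?_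
  obtain ⟨ω, hω, -⟩ := hK A j
  haveI := hω.isNoetherianRing
  obtain ⟨W, a, b, hW, hinj, hzero, ⟨e⟩⟩ := exists_model hω.finite_injective_dimension
  haveI := hW
  haveI := hinj
  convert isOpen_cm a b hω hzero e A using 1
  ext p
  obtain ⟨e'⟩ := nonempty_stalk_equiv j p
  haveI : IsNoetherianRing (Localization.AtPrime p.asIdeal) :=
    IsLocalization.isNoetherianRing p.asIdeal.primeCompl _ inferInstance
  have hnt : Nontrivial (LocalizedModule p.asIdeal.primeCompl A) := Module.mem_support_iff.1
    (Module.mem_support_iff_of_finite.2 (le_of_eq_of_le (Module.annihilator_eq_bot.2 inferInstance) bot_le))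
  show LocCoh.IsCohenMacaulayLocalRing _ ↔ _ ∨ _
  rw [or_iff_right (not_subsingleton_iff_nontrivial.2 hnt), ← cm_ring_iff]
  exact ⟨fun h => Catenary.isCohenMacaulayLocalRing_of_ringEquiv e',
    fun h => Catenary.isCohenMacaulayLocalRing_of_ringEquiv e'.symm⟩

theorem isOpen_gorenstein_stalk [IsLocallyNoetherian X] {K : DCoh.D X} (hK : Dual2.IsDualizingSch X K) :
    IsOpen {x : X | LocCoh.IsGorensteinLocalRing (X.presheaf.stalk x)} := by
  refine isOpen_of_charts _ fun A _ j _ => ?_
  obtain ⟨ω, hω, -⟩ := hK A j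
  haveI := hω.isNoetherianRing
  obtain ⟨W, a, b, hW, hinj, hzero, ⟨e⟩⟩ := exists_model hω.finite_injective_dimension
  haveI := hW
  haveI := hinj
  convert isOpen_gorenstein a b hω hzero e using 1
  ext p
  obtain ⟨e'⟩ := nonempty_stalk_equiv j p
  exact ⟨fun h => haveI : LocCoh.IsGorensteinLocalRing (X.presheaf.stalk (j.base p)) := h
    SegreOne.isGorensteinLocalRing_of_ringEquiv e',
    fun h => haveI : LocCoh.IsGorensteinLocalRing (Localization.AtPrime p.asIdeal) := h
    SegreOne.isGorensteinLocalRing_of_ringEquiv e'.symm⟩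

end Groth.Agent.DualCx
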