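import Groth.Agent.DualCx.GorenRing
import Groth.Agent.DualCx.SchemeLocus
import Groth.Agent.LocFree.Retract
import Groth.Prelude.Def_Dual3

/-!
# Gorenstein schemes and invertible dualizing complexes
-/

set_option autoImplicit false
set_option linter.style.haveILetI false

universe v u

open CategoryTheory CategoryTheory.Limits AlgebraicGeometry TensorProduct

attribute [local instance] HasDerivedCategory.standard

namespace Groth.Agent.DualCx

section Abstract

variable {C D E : Type*} [Category C] [Category D] [Category E] [Abelian C] [Abelian D] [Abelian E]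

theorem nonempty_mapDC_comp [HasDerivedCategory C] [HasDerivedCategory D] [HasDerivedCategory E]
    (F : C ⥤ D) (G : D ⥤ E) (H : C ⥤ E) [F.Additive] [G.Additive] [H.Additive]
    [PreservesFiniteLimits F] [PreservesFiniteColimits F] [PreservesFiniteLimits G] [PreservesFiniteColimits G]
    [PreservesFiniteLimits H] [PreservesFiniteColimits H] (α : H ≅ F ⋙ G) (X : DerivedCategory C) :
    Nonempty (H.mapDerivedCategory.obj X ≅ G.mapDerivedCategory.obj (F.mapDerivedCategory.obj X)) := by
  let K := DerivedCategory.Q.objPreimage X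
  let eX : DerivedCategory.Q.obj K ≅ X := DerivedCategory.Q.objObjPreimageIso X
  refine ⟨H.mapDerivedCategory.mapIso eX.symm ≪≫ H.mapDerivedCategoryFactors.app K ≪≫
    DerivedCategory.Q.mapIso ?_ ≪≫ (G.mapDerivedCategoryFactors.app ((F.mapHomologicalComplex _).obj K)).symm ≪≫
    G.mapDerivedCategory.mapIso ((F.mapDerivedCategoryFactors.app K).symm ≪≫ F.mapDerivedCategory.mapIso eX)⟩
  exact (NatIso.mapHomologicalComplex α (ComplexShape.up ℤ)).app K ≪≫
    HomologicalComplex.Hom.isoOfComponents (fun _ => Iso.refl _) (fun _ _ _ => by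
      dsimp
      exact (Category.id_comp _).trans (Category.comp_id _).symm)

theorem nonempty_iso_single' [HasDerivedCategory C] (X : DerivedCategory C) (k : ℤ)
    (hX : ∀ i, i ≠ k → IsZero ((DerivedCategory.homologyFunctor C i).obj X)) :
    Nonempty (X ≅ (DerivedCategory.singleFunctor C k).obj ((DerivedCategory.homologyFunctor C k).obj X)) := by
  haveI : X.IsGE k := (DerivedCategory.isGE_iff X k).2 fun i hi => hX i hi.ne
  haveI : X.IsLE k := (DerivedCategory.isLE_iff X k).2 fun i hi => hX i hi.ne'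
  obtain ⟨Y, ⟨g⟩⟩ := DerivedCategory.exists_iso_singleFunctor_obj_of_isGE_of_isLE X k
  exact ⟨g ≪≫ (DerivedCategory.singleFunctor C k).mapIso
    (((DerivedCategory.singleFunctorCompHomologyFunctorIso C k).app Y).symm ≪≫
      (DerivedCategory.homologyFunctor C k).mapIso g.symm)⟩

theorem homology_of_shift_single [HasDerivedCategory C] {X : DerivedCategory C} {M : C} {n : ℤ}
    (g : X ≅ ((DerivedCategory.singleFunctor C 0).obj M)⟦n⟧) :
    (∀ i, i ≠ -n → IsZero ((DerivedCategory.homologyFunctor C i).obj X)) ∧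
      Nonempty ((DerivedCategory.homologyFunctor C (-n)).obj X ≅ M) := by
  let g' : X ≅ (DerivedCategory.singleFunctor C (-n)).obj M :=
    g ≪≫ ((DerivedCategory.singleFunctors C).shiftIso n (-n) 0 (by omega)).app M
  refine ⟨fun i hi => IsZero.of_iso ?_ ((DerivedCategory.homologyFunctor C i).mapIso g'),
    ⟨(DerivedCategory.homologyFunctor C (-n)).mapIso g' ≪≫
      (DerivedCategory.singleFunctorCompHomologyFunctorIso C (-n)).app M⟩⟩
  rcases lt_or_gt_of_ne hi with h | h
  · exact DerivedCategory.isZero_of_isGE _ (-n) i h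
  · exact DerivedCategory.isZero_of_isLE _ (-n) i h

end Abstract

theorem nonempty_extendScalars_iso {R S : CommRingCat.{u}} (φ : R ⟶ S) (P : ModuleCat.{u} R)
    (a : Algebra R S) (h : a.algebraMap = φ.hom) (H : letI := a; (S ⊗[R] P) ≃ₗ[S] S) :
    Nonempty ((ModuleCat.extendScalars φ.hom).obj P ≅ ModuleCat.of S S) := by
  have : a = φ.hom.toAlgebra := Algebra.algebra_ext _ _ fun r => congrArg (fun g : R →+* S => g r) h
  subst this
  exact ⟨LinearEquiv.toModuleIso H⟩

section Scheme

variable {X : Scheme.{u}}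
variable [∀ (U V : Scheme.{u}) (j : U ⟶ V) [IsOpenImmersion j], PreservesFiniteLimits (Scheme.Modules.restrictFunctor j)]
variable [∀ (R : CommRingCat.{u}), PreservesFiniteLimits (tilde.functor R)]

/-- `restrict j (H^i K) ≅ (H^i ω)~` on a chart. -/
theorem nonempty_homology_chart {K : DCoh.D X} {A : Type u} [CommRing A] (j : Spec (CommRingCat.of A) ⟶ X)
    [IsOpenImmersion j] {ω : Dual.D A} (g : (DCoh.restrictD j).obj K ≅ (DCoh.tildeD (CommRingCat.of A)).obj ω) (i : ℤ) :
    Nonempty ((Scheme.Modules.restrictFunctor j).obj (DCoh.HD K i) ≅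
      (tilde.functor (CommRingCat.of A)).obj (((DerivedCategory.homologyFunctor (ModuleCat.{u} A) i).obj ω))) := by
  haveI : PreservesFiniteColimits (Scheme.Modules.restrictFunctor j) := inferInstance
  haveI : PreservesFiniteColimits (tilde.functor (CommRingCat.of A)) := by
    have : PreservesColimitsOfSize.{u, u} (tilde.functor (CommRingCat.of A)) :=
      (tilde.adjunction).leftAdjoint_preservesColimits
    exact PreservesColimitsOfSize.preservesFiniteColimits _
  haveI : (tilde.functor (CommRingCat.of A)).Additive := Functor.additive_of_preserves_binary_products _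
  obtain ⟨g1⟩ := DerAdj.homology_mapDerivedCategory (Scheme.Modules.restrictFunctor j) K i
  obtain ⟨g2⟩ := DerAdj.homology_mapDerivedCategory (tilde.functor (CommRingCat.of A)) ω i
  exact ⟨g1.symm ≪≫ (DerivedCategory.homologyFunctor _ i).mapIso g ≪≫ g2⟩

theorem nonempty_tildeD_single (A : Type u) [CommRing A] (k : ℤ) :
    Nonempty ((DCoh.tildeD (CommRingCat.of A)).obj
        ((DerivedCategory.singleFunctor (ModuleCat.{u} A) k).obj (ModuleCat.of A A)) ≅
      (DerivedCategory.singleFunctor (Spec (CommRingCat.of A)).Modules k).obj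
        (Coh.structureModule (Spec (CommRingCat.of A)))) := by
  haveI : PreservesFiniteColimits (tilde.functor (CommRingCat.of A)) := by
    have : PreservesColimitsOfSize.{u, u} (tilde.functor (CommRingCat.of A)) :=
      (tilde.adjunction).leftAdjoint_preservesColimits
    exact PreservesColimitsOfSize.preservesFiniteColimits _
  haveI : (tilde.functor (CommRingCat.of A)).Additive := Functor.additive_of_preserves_binary_products _
  exact ⟨((tilde.functor (CommRingCat.of A)).mapDerivedCategorySingleFunctor k).app (ModuleCat.of A A) ≪≫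
    (DerivedCategory.singleFunctor (Spec (CommRingCat.of A)).Modules k).mapIso
      (tildeSelf (R := CommRingCat.of A))⟩

theorem isGorenstein_of_isInvertibleD [IsLocallyNoetherian X] {K : DCoh.D X} (hK : Dual2.IsDualizingSch X K)
    (h : Dual3.IsInvertibleD K) : Dual3.IsGorenstein X := by
  refine ⟨inferInstance, fun x => ?_⟩
  obtain ⟨U, n, hxU, ⟨g⟩⟩ := h x
  obtain ⟨V, hV, hxV, hVU⟩ := exists_isAffineOpen_mem_and_subset (x := x) (U := U) hxU
  obtain ⟨p, rfl⟩ : x ∈ Set.range hV.fromSpec.base := by rw [hV.range_fromSpec]; exact hxV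
  obtain ⟨ω, hω, ⟨gω⟩⟩ := hK Γ(X, V) hV.fromSpec
  haveI := hω.isNoetherianRing
  let j := IsOpenImmersion.lift U.ι hV.fromSpec (by
    rw [hV.range_fromSpec, Scheme.Opens.range_ι]; exact hVU)
  have hj : j ≫ U.ι = hV.fromSpec := IsOpenImmersion.lift_fac _ _ _
  haveI : IsOpenImmersion (j ≫ U.ι) := hj ▸ inferInstance
  haveI : IsOpenImmersion j := IsOpenImmersion.of_comp j U.ι
  obtain ⟨h0, ⟨hk⟩⟩ := homology_of_shift_single g
  let A : Type u := Γ(X, V)
  have hres : ∀ i, Nonempty ((tilde.functor (CommRingCat.of A)).obj (((DerivedCategory.homologyFunctor (ModuleCat.{u} A) i).obj ω)) ≅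
      (Scheme.Modules.restrictFunctor j).obj
        ((DerivedCategory.homologyFunctor (U : Scheme.{u}).Modules i).obj ((DCoh.restrictD U.ι).obj K))) := fun i => by
    obtain ⟨g1⟩ := nonempty_homology_chart hV.fromSpec gω i
    obtain ⟨g2⟩ := DerAdj.homology_mapDerivedCategory (Scheme.Modules.restrictFunctor U.ι) K i
    exact ⟨g1.symm ≪≫ (Scheme.Modules.restrictFunctorCongr hj.symm).app _ ≪≫
      (Scheme.Modules.restrictFunctorComp j U.ι).app _ ≪≫
      (Scheme.Modules.restrictFunctor j).mapIso g2.symm⟩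
  have hz : ∀ i, i ≠ -n → IsZero ((DerivedCategory.homologyFunctor (ModuleCat.{u} A) i).obj ω) := fun i hi => by
    obtain ⟨g1⟩ := hres i
    have h1 : IsZero ((tilde.functor (CommRingCat.of A)).obj (((DerivedCategory.homologyFunctor (ModuleCat.{u} A) i).obj ω))) :=
      (Functor.map_isZero (Scheme.Modules.restrictFunctor j) (h0 i hi)).of_iso g1
    rw [IsZero.iff_id_eq_zero]
    apply (tilde.functor (CommRingCat.of A)).map_injective
    exact h1.eq_of_src _ _
  obtain ⟨g1⟩ := hres (-n)
  let eM : ((DerivedCategory.homologyFunctor (ModuleCat.{u} A) (-n)).obj ω) ≅ ModuleCat.of A A := (tilde.functor (CommRingCat.of A)).preimageIso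
    (g1 ≪≫ (Scheme.Modules.restrictFunctor j).mapIso hk ≪≫ Scheme.Modules.restrictUnitIso j ≪≫
      (tildeSelf (R := CommRingCat.of A)).symm)
  obtain ⟨g3⟩ := nonempty_iso_single' ω (-n) hz
  have hd : Dual.IsDualizing A (Dual.inD A A) := isDualizing_of_iso
    ((shiftFunctor (Dual.D A) (-n)).mapIso (g3 ≪≫ (DerivedCategory.singleFunctor (ModuleCat.{u} A) (-n)).mapIso eM) ≪≫
      ((DerivedCategory.singleFunctors (ModuleCat.{u} A)).shiftIso (-n) 0 (-n) (by omega)).app (ModuleCat.of A A))
    (isDualizing_shift hω (-n))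
  obtain ⟨m, hm⟩ := exists_injDim_of_isDualizing hd (Iso.refl _)
  haveI := ((Groth.Agent.S0345.result A).1 ⟨m, hm⟩).1
  obtain ⟨e'⟩ := nonempty_stalk_equiv hV.fromSpec p
  haveI : LocCoh.IsGorensteinLocalRing (Localization.AtPrime p.asIdeal) :=
    LocCoh.IsGorensteinRing.isGorensteinLocalRing_localization p.asIdeal
  exact SegreOne.isGorensteinLocalRing_of_ringEquiv e'.symm

theorem isInvertibleD_of_isGorenstein [IsLocallyNoetherian X] {K : DCoh.D X} (hK : Dual2.IsDualizingSch X K)
    (h : Dual3.IsGorenstein X) : Dual3.IsInvertibleD K := by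
  intro x
  obtain ⟨V, hV, hxV, -⟩ := exists_isAffineOpen_mem_and_subset (x := x) (U := ⊤) trivial
  obtain ⟨p, rfl⟩ : x ∈ Set.range hV.fromSpec.base := by rw [hV.range_fromSpec]; exact hxV
  let A : Type u := Γ(X, V)
  let j : Spec (CommRingCat.of A) ⟶ X := hV.fromSpec
  haveI : IsOpenImmersion j := inferInstanceAs (IsOpenImmersion hV.fromSpec)
  obtain ⟨ω, hω, ⟨gω⟩⟩ := hK A j
  haveI := hω.isNoetherianRing
  obtain ⟨W, a, b, hW, hinj, hzero, ⟨eW⟩⟩ := exists_model hω.finite_injective_dimension
  haveI := hW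
  haveI := hinj
  haveI := fun i => finite_homology_model eW hω.finite_cohomology i
  obtain ⟨e'⟩ := nonempty_stalk_equiv j p
  haveI := h.2 (j.base p)
  obtain ⟨k, h0, hfree, hrank⟩ := (gorenstein_at_iff a b hω hzero eW p).1
    (SegreOne.isGorensteinLocalRing_of_ringEquiv e')
  have hH : ∀ i, Nonempty (W.homology i ≅ ((DerivedCategory.homologyFunctor (ModuleCat.{u} A) i).obj ω)) := fun i =>
    ⟨((DerivedCategory.homologyFunctorFactors (ModuleCat.{u} A) i).app W).symm ≪≫
      (DerivedCategory.homologyFunctor (ModuleCat.{u} A) i).mapIso eW⟩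
  -- a neighbourhood where the other cohomology modules vanish
  let T : Set (PrimeSpectrum A) := ⋃ i ∈ (Finset.Icc a b).erase k, Module.support A (W.homology i)
  have hT : IsClosed T := (((Finset.Icc a b).erase k).finite_toSet).isClosed_biUnion fun i _ => by
    rw [Module.support_eq_zeroLocus]
    exact PrimeSpectrum.isClosed_zeroLocus _
  have hpT : p ∉ T := by
    intro hp
    obtain ⟨i, hi, h⟩ := Set.mem_iUnion₂.1 hp
    exact h0 i (Finset.mem_erase.1 hi).1 h
  obtain ⟨_, ⟨f₀, rfl⟩, hpf₀, hf₀⟩ :=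
    PrimeSpectrum.isTopologicalBasis_basic_opens.exists_subset_of_mem_open (show p ∈ Tᶜ from hpT) hT.isOpen_compl
  haveI : Module.FinitePresentation A (W.homology k) := Module.finitePresentation_of_finite A _
  haveI : Module.Free (Localization.AtPrime p.asIdeal) (LocalizedModule p.asIdeal.primeCompl (W.homology k)) := hfree
  obtain ⟨f₁, hf₁, hfree₁, hrank₁⟩ := Module.FinitePresentation.exists_free_localizedModule_powers
    p.asIdeal.primeCompl (LocalizedModule.mkLinearMap p.asIdeal.primeCompl (W.homology k))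
    (Localization.AtPrime p.asIdeal)
  let f := f₀ * f₁
  let S := Localization.Away f
  have hdvd : f₁ ∣ f := Dvd.intro_left f₀ rfl
  let φ : CommRingCat.of A ⟶ CommRingCat.of S := CommRingCat.ofHom (algebraMap A S)
  obtain ⟨q, hq⟩ : p ∈ Set.range (Spec.map φ).base := by
    rw [← Scheme.Hom.coe_opensRange, Scheme.Hom.opensRange_localizationAway]
    exact fun hfp => (p.2.mem_or_mem hfp).elim hpf₀ hf₁
  haveI : Nontrivial S := PrimeSpectrum.nontrivial (R := S) q
  let j' : Spec (CommRingCat.of S) ⟶ X := Spec.map φ ≫ j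
  obtain ⟨ω', hω', ⟨gω'⟩⟩ := hK S j'
  haveI := hω'.isNoetherianRing
  have hbase : ∀ r : PrimeSpectrum S, j'.base r = j.base ((Spec.map φ).base r) := fun r => by
    simp [j']
  have hzero' : ∀ i, i ≠ k → IsZero ((DerivedCategory.homologyFunctor (ModuleCat.{u} S) i).obj ω') := by
    intro i hi
    suffices Subsingleton (((DerivedCategory.homologyFunctor (ModuleCat.{u} S) i).obj ω')) from ModuleCat.isZero_of_subsingleton _
    rw [← Module.support_eq_empty_iff (R := S)]
    refine Set.eq_empty_of_forall_notMem fun r hr => ?_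
    rw [← nontrivial_stalk_HD_iff j' gω' r i, hbase, nontrivial_stalk_HD_iff j gω] at hr
    obtain ⟨g⟩ := hH i
    rw [← g.toLinearEquiv.support_eq] at hr
    by_cases hin : i ∈ Finset.Icc a b
    · have hrange : (Spec.map φ).base r ∈ (Spec.map φ).opensRange := ⟨r, rfl⟩
      rw [Scheme.Hom.opensRange_localizationAway] at hrange
      have : (Spec.map φ).base r ∈ T :=
        Set.mem_biUnion (Finset.mem_erase.2 ⟨hi, hin⟩) hr
      exact hf₀ (fun hf => hrange (Ideal.mul_mem_right f₁ _ hf)) this
    · haveI : Subsingleton (W.homology i) := ModuleCat.subsingleton_of_isZero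
        (ShortComplex.isZero_homology_of_isZero_X₂ _ (hzero i (by simp at hin; omega)))
      simp [Module.support_eq_empty] at hr
  -- the remaining one is free of rank one
  obtain ⟨gk⟩ := hH k
  obtain ⟨e1⟩ : Nonempty ((ModuleCat.extendScalars φ.hom).obj (((DerivedCategory.homologyFunctor (ModuleCat.{u} A) k).obj ω)) ≅ ModuleCat.of S S) := by
    suffices h' : Nonempty ((ModuleCat.extendScalars φ.hom).obj (W.homology k) ≅ ModuleCat.of S S) from
      ⟨(ModuleCat.extendScalars φ.hom).mapIso gk.symm ≪≫ h'.some⟩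
    let S₁ := Localization.Away f₁
    let ψ : S₁ →+* S := IsLocalization.Away.lift f₁ (isUnit_of_dvd_unit (map_dvd (algebraMap A S) hdvd)
      (IsLocalization.Away.algebraMap_isUnit f))
    letI : Algebra S₁ S := ψ.toAlgebra
    haveI : IsScalarTower A S₁ S := IsScalarTower.of_algebraMap_eq fun r =>
      (IsLocalization.Away.lift_eq f₁ _ r).symm
    let P := LocalizedModule (Submonoid.powers f₁) (W.homology k)
    haveI : Module.Free S₁ P := hfree₁
    haveI : Module.Finite S₁ P := Module.Finite.of_isLocalizedModule (Submonoid.powers f₁)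
      (LocalizedModule.mkLinearMap (Submonoid.powers f₁) (W.homology k))
    haveI : Nontrivial S₁ := ψ.domain_nontrivial
    let l : P ≃ₗ[S₁] S₁ := LinearEquiv.ofFinrankEq _ _
      ((hrank₁.trans hrank).trans (Module.finrank_self S₁).symm)
    let b₁ := (LocalizedModule.isBaseChange (Submonoid.powers f₁) (W.homology k)).equiv
    exact nonempty_extendScalars_iso φ (W.homology k) (inferInstanceAs (Algebra A S)) rfl
      ((AlgebraTensorModule.cancelBaseChange A S₁ S S (W.homology k)).symm ≪≫ₗ
        LinearEquiv.baseChange S₁ S _ _ (b₁ ≪≫ₗ l) ≪≫ₗ AlgebraTensorModule.rid S₁ S S)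
  obtain ⟨g1⟩ := nonempty_homology_chart j gω k
  obtain ⟨g2⟩ := nonempty_homology_chart j' gω' k
  haveI : (tilde.functor (CommRingCat.of S)).Full := (tilde.fullyFaithfulFunctor).full
  haveI : (tilde.functor (CommRingCat.of S)).Faithful := (tilde.fullyFaithfulFunctor).faithful
  let eM : ((DerivedCategory.homologyFunctor (ModuleCat.{u} S) k).obj ω') ≅ ModuleCat.of S S := (tilde.functor (CommRingCat.of S)).preimageIso
    (g2.symm ≪≫ (Scheme.Modules.restrictFunctorComp (Spec.map φ) j).app _ ≪≫
      (Scheme.Modules.restrictFunctor (Spec.map φ)).mapIso g1 ≪≫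
      (Scheme.Modules.restrictFunctorIsoPullback (Spec.map φ)).app _ ≪≫
      ((QCohLib.pullbackTildeIso φ).app (((DerivedCategory.homologyFunctor (ModuleCat.{u} A) k).obj ω))).symm ≪≫
      (tilde.functor (CommRingCat.of S)).mapIso e1)
  obtain ⟨g3⟩ := nonempty_iso_single' ω' k hzero'
  obtain ⟨g4⟩ := nonempty_tildeD_single S k
  let U := j'.opensRange
  let ι' := j'.isoOpensRange.inv
  haveI : IsOpenImmersion (ι' ≫ j') := inferInstance
  obtain ⟨g5⟩ := nonempty_mapDC_comp (Scheme.Modules.restrictFunctor j') (Scheme.Modules.restrictFunctor ι')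
    (Scheme.Modules.restrictFunctor U.ι)
    ((Scheme.Modules.restrictFunctorCongr j'.isoOpensRange_inv_comp).symm ≪≫
      Scheme.Modules.restrictFunctorComp ι' j') K
  refine ⟨U, -k, ⟨q, by rw [hbase, hq]⟩, ⟨g5 ≪≫ (DCoh.restrictD ι').mapIso (gω' ≪≫
    (DCoh.tildeD (CommRingCat.of S)).mapIso (g3 ≪≫ (DerivedCategory.singleFunctor (ModuleCat.{u} S) k).mapIso eM) ≪≫
    g4) ≪≫ ((Scheme.Modules.restrictFunctor ι').mapDerivedCategorySingleFunctor k).app _ ≪≫
    (DerivedCategory.singleFunctor (U : Scheme.{u}).Modules k).mapIso (Scheme.Modules.restrictUnitIso ι') ≪≫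
    (((DerivedCategory.singleFunctors (U : Scheme.{u}).Modules).shiftIso (-k) k 0 (by omega)).app _).symm⟩⟩

end Scheme

end Groth.Agent.DualCx
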