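import Groth.Agent.DualCx.FlatBCGlobal
import Groth.Agent.DualCx.FiniteGlobal
import Groth.Agent.FibDescLib.UnitCrit
import Mathlib.RingTheory.Flat.Basic

/-!
# Boundedness and finiteness for the algebraic upper shriek
-/

set_option autoImplicit false
set_option linter.style.haveILetI false

open CategoryTheory CategoryTheory.Limits TensorProduct

universe u

attribute [local instance] HasDerivedCategory.standard

namespace Groth.Agent.DualCx

theorem rightAdjoint_LBC_bounds {R P A : Type u} [CommRing R] [CommRing P] [CommRing A] [IsNoetherianRing R]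
    [IsNoetherianRing P] [IsNoetherianRing A] {φ : R →+* P} (hflat : φ.Flat) [DRing.HasLBaseChange φ] {ψ : P →+* A} (hψ : ψ.Finite)
    (Rψ : Dual.D P ⥤ Dual.D A) (adj : DRing.restrictD ψ ⊣ Rψ) (K : Dual.D R) (a : ℤ)
    (hKa : ∀ i : ℤ, i < a → Subsingleton (Dual.HD R K i)) :
    (∀ i : ℤ, i < a → Subsingleton (Dual.HD A (Rψ.obj ((DRing.LBaseChange φ).obj K)) i)) ∧
      ((∀ i : ℤ, Module.Finite R (Dual.HD R K i)) →
        ∀ i : ℤ, Module.Finite A (Dual.HD A (Rψ.obj ((DRing.LBaseChange φ).obj K)) i)) := by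
  haveI : K.IsGE a := (DerivedCategory.isGE_iff K a).2 fun i hi => @ModuleCat.isZero_of_subsingleton _ _ _ (hKa i hi)
  obtain ⟨C, hC, ⟨eC⟩⟩ := K.exists_iso_Q_obj_of_isGE a
  haveI := preservesLimits_extM hflat
  haveI : PreservesFiniteColimits (extM φ) :=
    haveI : PreservesColimitsOfSize.{0, 0} (extM φ) :=
      (ModuleCat.extendRestrictScalarsAdj.{u, u, u} φ).leftAdjoint_preservesColimits
    inferInstance
  let C' := (extC φ).obj C
  haveI : C'.IsStrictlyGE a := (CochainComplex.isStrictlyGE_iff _ _).2 fun i hi =>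
    Functor.map_isZero (extM φ) (C.isZero_of_isStrictlyGE a i hi)
  obtain ⟨J, q, hJ, hinj, hq⟩ := FibDescLib.exists_injective_resolution C' a
  haveI := hinj
  haveI := CochainComplex.isKInjective_of_injective J a
  haveI : IsIso (DerivedCategory.Q.map q) := (DerivedCategory.isIso_Q_map_iff_quasiIso _ _).2 hq
  obtain ⟨gL⟩ := nonempty_extC_iso_LBC_flat hflat C eC.symm
  obtain ⟨g⟩ := nonempty_coC_iso_rightAdjoint ψ Rψ adj J ((asIso (DerivedCategory.Q.map q)).symm ≪≫ gL)
  let V := (coC ψ).obj J
  let eV : ∀ i, V.homology i ≅ (DerivedCategory.homologyFunctor (ModuleCat.{u} A) i).obj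
      (Rψ.obj ((DRing.LBaseChange φ).obj K)) := fun i =>
    ((DerivedCategory.homologyFunctorFactors (ModuleCat.{u} A) i).app V).symm ≪≫
      (DerivedCategory.homologyFunctor (ModuleCat.{u} A) i).mapIso g
  have hzero : ∀ i, i < a → IsZero (J.X i) := fun i hi => J.isZero_of_isStrictlyGE a i hi
  refine ⟨fun i hi => ?_, fun hfin i => ?_⟩
  · exact ModuleCat.subsingleton_of_isZero (((ShortComplex.isZero_homology_of_isZero_X₂ (V.sc i)
      (Functor.map_isZero (coM ψ) (hzero i hi)))).of_iso (eV i).symm)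
  · have hJfin : ∀ j, Module.Finite P (J.homology j) := fun j => by
      letI := φ.toAlgebra
      haveI := hfin j
      haveI : Module.Finite P ((extM φ).obj (ModuleCat.of R (Dual.HD R K j))) :=
        inferInstanceAs (Module.Finite P (P ⊗[R] (Dual.HD R K j)))
      haveI hqj : IsIso (HomologicalComplex.homologyMap q j) :=
        (quasiIsoAt_iff_isIso_homologyMap _ _).1 (hq.quasiIsoAt j)
      let e : (extM φ).obj (ModuleCat.of R (Dual.HD R K j)) ≅ J.homology j :=
        (extM φ).mapIso ((DerivedCategory.homologyFunctor (ModuleCat.{u} R) j).mapIso eC ≪≫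
          (DerivedCategory.homologyFunctorFactors (ModuleCat.{u} R) j).app C) ≪≫
        ((C.sc j).mapHomologyIso (extM φ)).symm ≪≫ @asIso _ _ _ _ (HomologicalComplex.homologyMap q j) hqj
      exact Module.Finite.equiv e.toLinearEquiv
    haveI : Module.Finite A ((HomologicalComplex.homologyFunctor (ModuleCat.{u} A) (ComplexShape.up ℤ) i).obj
        (dCx V (ModuleCat.of A A))) := finite_dual_coC hψ a hzero hJfin (ModuleCat.of A A) i
    exact Module.Finite.equiv ((HomologicalComplex.homologyFunctor _ _ i).mapIso (dSelfIso V) ≪≫ eV i).toLinearEquiv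

end Groth.Agent.DualCx
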