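import Groth.Agent.DualCx.TopDual
import Groth.Agent.DualCx.AnnDual

/-!
# Supports and associated primes of the top dual
-/

set_option autoImplicit false
set_option linter.style.haveILetI false

open CategoryTheory CategoryTheory.Limits

universe u

attribute [local instance] HasDerivedCategory.standard

namespace Groth.Agent.DualCx

open Groth.Agent.LocCohLib Groth.Agent.RGamma

variable {A : Type u} [CommRing A] [IsLocalRing A] [IsNoetherianRing A]

local notation "𝔪" => IsLocalRing.maximalIdeal A

theorem eq_of_dim_quotient_le {q p : Ideal A} [q.IsPrime] [p.IsPrime] (hqp : q ≤ p) (d : ℕ)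
    (hp : ringKrullDim (A ⧸ p) = d) (hq : ringKrullDim (A ⧸ q) ≤ d) : q = p := by
  by_contra hne
  obtain ⟨x, hxp, hxq⟩ := SetLike.exists_of_lt (lt_of_le_of_ne hqp hne)
  have hxm : x ∈ 𝔪 := IsLocalRing.le_maximalIdeal (Ideal.IsPrime.ne_top ‹p.IsPrime›) hxp
  have h1 : ringKrullDim (A ⧸ p) ≤ ringKrullDim (A ⧸ (q ⊔ Ideal.span {x})) :=
    ringKrullDim_le_of_surjective (Ideal.Quotient.factor (sup_le hqp ((Ideal.span_singleton_le_iff_mem _).2 hxp)))
      (Ideal.Quotient.factor_surjective _)
  rw [← Module.supportDim_quotient_eq_ringKrullDim, ← supportDim_quot_add_one q x hxm hxq,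
    Module.supportDim_quotient_eq_ringKrullDim] at hq
  exact lt_of_dim_add_one_le ((add_le_add h1 le_rfl).trans hq |> fun h => by rwa [hp] at h) le_rfl

/-- Associated primes of the top dual. -/
theorem associatedPrimes_top {ω : Dual.D A} (hω : Dual.IsDualizing A ω) {W : DRing.Cx A} [W.IsKInjective]
    (a b : ℤ) (hzero : ∀ i, (i < a ∨ b < i) → IsZero (W.X i)) (e : DerivedCategory.Q.obj W ≅ ω) (hW : IsResidual W 0)
    (M : Type u) [AddCommGroup M] [Module A M] [Module.Finite A M] [Nontrivial M] (n : ℕ)
    (hdim : Module.supportDim A M = n) :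
    Module.supportDim A (EH W M (-(n : ℤ))) = n ∧
      associatedPrimes A (EH W M (-(n : ℤ))) = {p | p ∈ associatedPrimes A M ∧ ringKrullDim (A ⧸ p) = n} := by
  haveI := hW.injective
  let D := EH W M (-(n : ℤ))
  haveI : Module.Finite A D := hW.finite (ModuleCat.of A M) _
  have hsub : ∀ q : PrimeSpectrum A, q ∈ Module.support A D → q ∈ Module.support A M := fun q hq => by
    by_contra hns
    exact subsingleton_of_not_support M q hns _ hq
  have hleM : ∀ q : PrimeSpectrum A, q ∈ Module.support A M → ringKrullDim (A ⧸ q.asIdeal) ≤ n :=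
    supportDim_le_iff.1 hdim.le
  have htop : ∀ q : PrimeSpectrum A, q ∈ Module.support A M → ringKrullDim (A ⧸ q.asIdeal) = n → q ∈ Module.support A D := by
    intro q hq he
    have h := hW.top_mem_support M n hdim.le q hq he
    rwa [zero_sub] at h
  have hleD : Module.supportDim A D ≤ n := supportDim_le_iff.2 fun q hq => hleM q (hsub q hq)
  constructor
  · refine le_antisymm hleD ?_
    obtain ⟨q, hq, he⟩ : ∃ q ∈ Module.support A M, ringKrullDim (A ⧸ q.asIdeal) = n := by
      by_contra hne
      push Not at hne
      rcases Nat.eq_zero_or_pos n with rfl | hn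
      · obtain ⟨q, hq⟩ := (Module.nonempty_support_iff (R := A) (M := M)).2 inferInstance
        haveI : Nontrivial (A ⧸ q.asIdeal) := Ideal.Quotient.nontrivial_iff.2 q.2.ne_top
        exact hne q hq (le_antisymm (hleM q hq) (by exact_mod_cast ringKrullDim_nonneg_of_nontrivial))
      · have h : Module.supportDim A M ≤ ((n - 1 : ℕ) : WithBot ℕ∞) := supportDim_le_iff.2 fun q hq => by
          haveI : Nontrivial (A ⧸ q.asIdeal) := Ideal.Quotient.nontrivial_iff.2 q.2.ne_top
          obtain ⟨k, hk⟩ := DepthLib.exists_nat_supportDim (R := A) (A ⧸ q.asIdeal)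
          rw [Module.supportDim_quotient_eq_ringKrullDim] at hk
          have h1 := hleM q hq
          have h2 := hne q hq
          rw [hk] at h1 h2 ⊢
          have h1' : k ≤ n := by exact_mod_cast h1
          have h2' : k ≠ n := fun h => h2 (by rw [h])
          exact_mod_cast (show k ≤ n - 1 by omega)
        rw [hdim] at h
        have : n ≤ n - 1 := by exact_mod_cast h
        omega
    have h := supportDim_le_iff.1 (le_refl (Module.supportDim A D)) q (htop q hq he)
    rwa [he] at h
  · refine Set.ext fun p => ⟨fun hp => ?_, fun ⟨hpM, he⟩ => ?_⟩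
    · have hp0 := hp
      obtain ⟨hpp, v, hv⟩ := Submodule.isAssociatedPrime_iff.1 hp
      haveI := hpp
      have hpD : (⟨p, inferInstance⟩ : PrimeSpectrum A) ∈ Module.support A D :=
        DepthLib.mem_support_of_mem_associatedPrimes hp0
      have hpM : (⟨p, inferInstance⟩ : PrimeSpectrum A) ∈ Module.support A M := hsub _ hpD
      let B := Localization.AtPrime p
      let V := WAt W p
      let N := LocalizedModule p.primeCompl M
      haveI : IsNoetherianRing B := IsLocalization.isNoetherianRing p.primeCompl _ inferInstance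
      haveI : Module.Finite B N :=
        Module.Finite.of_isLocalizedModule p.primeCompl (LocalizedModule.mkLinearMap p.primeCompl M)
      haveI : Nontrivial N := Module.mem_support_iff.1 hpM
      haveI : Nontrivial (A ⧸ p) := Ideal.Quotient.nontrivial_iff.2 hpp.ne_top
      obtain ⟨ep, hep⟩ := DepthLib.exists_nat_supportDim (R := A) (A ⧸ p)
      rw [Module.supportDim_quotient_eq_ringKrullDim] at hep
      obtain ⟨d, hd⟩ := DepthLib.exists_nat_supportDim (R := B) N
      obtain ⟨c, hres, -, -⟩ := exists_residual_at a b hω hzero e p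
      obtain rfl := residual_degree_eq hW p hres hep
      have hntD : Nontrivial (EH V N (-(n : ℤ))) := (mem_support_EH_iff W M ⟨p, inferInstance⟩ _).1 hpD
      have hsum : (n : ℤ) = ep + d := by
        refine le_antisymm ?_ ?_
        · by_contra hlt
          haveI := hres.lower N d hd.le (-(n : ℤ)) (by omega)
          exact not_nontrivial _ hntD
        · by_contra hlt
          have h2 := (mem_support_EH_iff W M ⟨p, inferInstance⟩ (-(ep : ℤ) - d)).2 (hres.nontrivial_top N d hd)
          haveI := hW.lower M n hdim.le (-(ep : ℤ) - d) (by omega)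
          rw [Module.support_eq_empty] at h2
          exact h2
      have hd0 : d = 0 := by
        by_contra hd0
        obtain ⟨x, hx, hreg, -⟩ := top_dual_cut hres N d hd.le (Nat.one_le_iff_ne_zero.2 hd0)
        rw [show -(ep : ℤ) - d = -(n : ℤ) by omega] at hreg
        obtain ⟨z, hz⟩ := dcls_surjective W (ModuleCat.of A M) (-(n : ℤ)) v
        have hB := isLocHom_prime p
        let y := dcls V _ (-(n : ℤ)) (locCyc (algebraMap A B) z)
        have hy : y ≠ 0 := fun h0 => by
          obtain ⟨s, hs, hs0⟩ := (locCyc_eq_zero_iff hB z).1 h0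
          rw [hz] at hs0
          exact hs (show s ∈ p by rw [hv, Submodule.mem_colon_singleton, Submodule.mem_bot]; exact hs0)
        have hker : IsLocalRing.maximalIdeal B ≤ LinearMap.ker (LinearMap.toSpanSingleton B _ y) := by
          rw [← IsLocalization.AtPrime.map_eq_maximalIdeal p B, Ideal.map_le_iff_le_comap]
          intro c hc
          show algebraMap A B c • y = 0
          have hlin : ∀ r : A, algebraMap A B r • y = dcls V _ (-(n : ℤ)) (locCyc (algebraMap A B) (r • z)) := fun r => by
            rw [← map_smul]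
            refine congrArg _ (Subtype.ext ?_)
            show algebraMap A B r • ((extM (algebraMap A B)).map (ModuleCat.ofHom z.1)).hom =
              ((extM (algebraMap A B)).map (ModuleCat.ofHom (r • z.1))).hom
            rw [show ModuleCat.ofHom (r • z.1) = r • ModuleCat.ofHom z.1 from rfl, map_smul_loc]
            rfl
          rw [hlin]
          refine (locCyc_eq_zero_iff hB _).2 ⟨1, p.primeCompl.one_mem, ?_⟩
          rw [one_smul, map_smul, hz]
          rwa [hv, Submodule.mem_colon_singleton, Submodule.mem_bot] at hc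
        obtain ⟨g⟩ := nonempty_locIso p M
        obtain ⟨g'⟩ := EH_congr V g (-(n : ℤ))
        refine hy (g'.toLinearEquiv.map_eq_zero_iff.1 (hreg ?_))
        show x • g'.toLinearEquiv y = x • (0 : EH V N (-(n : ℤ)))
        rw [smul_zero, ← map_smul, show x • y = 0 from hker hx, map_zero]
      have he : ringKrullDim (A ⧸ p) = n := by rw [hep, show ep = n by omega]
      refine ⟨?_, he⟩
      obtain ⟨q, hq, hqp⟩ := DepthLib.exists_associatedPrime_le_of_mem_support (M := M) hpM
      haveI := hq.1
      obtain rfl := eq_of_dim_quotient_le hqp n he (hleM ⟨q, hq.1⟩ (DepthLib.mem_support_of_mem_associatedPrimes hq))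
      exact hq
    · haveI := hpM.1
      have hpD := htop ⟨p, hpM.1⟩ (DepthLib.mem_support_of_mem_associatedPrimes hpM) he
      obtain ⟨q, hq, hqp⟩ := DepthLib.exists_associatedPrime_le_of_mem_support (M := D) hpD
      haveI := hq.1
      obtain rfl := eq_of_dim_quotient_le hqp n he (hleM ⟨q, hq.1⟩ (hsub _ (DepthLib.mem_support_of_mem_associatedPrimes hq)))
      exact hq

end Groth.Agent.DualCx
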