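import Groth.Agent.DualCx.CMLocus
import Groth.Agent.DepthLib.Sk

/-!
# Depth of the top dual
-/

set_option autoImplicit false
set_option linter.style.haveILetI false

open CategoryTheory CategoryTheory.Limits
open scoped Pointwise

universe u

attribute [local instance] HasDerivedCategory.standard

namespace Groth.Agent.DualCx

variable {A : Type u} [CommRing A]

theorem pull_comp (W : DRing.Cx A) {N N' N'' : Type u} [AddCommGroup N] [Module A N] [AddCommGroup N'] [Module A N']
    [AddCommGroup N''] [Module A N''] (f : N →ₗ[A] N') (g : N' →ₗ[A] N'') (i : ℤ) (v : EH W N'' i) :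
    pull W (g ∘ₗ f) i v = pull W f i (pull W g i v) := by
  show (HomologicalComplex.homologyMap (dmap W (ModuleCat.ofHom (g ∘ₗ f))) i).hom v = _
  rw [show ModuleCat.ofHom (g ∘ₗ f) = ModuleCat.ofHom f ≫ ModuleCat.ofHom g from rfl, dmap_comp,
    HomologicalComplex.homologyMap_comp]
  rfl

variable [IsLocalRing A] [IsNoetherianRing A]

local notation "𝔪" => IsLocalRing.maximalIdeal A

/-- An element cutting the dimension. -/
theorem exists_cut (N : Type u) [AddCommGroup N] [Module A N] [Module.Finite A N] (d : ℕ)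
    (hd : Module.supportDim A N ≤ d) (hd1 : 1 ≤ d) :
    ∃ x ∈ 𝔪, ∀ p : PrimeSpectrum A, p ∈ Module.support A N → x ∈ p.asIdeal →
      ringKrullDim (A ⧸ p.asIdeal) ≤ ((d - 1 : ℕ) : WithBot ℕ∞) := by
  classical
  let T : Set (Ideal A) := {q | q ∈ (Module.annihilator A N).minimalPrimes ∧ q ≠ 𝔪}
  have hT : T.Finite := (Ideal.finite_minimalPrimes_of_isNoetherianRing A (Module.annihilator A N)).subset fun q hq => hq.1
  obtain ⟨x, hx, hxT⟩ : ∃ x ∈ 𝔪, ∀ q ∈ T, x ∉ q := by
    by_contra hne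
    push Not at hne
    obtain ⟨q, hqT, hle⟩ := (Ideal.subset_union_prime_finite hT 𝔪 𝔪 fun q hq _ _ => hq.1.1.1).mp
      (show ((𝔪 : Ideal A) : Set A) ⊆ ⋃ q ∈ T, (q : Set A) from fun x hx => by
        obtain ⟨q, hq, hxq⟩ := hne x hx
        exact Set.mem_biUnion hq hxq)
    exact hqT.2 (le_antisymm (IsLocalRing.le_maximalIdeal hqT.1.1.1.ne_top) hle)
  refine ⟨x, hx, fun p hp hxp => ?_⟩
  obtain ⟨q, hq, hqp⟩ := Ideal.exists_minimalPrimes_le (Module.mem_support_iff_of_finite.1 hp)
  by_cases hqm : q = 𝔪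
  · have hpm : p.asIdeal = 𝔪 := le_antisymm (IsLocalRing.le_maximalIdeal p.2.ne_top) (hqm ▸ hqp)
    rw [hpm, ringKrullDim_eq_zero_of_isField ((Ideal.Quotient.maximal_ideal_iff_isField_quotient _).1 inferInstance)]
    exact_mod_cast Nat.zero_le _
  haveI := hq.1.1
  have hxq : x ∉ q := hxT q ⟨hq, hqm⟩
  have h1 : ringKrullDim (A ⧸ p.asIdeal) ≤ ringKrullDim (A ⧸ (q ⊔ Ideal.span {x})) :=
    ringKrullDim_le_of_surjective (Ideal.Quotient.factor (sup_le hqp ((Ideal.span_singleton_le_iff_mem _).2 hxp)))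
      (Ideal.Quotient.factor_surjective _)
  have h2 : ringKrullDim (A ⧸ q) ≤ d :=
    supportDim_le_iff.1 hd ⟨q, hq.1.1⟩ (Module.mem_support_iff_of_finite.2 hq.1.2)
  rw [← Module.supportDim_quotient_eq_ringKrullDim, ← supportDim_quot_add_one q x hx hxq] at h2
  haveI := nontrivial_quot q x hq.1.1.ne_top hx
  obtain ⟨-, h3⟩ := le_pred_of_add_one_le h2 (Module.supportDim_ne_bot_of_nontrivial A (A ⧸ (q ⊔ Ideal.span {x})))
  rw [Module.supportDim_quotient_eq_ringKrullDim] at h3
  exact h1.trans h3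

variable {W : DRing.Cx A} {c : ℤ}

/-- The top dual: regular element and its cokernel. -/
theorem top_dual_cut (hW : IsResidual W c) (N : Type u) [AddCommGroup N] [Module A N] [Module.Finite A N] (d : ℕ)
    (hd : Module.supportDim A N ≤ d) (hd1 : 1 ≤ d) :
    ∃ x ∈ 𝔪, IsSMulRegular (EH W N (c - d)) x ∧ ∃ (Q : Type u) (_ : AddCommGroup Q) (_ : Module A Q)
      (_ : Module.Finite A Q), Module.supportDim A Q ≤ ((d - 1 : ℕ) : WithBot ℕ∞) ∧
      ∃ j : QuotSMulTop x (EH W N (c - d)) →ₗ[A] EH W Q (c - ((d - 1 : ℕ) : ℤ)), Function.Injective j := by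
  haveI := hW.injective
  obtain ⟨x, hx, hcut⟩ := exists_cut N d hd hd1
  refine ⟨x, hx, ?_⟩
  let m : N →ₗ[A] N := x • LinearMap.id
  let R := LinearMap.range m
  let π : N →ₗ[A] R := m.rangeRestrict
  let K := LinearMap.ker m
  have hsmall : ∀ (Q : Type u) [AddCommGroup Q] [Module A Q] [Module.Finite A Q],
      (∀ v : Q, x • v = 0) → (∀ p, p ∈ Module.support A Q → p ∈ Module.support A N) →
      Module.supportDim A Q ≤ ((d - 1 : ℕ) : WithBot ℕ∞) := fun Q _ _ _ hQ hsub =>
    supportDim_le_iff.2 fun p hp => hcut p (hsub p hp) (Module.mem_support_iff_of_finite.1 hp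
      (Module.mem_annihilator.2 hQ))
  have hK : Module.supportDim A K ≤ ((d - 1 : ℕ) : WithBot ℕ∞) := hsmall K (fun v => Subtype.ext v.2)
    fun p hp => Module.support_subset_of_injective K.subtype Subtype.val_injective hp
  have hQ : Module.supportDim A (N ⧸ R) ≤ ((d - 1 : ℕ) : WithBot ℕ∞) := hsmall (N ⧸ R) (fun v => by
    obtain ⟨v, rfl⟩ := Submodule.Quotient.mk_surjective R v
    exact (Submodule.Quotient.mk_eq_zero R).2 ⟨v, rfl⟩)
    fun p hp => Module.support_subset_of_surjective R.mkQ (Submodule.mkQ_surjective R) hp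
  have hexK : Function.Exact K.subtype π := fun v => by
    show π v = 0 ↔ _
    rw [Subtype.ext_iff]
    exact ⟨fun h => ⟨⟨v, h⟩, rfl⟩, by rintro ⟨w, rfl⟩; exact w.2⟩
  have hπ : Function.Surjective π := m.surjective_rangeRestrict
  haveI := hW.lower K (d - 1) hK (c - d - 1) (by omega)
  haveI := hW.lower K (d - 1) hK (c - d) (by omega)
  haveI := hW.lower (N ⧸ R) (d - 1) hQ (c - d) (by omega)
  have hπinj : Function.Injective (pull W π (c - d)) := injective_of_left_zero Subtype.val_injective hπ hexK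
    (c - d - 1) (c - d) (by omega) fun y => by rw [Subsingleton.elim y 0, map_zero]
  have hπsur : Function.Surjective (pull W π (c - d)) := fun v =>
    (pull_exact Subtype.val_injective hπ hexK (c - d) v).1 (Subsingleton.elim _ _)
  have hexR : Function.Exact R.subtype R.mkQ := LinearMap.exact_subtype_mkQ R
  have hiinj : Function.Injective (pull W R.subtype (c - d)) := (injective_iff_map_eq_zero _).2 fun v hv => by
    obtain ⟨y, rfl⟩ := (pull_exact Subtype.val_injective (Submodule.mkQ_surjective R) hexR (c - d) v).1 hv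
    rw [Subsingleton.elim y 0, map_zero]
  have hcomp : ∀ v, x • v = pull W π (c - d) (pull W R.subtype (c - d) v) := fun v =>
    (pull_smul W x (c - d) v).symm.trans (pull_comp W π R.subtype (c - d) v)
  refine ⟨fun v w h => hiinj (hπinj ((hcomp v).symm.trans (h.trans (hcomp w)))), N ⧸ R, inferInstance, inferInstance,
    inferInstance, hQ, ?_⟩
  let eπ := LinearEquiv.ofBijective (pull W π (c - d)) ⟨hπinj, hπsur⟩
  let δ := conn (W := W) Subtype.val_injective (Submodule.mkQ_surjective R) hexR (c - d) (c - ((d - 1 : ℕ) : ℤ))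
    (by omega)
  let j0 : EH W N (c - d) →ₗ[A] EH W (N ⧸ R) (c - ((d - 1 : ℕ) : ℤ)) := δ ∘ₗ eπ.symm.toLinearMap
  have hle : x • (⊤ : Submodule A (EH W N (c - d))) ≤ LinearMap.ker j0 := fun v hv => by
    obtain ⟨w, -, rfl⟩ := (Submodule.mem_smul_pointwise_iff_exists _ _ _).1 hv
    show δ (eπ.symm (x • w)) = 0
    rw [hcomp, show eπ.symm (pull W π (c - d) (pull W R.subtype (c - d) w)) = pull W R.subtype (c - d) w from
      eπ.symm_apply_apply _]
    exact (pull_conn_exact Subtype.val_injective (Submodule.mkQ_surjective R) hexR (c - d) _ (by omega) _).2 ⟨w, rfl⟩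
  refine ⟨Submodule.liftQ _ j0 hle, (injective_iff_map_eq_zero _).2 fun v hv => ?_⟩
  obtain ⟨v, rfl⟩ := Submodule.Quotient.mk_surjective _ v
  obtain ⟨w, hw⟩ := (pull_conn_exact Subtype.val_injective (Submodule.mkQ_surjective R) hexR (c - d)
    (c - ((d - 1 : ℕ) : ℤ)) (by omega) (eπ.symm v)).1 hv
  refine (Submodule.Quotient.mk_eq_zero _).2 ((Submodule.mem_smul_pointwise_iff_exists _ _ _).2 ⟨w, trivial, ?_⟩)
  rw [hcomp, hw]
  exact eπ.apply_symm_apply v

/-- Serre's condition for the top dual. -/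
theorem depth_top_dual (hW : IsResidual W c) (N : Type u) [AddCommGroup N] [Module A N] [Module.Finite A N] (d : ℕ)
    (hd : Module.supportDim A N ≤ d) :
    ((min 2 d : ℕ) : ℕ∞) ≤ LocCoh.depth A (EH W N (c - d)) := by
  haveI : Module.Finite A (EH W N (c - d)) := hW.finite (ModuleCat.of A N) (c - d)
  rcases Nat.eq_zero_or_pos d with rfl | hd1
  · simp
  obtain ⟨x, hx, hreg, Q, _, _, _, hQ, j, hj⟩ := top_dual_cut hW N d hd hd1
  rcases Nat.lt_or_ge d 2 with hd2 | hd2
  · rw [show min 2 d = 1 by omega, Nat.cast_one]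
    exact DepthLib.one_le_idealDepth_iff.2 ⟨x, hx, hreg⟩
  · rw [show min 2 d = 2 by omega, Nat.cast_ofNat]
    obtain ⟨y, hy, hyreg, -⟩ := top_dual_cut hW Q (d - 1) hQ (by omega)
    exact DepthLib.two_le_idealDepth_iff.2 ⟨x, hx, hreg, y, hy, fun v w h => hj (hyreg (by
      show y • j v = y • j w
      rw [← map_smul, ← map_smul]
      exact congrArg j h))⟩

end Groth.Agent.DualCx
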