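import Groth.Agent.DualCx.BidualCxFinite
import Groth.Agent.RHomCx.Basic
import Mathlib.RingTheory.Flat.EquationalCriterion

/-!
# Duality between finite Tor dimension and finite injective dimension
-/

set_option autoImplicit false
set_option linter.style.haveILetI false

open CategoryTheory CategoryTheory.Limits CochainComplex CochainComplex.HomComplex TensorProduct

universe u

attribute [local instance] HasDerivedCategory.standard

namespace Groth.Agent.DualCx

open Groth.Agent.LocCohLib

variable {A : Type u} [CommRing A] (W : DRing.Cx A)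

/-- Solving linear relations between maps of injective modules. -/
theorem exists_factor_hom_injective {I I' : Type u} [AddCommGroup I] [Module A I] [Module.Injective A I]
    [AddCommGroup I'] [Module A I'] [Module.Injective A I'] {n m : ℕ} (f : Fin n → A) (r : Fin m → Fin n → A)
    (hr : ∀ v : Fin n → A, ∑ i, f i * v i = 0 → v ∈ Submodule.span A (Set.range r))
    (hr' : ∀ j, ∑ i, f i * r j i = 0)
    (φ : Fin n → I →ₗ[A] I') (hφ : ∑ i, f i • φ i = 0) :
    ∃ ψ : Fin m → I →ₗ[A] I', ∀ i, φ i = ∑ j, r j i • ψ j := by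
  classical
  let F : (Fin n → A) →ₗ[A] A := ∑ i, f i • LinearMap.proj i
  have hF : ∀ v, F v = ∑ i, f i * v i := fun v => by simp [F, LinearMap.sum_apply]
  let R : (Fin n → I) →ₗ[A] (Fin m → I) := LinearMap.pi fun j => ∑ i, r j i • LinearMap.proj i
  let Φ : (Fin n → I) →ₗ[A] I' := ∑ i, (φ i).comp (LinearMap.proj i)
  have hR : ∀ y j, R y j = ∑ i, r j i • y i := fun y j => by simp [R, LinearMap.sum_apply]
  have hΦ : ∀ y, Φ y = ∑ i, φ i (y i) := fun y => by simp [Φ, LinearMap.sum_apply]
  have hker : LinearMap.ker R ≤ LinearMap.ker Φ := fun y hy => by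
    rw [LinearMap.mem_ker] at hy ⊢
    let Y : (Fin n → A) →ₗ[A] I := Fintype.linearCombination A y
    have hY : ∀ v, Y v = ∑ i, v i • y i := fun v => Fintype.linearCombination_apply A y v
    have hYk : LinearMap.ker F ≤ LinearMap.ker Y := fun v hv => by
      rw [LinearMap.mem_ker, hF] at hv
      refine (Submodule.span_le (p := LinearMap.ker Y)).2 ?_ (hr v hv)
      rintro _ ⟨j, rfl⟩
      show Y (r j) = 0
      rw [hY, ← hR, hy]
      rfl
    obtain ⟨h, hh⟩ := Module.Injective.out ((LinearMap.ker F).liftQ F le_rfl)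
      (LinearMap.ker_eq_bot.1 (Submodule.ker_liftQ_eq_bot _ _ _ le_rfl)) ((LinearMap.ker F).liftQ Y hYk)
    have hy' : ∀ i, y i = f i • h 1 := fun i => by
      have h1 := hh (Submodule.Quotient.mk (Pi.single i 1))
      rw [Submodule.liftQ_apply, Submodule.liftQ_apply, hF, hY] at h1
      simp [Pi.single_apply] at h1
      rw [← h1, ← h.map_smul, smul_eq_mul, mul_one]
    rw [hΦ]
    have := congrArg (fun g : I →ₗ[A] I' => g (h 1)) hφ
    simp only [LinearMap.sum_apply, LinearMap.smul_apply, LinearMap.zero_apply] at this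
    simpa [hy', map_smul] using this
  obtain ⟨Ψ, hΨ⟩ := Module.Injective.out ((LinearMap.ker R).liftQ R le_rfl)
    (LinearMap.ker_eq_bot.1 (Submodule.ker_liftQ_eq_bot _ _ _ le_rfl)) ((LinearMap.ker R).liftQ Φ hker)
  refine ⟨fun j => Ψ.comp (LinearMap.single A (fun _ => I) j), fun i => LinearMap.ext fun x => ?_⟩
  have h1 := hΨ (Submodule.Quotient.mk (Pi.single i x))
  rw [Submodule.liftQ_apply, Submodule.liftQ_apply] at h1
  have h2 : Φ (Pi.single i x) = φ i x := by
    rw [hΦ, Finset.sum_eq_single i (fun b _ hb => by simp [hb]) (fun h => absurd (Finset.mem_univ i) h)]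
    simp
  have h3 : R (Pi.single i x) = ∑ j, Pi.single j (r j i • x) := by
    funext j
    rw [hR, Finset.sum_eq_single i (fun b _ hb => by simp [hb]) (fun h => absurd (Finset.mem_univ i) h)]
    simp [Finset.sum_apply, Pi.single_apply]
  rw [← h2, ← h1, h3, map_sum, LinearMap.sum_apply]
  refine Finset.sum_congr rfl fun j _ => ?_
  rw [LinearMap.smul_apply, LinearMap.comp_apply, LinearMap.single_apply, ← Ψ.map_smul, ← Pi.single_smul]

/-- `Hom` between complexes of injective modules is termwise flat. -/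
theorem flat_homCx_X [IsNoetherianRing A] (X : DRing.Cx A) (hX : ∀ p, Module.Injective A (X.X p))
    (hW : ∀ q, Module.Injective A (W.X q)) (k : ℤ) : Module.Flat A (Cochain X W k) := by
  refine Module.Flat.of_forall_isTrivialRelation fun {n} {f} {z} hz => ?_
  let F : (Fin n → A) →ₗ[A] A := ∑ i, f i • LinearMap.proj i
  have hF : ∀ v, F v = ∑ i, f i * v i := fun v => by simp [F, LinearMap.sum_apply]
  obtain ⟨m, r, hr⟩ := Submodule.fg_iff_exists_fin_generating_family.1 (IsNoetherian.noetherian (LinearMap.ker F))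
  have hr1 : ∀ v : Fin n → A, ∑ i, f i * v i = 0 → v ∈ Submodule.span A (Set.range r) := fun v hv => by
    rw [hr, LinearMap.mem_ker, hF]; exact hv
  have hr2 : ∀ j, ∑ i, f i * r j i = 0 := fun j => by
    rw [← hF, ← LinearMap.mem_ker, ← hr]
    exact Submodule.subset_span ⟨j, rfl⟩
  have key : ∀ (p q : ℤ) (h : p + k = q), ∃ ψ : Fin m → (X.X p →ₗ[A] W.X q),
      ∀ i, ((z i).v p q h).hom = ∑ j, r j i • ψ j := fun p q h => by
    haveI := hX p
    haveI := hW q
    refine exists_factor_hom_injective f r hr1 hr2 _ ?_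
    have h1 := congrArg (fun c : Cochain X W k => (c.v p q h).hom) hz
    refine Eq.trans ?_ h1
    refine Eq.symm ?_
    exact map_sum (AddMonoidHom.mk' (fun c : Cochain X W k => (c.v p q h).hom)
      (fun c d => by rw [Cochain.add_v, ModuleCat.hom_add])) (fun i => f i • z i) Finset.univ
  choose ψ hψ using key
  refine ⟨m, fun i j => r j i, fun j => Cochain.mk fun p q h => ModuleCat.ofHom (ψ p q h j), fun i => ?_, fun j => hr2 j⟩
  refine Cochain.ext _ _ fun p q h => ModuleCat.hom_ext ?_
  rw [hψ p q h i]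
  refine Eq.symm ?_
  exact map_sum (AddMonoidHom.mk' (fun c : Cochain X W k => (c.v p q h).hom)
    (fun c d => by rw [Cochain.add_v, ModuleCat.hom_add]))
    (fun j => r j i • Cochain.mk fun p q h => ModuleCat.ofHom (ψ p q h j)) Finset.univ

/-- `Hom` from flat modules into injective modules is termwise injective. -/
theorem injective_homCx_X_of_flat (X L : DRing.Cx A) (hX : ∀ p, Module.Flat A (X.X p)) [∀ q, Injective (L.X q)]
    (n : ℤ) : Module.Injective A (Cochain X L n) := by
  refine ⟨fun P B _ _ _ _ f hf g => ?_⟩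
  let φ : ∀ (p q : ℤ) (h : p + n = q), ModuleCat.of A (P ⊗[A] X.X p) ⟶ L.X q := fun p q h =>
    ModuleCat.ofHom (X := P ⊗[A] X.X p) (TensorProduct.lift
      { toFun := fun a => ((g a : Cochain X L n).v p q h).hom
        map_add' := fun a b => by rw [map_add, Cochain.add_v]; rfl
        map_smul' := fun r a => by rw [map_smul, Cochain.smul_v]; rfl })
  haveI : ∀ p, Mono (ModuleCat.ofHom (X := P ⊗[A] X.X p) (Y := B ⊗[A] X.X p) (LinearMap.rTensor (X.X p) f)) := fun p =>
    (ModuleCat.mono_iff_injective _).2 (by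
      haveI := hX p
      exact Module.Flat.rTensor_preserves_injective_linearMap f hf)
  let ψ : ∀ (p q : ℤ) (h : p + n = q), ModuleCat.of A (B ⊗[A] X.X p) ⟶ L.X q := fun p q h =>
    Injective.factorThru (φ p q h) (ModuleCat.ofHom (X := P ⊗[A] X.X p) (Y := B ⊗[A] X.X p)
      (LinearMap.rTensor (X.X p) f))
  refine ⟨{ toFun := fun b => Cochain.mk fun p q h => ModuleCat.ofHom ((ψ p q h).hom ∘ₗ TensorProduct.mk A B (X.X p) b)
            map_add' := fun b c => Cochain.ext _ _ fun p q h => ?_
            map_smul' := fun r b => Cochain.ext _ _ fun p q h => ?_ }, fun a => Cochain.ext _ _ fun p q h => ?_⟩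
  · rw [Cochain.add_v, Cochain.mk_v, Cochain.mk_v, Cochain.mk_v]
    exact ModuleCat.hom_ext (LinearMap.ext fun x => by
      show (ψ p q h).hom ((b + c) ⊗ₜ[A] x) = _
      rw [TensorProduct.add_tmul, map_add]; rfl)
  · rw [RingHom.id_apply, Cochain.smul_v, Cochain.mk_v, Cochain.mk_v]
    exact ModuleCat.hom_ext (LinearMap.ext fun x => by
      show (ψ p q h).hom ((r • b) ⊗ₜ[A] x) = _
      rw [← TensorProduct.smul_tmul', map_smul]; rfl)
  · show (Cochain.mk fun p q h => ModuleCat.ofHom ((ψ p q h).hom ∘ₗ TensorProduct.mk A B (X.X p) (f a))).v p q h = _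
    rw [Cochain.mk_v]
    exact ModuleCat.hom_ext (LinearMap.ext fun x => ConcreteCategory.congr_hom
      (Injective.comp_factorThru (φ p q h) (ModuleCat.ofHom (X := P ⊗[A] X.X p)
        (Y := B ⊗[A] X.X p) (LinearMap.rTensor (X.X p) f))) (a ⊗ₜ[A] x))

theorem isZero_homCx_X {a b c d : ℤ} (X : DRing.Cx A) (hX : ∀ p, (p < c ∨ d < p) → IsZero (X.X p))
    (hW : ∀ q, (q < a ∨ b < q) → IsZero (W.X q)) (k : ℤ) (hk : k < a - d ∨ b - c < k) :
    IsZero ((LocCohLib.homCx X W).X k) :=
  @ModuleCat.isZero_of_subsingleton _ _ _ (subsingleton_of_forall_eq (0 : Cochain X W k) fun z =>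
    Cochain.ext _ _ fun p q h => by
      by_cases hq : q < a ∨ b < q
      · exact (hW q hq).eq_of_tgt _ _
      · exact (hX p (by omega)).eq_of_src _ _)

/-- Isomorphisms in the derived category act on `Hom(-, W)`. -/
theorem nonempty_homCx_iso [W.IsKInjective] [∀ i, Injective (W.X i)] {X Y : DRing.Cx A}
    (Φ : DerivedCategory.Q.obj X ≅ DerivedCategory.Q.obj Y) :
    Nonempty (DerivedCategory.Q.obj (LocCohLib.homCx X W) ≅ DerivedCategory.Q.obj (LocCohLib.homCx Y W)) := by
  obtain ⟨X', s, hs, f, hf⟩ := DerivedCategory.right_fac Φ.hom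
  haveI := hs
  haveI : IsIso (DerivedCategory.Q.map f) := by
    have : DerivedCategory.Q.map f = DerivedCategory.Q.map s ≫ Φ.hom := by rw [hf, IsIso.hom_inv_id_assoc]
    rw [this]; infer_instance
  haveI : QuasiIso s := (DerivedCategory.isIso_Q_map_iff_quasiIso _ _).1 hs
  haveI : QuasiIso f := (DerivedCategory.isIso_Q_map_iff_quasiIso _ _).1 inferInstance
  haveI := quasiIso_pre W s
  haveI := quasiIso_pre W f
  haveI := (DerivedCategory.isIso_Q_map_iff_quasiIso _ (LocCohLib.homCxPre s W)).2 inferInstance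
  haveI := (DerivedCategory.isIso_Q_map_iff_quasiIso _ (LocCohLib.homCxPre f W)).2 inferInstance
  exact ⟨asIso (DerivedCategory.Q.map (LocCohLib.homCxPre s W)) ≪≫
    (asIso (DerivedCategory.Q.map (LocCohLib.homCxPre f W))).symm⟩

theorem finiteTorDim_iff_finiteInjDim {ω : Dual.D A} (hω : Dual.IsDualizing A ω) (G : DRing.Cx A)
    [DRing.HasRHomCx G] (hfin : ∀ i : ℤ, Module.Finite A (Dual.HD A (DRing.toD G) i)) :
    DRing.HasFiniteTorDimCx A (DRing.toD G) ↔ DRing.HasFiniteInjDim A ((DRing.RHomCx G).obj ω) := by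
  haveI := hω.isNoetherianRing
  obtain ⟨W, a, b, hW, hinj, hzero, ⟨e⟩⟩ := exists_model hω.finite_injective_dimension
  haveI := hW
  haveI := hinj
  haveI := RHomCx.isIso_unit G W
  let g : (DRing.RHomCx G).obj ω ≅ DerivedCategory.Q.obj (LocCohLib.homCx G W) :=
    (DRing.RHomCx G).mapIso e.symm ≪≫ (asIso ((RHomCx.unit G).app W)).symm
  constructor
  · rintro ⟨c, d, E, hE, hflat, ⟨eE⟩⟩
    obtain ⟨h⟩ := nonempty_homCx_iso W (X := E) (Y := G) eE
    exact ⟨a - d, b - c, LocCohLib.homCx E W, fun k hk => isZero_homCx_X W E hE hzero k hk,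
      fun k => injective_homCx_X_of_flat E W hflat k, ⟨h ≪≫ g.symm⟩⟩
  · rintro ⟨c, d, I, hI, hinjI, ⟨eI⟩⟩
    obtain ⟨h⟩ := nonempty_homCx_iso W (X := I) (Y := LocCohLib.homCx G W) (eI ≪≫ g)
    have hgood := good_of_finite W a b hzero e hω G fun i => by
      haveI : Module.Finite A ((DerivedCategory.Q ⋙ DerivedCategory.homologyFunctor (ModuleCat.{u} A) i).obj G) := hfin i
      exact Module.Finite.equiv ((DerivedCategory.homologyFunctorFactors (ModuleCat.{u} A) i).app G).toLinearEquiv
    haveI : QuasiIso (evC W G) := ⟨fun i => (quasiIsoAt_iff_isIso_homologyMap _ _).2 (hgood i).1⟩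
    haveI := (DerivedCategory.isIso_Q_map_iff_quasiIso _ (evC W G)).2 inferInstance
    exact ⟨a - d, b - c, LocCohLib.homCx I W, fun k hk => isZero_homCx_X W I hI hzero k hk,
      fun k => flat_homCx_X W I hinjI (fun q => (Module.injective_iff_injective_object A (W.X q)).2 (hinj q)) k,
      ⟨h ≪≫ (asIso (DerivedCategory.Q.map (evC W G))).symm⟩⟩

end Groth.Agent.DualCx
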